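/-
Multiplicities of eigenvalues, determinants of involutions and small facts on characters of finite
simple groups.
-/
import Cfsg.Agent.Lib.CharTheory.PowerMap
import Cfsg.Agent.Lib.CharTheory.DetSelfCent
import Cfsg.Agent.Lib.CharTheory.Linear
import Cfsg.Agent.Lib.Blocks.DefectZeroCount

set_option autoImplicit false
set_option linter.style.haveILetI false
set_option linter.unusedSectionVars false

namespace CfsgSimpleM11

open Cfsg CfsgLib.CharTheory
open scoped ComplexConjugate

universe u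
variable {G : Type u} [Group G] [Fintype G]

theorem irr_degree (χ : IrrCharacter G) : (χ : G → ℂ) 1 = (charDegree (χ : G → ℂ) : ℂ) :=
  (CfsgLib.Blocks.irr_charDegree_cast χ).symm

theorem irr_conjInv (χ : IrrCharacter G) (g h : G) : (χ : G → ℂ) (h * g * h⁻¹) = (χ : G → ℂ) g :=
  isClassFunction_irr χ.2 g h

theorem irr_of_isConj (χ : IrrCharacter G) {g h : G} (hgh : IsConj g h) :
    (χ : G → ℂ) g = (χ : G → ℂ) h := by
  obtain ⟨c, rfl⟩ := isConj_iff.mp hgh
  exact (irr_conjInv χ g c).symm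

/-- The multiplicity of a character of a cyclic group in a restriction. -/
theorem exists_mult (χ : IrrCharacter G) {n : ℕ} [NeZero n] {x : G} (hx : x ^ n = 1)
    (ψ : AddChar (ZMod n) ℂ) :
    ∃ m : ℕ, ∑ i : ZMod n, ψ i * (χ : G → ℂ) (x ^ i.val) = (n : ℂ) * m := by
  classical
  obtain ⟨d, ρ, -, hρ⟩ := χ.2
  let φ : Multiplicative (ZMod n) →* G :=
    { toFun := fun a => x ^ (Multiplicative.toAdd a).val
      map_one' := by simp
      map_mul' := fun a b => by
        rw [toAdd_mul, ← pow_add]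
        exact pow_eq_pow_of_modEq (by rw [ZMod.val_add]; exact Nat.mod_modEq _ _) hx }
  let l : Multiplicative (ZMod n) →* ℂ :=
    { toFun := fun a => ψ (Multiplicative.toAdd a)
      map_one' := by simp
      map_mul' := fun a b => by rw [toAdd_mul, AddChar.map_add_eq_mul] }
  let σ : Representation ℂ (Multiplicative (ZMod n)) (Fin d → ℂ) :=
    { toFun := fun a => l a • ρ (φ a)
      map_one' := by rw [map_one, map_one, map_one, one_smul]
      map_mul' := fun a b => by rw [map_mul, map_mul, map_mul, smul_mul_smul_comm] }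
  haveI : Invertible (Nat.card (Multiplicative (ZMod n)) : ℂ) :=
    invertibleOfNonzero (Nat.cast_ne_zero.2 Nat.card_pos.ne')
  have h := σ.card_inv_mul_sum_char_eq_finrank
  refine ⟨Module.finrank ℂ σ.invariants, ?_⟩
  rw [inv_mul_eq_iff_eq_mul₀ (Nat.cast_ne_zero.2 Nat.card_pos.ne')] at h
  have hc : (Nat.card (Multiplicative (ZMod n)) : ℂ) = (n : ℂ) := by
    rw [Nat.card_congr Multiplicative.toAdd, Nat.card_zmod]
  rw [hc] at h
  rw [← h]
  refine Fintype.sum_equiv Multiplicative.ofAdd _ _ fun i => ?_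
  show _ = LinearMap.trace ℂ _ (l _ • ρ (φ _))
  rw [map_smul, smul_eq_mul, ← hρ]
  rfl

theorem sum_prod_pm (S : Multiset ℂ) (h : ∀ x ∈ S, x = 1 ∨ x = -1) :
    ∃ k : ℕ, k ≤ Multiset.card S ∧ S.sum = (Multiset.card S : ℂ) - 2 * k ∧ S.prod = (-1) ^ k := by
  induction S using Multiset.induction with
  | empty => exact ⟨0, le_rfl, by simp, by simp⟩
  | cons x S ih =>
    obtain ⟨k, hk0, hk1, hk2⟩ := ih fun y hy => h y (Multiset.mem_cons_of_mem hy)
    rcases h x (Multiset.mem_cons_self x S) with rfl | rfl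
    · exact ⟨k, by simp; omega, by simp [hk1]; ring, by simp [hk2]⟩
    · exact ⟨k + 1, by simp; omega, by simp [hk1]; ring, by simp [hk2, pow_succ]⟩

/-- An element of square one has eigenvalues plus and minus one. -/
theorem two_mults (χ : IrrCharacter G) {t : G} (ht : t * t = 1) :
    ∃ k : ℕ, k ≤ charDegree (χ : G → ℂ) ∧
      (χ : G → ℂ) t = (((charDegree (χ : G → ℂ) : ℤ) - 2 * k : ℤ) : ℂ) ∧
      ((∀ f : G →* ℂˣ, f = 1) → Even k) := by
  obtain ⟨d, ρ, -, hρ⟩ := χ.2
  have hroot : ∀ x ∈ charRoots ρ t, x = 1 ∨ x = -1 := fun x hx => by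
    have h1 := pow_eq_one_of_mem_charRoots ρ t hx
    obtain ⟨r, hr⟩ := orderOf_dvd_of_pow_eq_one (show t ^ 2 = 1 by rw [pow_two, ht])
    have h3 : x ^ 2 = 1 := by rw [hr, pow_mul, h1, one_pow]
    exact sq_eq_one_iff.mp h3
  obtain ⟨k, hk0, hk1, hk2⟩ := sum_prod_pm _ hroot
  rw [← character_eq_sum_charRoots, card_charRoots, Module.finrank_fin_fun, hρ] at hk1
  rw [card_charRoots, Module.finrank_fin_fun] at hk0
  have hd : charDegree (χ : G → ℂ) = d := by
    have h1 : (χ : G → ℂ) 1 = d := by rw [← hρ, Representation.char_one, Module.finrank_fin_fun]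
    rw [irr_degree] at h1
    exact Nat.cast_inj.mp h1
  refine ⟨k, hd ▸ hk0, by rw [hk1, hd]; push_cast; ring, fun hperf => ?_⟩
  have hdet : LinearMap.det (ρ t) = (charRoots ρ t).prod := by
    let b := Module.finBasis ℂ (Fin d → ℂ)
    rw [charRoots, ← LinearMap.charpoly_toMatrix (ρ t) b, ← Matrix.det_eq_prod_roots_charpoly,
      LinearMap.det_toMatrix]
  have h1 : LinearMap.det (ρ t) = 1 := by rw [← coe_detHom, hperf (detHom ρ)]; rfl
  rw [hdet, hk2] at h1
  exact neg_one_pow_eq_one_iff_even (by norm_num) |>.mp h1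

/-- A character of a simple group is constant only if it is trivial. -/
theorem eq_one_of_eq_degree [IsSimpleGroup G] (χ : IrrCharacter G) {g : G} (hg : g ≠ 1)
    (h : (χ : G → ℂ) g = (χ : G → ℂ) 1) : (χ : G → ℂ) = fun _ => 1 := by
  have hc := isCharacter_of_irr χ.2
  have hn : (charKernel _ hc).Normal := by
    rw [charKernel]; exact MonoidHom.normal_ker _
  rcases hn.eq_bot_or_eq_top with hb | ht
  · exact absurd (Subgroup.mem_bot.mp (hb ▸ (mem_charKernel hc g).2 h)) hg
  · exact irr_eq_one_of_kernel_top χ.2 (fun y => (mem_charKernel hc y).1 (ht ▸ Subgroup.mem_top y))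

end CfsgSimpleM11
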