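/-
The Sylow subgroups for eleven of a simple group of order 7920.
-/
import Cfsg.Agent.Lib.SmallOrders.Order7920
import Cfsg.Agent.Lib.SimpleM11.Fourier
import Cfsg.Prelude.Def_Sporadic

set_option autoImplicit false
set_option linter.style.haveILetI false
set_option linter.unusedSectionVars false

namespace CfsgSimpleM11

open Cfsg Subgroup
open scoped Pointwise

variable {G : Type*} [Group G] [Finite G]

theorem card_eq (hG : IsM11 G) : Nat.card G = 7920 := hG.2

theorem simple (hG : IsM11 G) : IsSimpleGroup G := hG.1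

theorem normal_cases (hG : IsM11 G) {N : Subgroup G} (hN : N.Normal) : N = ⊥ ∨ N = ⊤ :=
  haveI := simple hG
  hN.eq_bot_or_eq_top

theorem hom_trivial (hG : IsM11 G) (f : G →* ℂˣ) : f = 1 := by
  rcases normal_cases hG (MonoidHom.normal_ker f) with h | h
  · exfalso
    haveI := simple hG
    have hcomm : ∀ x y : G, x * y = y * x := fun x y => by
      apply (MonoidHom.ker_eq_bot_iff f).1 h
      rw [map_mul, map_mul, mul_comm]
    letI : CommGroup G := { (inferInstance : Group G) with mul_comm := hcomm }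
    have h7 : (Nat.card G).Prime := IsSimpleGroup.prime_card
    rw [card_eq hG] at h7
    norm_num at h7
  · exact MonoidHom.ker_eq_top_iff.mp h

theorem orderOf_of_isConj {g h : G} (hgh : IsConj g h) : orderOf h = orderOf g := by
  obtain ⟨c, rfl⟩ := isConj_iff.mp hgh
  exact (MulAut.conj c).orderOf_eq g

theorem not_isConj_of_orderOf {g h : G} (hne : orderOf g ≠ orderOf h) : ¬ IsConj g h :=
  fun e => hne (orderOf_of_isConj e).symm

theorem mem_cent {g x : G} : x ∈ centralizer ({g} : Set G) ↔ x * g = g * x :=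
  mem_centralizer_singleton_iff

theorem cent_zpowers (a : G) :
    centralizer ((zpowers a : Subgroup G) : Set G) = centralizer ({a} : Set G) := by
  rw [zpowers_eq_closure, centralizer_closure]

theorem mem_norm_of_conj_pow {a g : G} {k : ℕ} (h : g * a * g⁻¹ = a ^ k) :
    g ∈ normalizer ((zpowers a : Subgroup G) : Set G) := by
  have hmap : (zpowers a).map (MulAut.conj g).toMonoidHom ≤ zpowers a := by
    rw [MonoidHom.map_zpowers, zpowers_le]
    show g * a * g⁻¹ ∈ _
    rw [h]
    exact pow_mem (mem_zpowers a) k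
  have heq : (zpowers a).map (MulAut.conj g).toMonoidHom = zpowers a :=
    eq_of_le_of_card_ge hmap (le_of_eq (card_map_of_injective (MulAut.conj g).injective).symm)
  refine mem_normalizer_iff.2 fun w => ⟨fun hw => heq.le ⟨w, hw, rfl⟩, fun hw => ?_⟩
  obtain ⟨v, hv, e⟩ := heq.ge hw
  exact (MulAut.conj g).injective e ▸ hv

theorem conj_pow_of_mem_norm {a g : G} (h : g ∈ normalizer ((zpowers a : Subgroup G) : Set G)) :
    ∃ k : ℕ, k < orderOf a ∧ g * a * g⁻¹ = a ^ k := by
  classical
  have h1 := (mem_normalizer_iff.1 h a).1 (mem_zpowers a)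
  rw [mem_zpowers_iff_mem_range_orderOf, Finset.mem_image] at h1
  obtain ⟨k, hk, hk'⟩ := h1
  exact ⟨k, Finset.mem_range.1 hk, hk'.symm⟩

theorem conj_pow_iter {a g : G} {k : ℕ} (h : g * a * g⁻¹ = a ^ k) :
    ∀ j : ℕ, g ^ j * a * (g ^ j)⁻¹ = a ^ (k ^ j)
  | 0 => by simp
  | j + 1 => by
    have : g ^ (j + 1) * a * (g ^ (j + 1))⁻¹ = g * (g ^ j * a * (g ^ j)⁻¹) * g⁻¹ := by
      rw [pow_succ']; group
    rw [this, conj_pow_iter h j, ← conj_pow, h, ← pow_mul, pow_succ, mul_comm]

theorem cent_normal_subgroupOf (a : G) :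
    ((centralizer ({a} : Set G)).subgroupOf (normalizer ((zpowers a : Subgroup G) : Set G))).Normal := by
  rw [← cent_zpowers, ← normalizerMonoidHom_ker]
  exact MonoidHom.normal_ker _

theorem cent_le_norm (a : G) :
    centralizer ({a} : Set G) ≤ normalizer ((zpowers a : Subgroup G) : Set G) := by
  rw [← cent_zpowers]
  exact centralizer_le_normalizer _

theorem orderOf_eq_of_mem {a b : G} {p : ℕ} (hp : p.Prime) (hb : orderOf a = p) (h : b ∈ zpowers a)
    (h1 : b ≠ 1) : orderOf b = p := by
  have := orderOf_dvd_natCard (zpowers a) h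
  rw [Nat.card_zpowers, hb] at this
  rcases (Nat.dvd_prime hp).mp this with e | e
  · exact absurd (orderOf_eq_one_iff.mp e) h1
  · exact e

/-- No Sylow subgroup is central in its normaliser. -/
theorem no_transfer (hG : IsM11 G) {p : ℕ} [Fact p.Prime] (P : Sylow p G)
    (h1 : 1 < Nat.card (P : Subgroup G)) (h2 : Nat.card (P : Subgroup G) < 7920)
    (h : normalizer ((P : Subgroup G) : Set G) ≤ centralizer ((P : Subgroup G) : Set G)) : False := by
  haveI : (P : Subgroup G).FiniteIndex := ⟨index_ne_zero_of_finite⟩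
  have hc := MonoidHom.ker_transferSylow_isComplement' P h
  have hm := hc.card_mul
  rw [card_eq hG] at hm
  rcases normal_cases hG (MonoidHom.normal_ker (MonoidHom.transferSylow P h)) with e | e <;>
    rw [e] at hm
  · rw [card_bot, one_mul] at hm; omega
  · rw [card_top, card_eq hG] at hm; omega

/-- A subgroup generated by an element as a Sylow subgroup. -/
theorem exists_sylow_of_zpowers (hG : IsM11 G) {p : ℕ} [Fact p.Prime] {a : G} (ha : orderOf a = p)
    (h : ¬ p ^ 2 ∣ 7920) : ∃ P : Sylow p G, (P : Subgroup G) = zpowers a := by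
  have hp : p.Prime := Fact.out
  refine ⟨Sylow.ofCard (zpowers a) ?_, rfl⟩
  rw [Nat.card_zpowers, ha, card_eq hG]
  have h1 : p ∣ 7920 := card_eq hG ▸ ha ▸ orderOf_dvd_natCard a
  rw [CfsgLib.Order7920.fac_eq hp (by norm_num) (show p ^ 1 ∣ 7920 by rwa [pow_one]) h, pow_one]

theorem norm11 (hG : IsM11 G) {a : G} (ha : orderOf a = 11) :
    Nat.card (normalizer ((zpowers a : Subgroup G) : Set G)) = 55 := by
  obtain ⟨P, hP⟩ := exists_sylow_of_zpowers hG ha (by norm_num)
  have hfaith : ∀ g : G, (∀ R : Sylow 11 G, g • R = R) → g = 1 := by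
    intro g hg
    rcases normal_cases hG (MonoidHom.normal_ker (MulAction.toPermHom G (Sylow 11 G))) with h | h
    · exact mem_bot.mp (h ▸ (MonoidHom.mem_ker.mpr (Equiv.ext hg)))
    · exfalso
      have hN : ((P : Subgroup G)).Normal := by
        rw [← normalizer_eq_top_iff, eq_top_iff]
        intro x _
        refine Sylow.smul_eq_iff_mem_normalizer.mp ?_
        have hx : x ∈ (MulAction.toPermHom G (Sylow 11 G)).ker := h ▸ mem_top x
        exact Equiv.ext_iff.mp (MonoidHom.mem_ker.mp hx) P
      have hc := CfsgLib.Order7920.card_eleven (card_eq hG) P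
      rcases normal_cases hG hN with e | e <;> rw [e] at hc
      · simp at hc
      · rw [card_top, card_eq hG] at hc; omega
  have hn : Nat.card (Sylow 11 G) = 144 := by
    rcases CfsgLib.Order7920.sylow_count_cases (card_eq hG) with h | h | h | h
    · exfalso
      rw [CfsgLib.Order7920.sylow_card_index P, index_eq_one] at h
      have hc := CfsgLib.Order7920.card_eleven (card_eq hG) P
      rcases normal_cases hG (normalizer_eq_top_iff.mp h) with e | e <;> rw [e] at hc
      · simp at hc
      · rw [card_top, card_eq hG] at hc; omega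
    · exact (CfsgLib.Order7920.twelve_impossible (card_eq hG) hfaith P h).elim
    · exact (CfsgLib.Order7920.forty_five_impossible (card_eq hG) hfaith P h).elim
    · exact h
  have := (normalizer ((P : Subgroup G) : Set G)).card_mul_index
  rw [← CfsgLib.Order7920.sylow_card_index P, hn, card_eq hG, hP] at this
  omega

theorem cent11 (hG : IsM11 G) {a : G} (ha : orderOf a = 11) :
    Nat.card (centralizer ({a} : Set G)) = 11 := by
  obtain ⟨P, hP⟩ := exists_sylow_of_zpowers hG ha (by norm_num)
  have hN := norm11 hG ha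
  have hle := cent_le_norm a
  have hd := card_dvd_of_le hle
  rw [hN] at hd
  have h11 : 11 ∣ Nat.card (centralizer ({a} : Set G)) := by
    have := card_dvd_of_le (zpowers_le.mpr (mem_cent.mpr rfl) : zpowers a ≤ centralizer ({a} : Set G))
    rwa [Nat.card_zpowers, ha] at this
  have h55 : Nat.card (centralizer ({a} : Set G)) ≠ 55 := by
    intro h
    refine no_transfer hG P (by rw [hP, Nat.card_zpowers, ha]; norm_num)
      (by rw [hP, Nat.card_zpowers, ha]; norm_num) ?_
    rw [hP, cent_zpowers]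
    exact (eq_of_le_of_card_ge hle (by rw [h, hN])).ge
  have hdiv : Nat.card (centralizer ({a} : Set G)) ∈ Nat.divisors 55 :=
    Nat.mem_divisors.2 ⟨hd, by norm_num⟩
  revert hdiv h11 h55
  generalize Nat.card (centralizer ({a} : Set G)) = c
  intro h11 h55 hdiv
  have key : ∀ c ∈ Nat.divisors 55, 11 ∣ c → c ≠ 55 → c = 11 := by decide
  exact key c hdiv h11 h55

theorem cent11_eq (hG : IsM11 G) {a : G} (ha : orderOf a = 11) :
    centralizer ({a} : Set G) = zpowers a :=
  (eq_of_le_of_card_ge (zpowers_le.mpr (mem_cent.mpr rfl))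
    (by rw [cent11 hG ha, Nat.card_zpowers, ha])).symm

/-- An element commuting with one of order eleven is a power of it. -/
theorem not_eleven_dvd_cent (hG : IsM11 G) {t : G} (ht : orderOf t ≠ 1) (ht' : orderOf t ≠ 11) :
    ¬ 11 ∣ Nat.card (centralizer ({t} : Set G)) := by
  intro h
  haveI : Fact (Nat.Prime 11) := ⟨by norm_num⟩
  obtain ⟨b, hb, hbo⟩ := CfsgLib.Order7920.exists_order (show Nat.Prime 11 by norm_num) h
  have hm : t ∈ zpowers b := by
    rw [← cent11_eq hG hbo, mem_cent]
    exact (mem_cent.mp hb).symm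
  exact ht' (orderOf_eq_of_mem (by norm_num) hbo hm (fun e => ht (by rw [e, orderOf_one])))

theorem exists_conj_three (hG : IsM11 G) {a : G} (ha : orderOf a = 11) :
    IsConj a (a ^ 3) := by
  haveI : Fact (Nat.Prime 5) := ⟨by norm_num⟩
  obtain ⟨g, hg, hgo⟩ := CfsgLib.Order7920.exists_order (show Nat.Prime 5 by norm_num)
    (show 5 ∣ Nat.card (normalizer ((zpowers a : Subgroup G) : Set G)) by rw [norm11 hG ha]; norm_num)
  obtain ⟨k, hk, hk'⟩ := conj_pow_of_mem_norm hg
  rw [ha] at hk
  have h5 := conj_pow_iter hk' 5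
  have hg5 : g ^ 5 = 1 := hgo ▸ pow_orderOf_eq_one g
  rw [hg5, one_mul, inv_one, mul_one] at h5
  have hk5 : k ^ 5 % 11 = 1 := by
    have := (pow_eq_pow_iff_modEq (x := a)).mp ((pow_one a).trans h5)
    rw [ha] at this
    exact this.symm
  have hk1 : k ≠ 1 := by
    rintro rfl
    rw [pow_one, mul_inv_eq_iff_eq_mul] at hk'
    have := orderOf_dvd_natCard (centralizer ({a} : Set G)) (mem_cent.mpr hk')
    rw [cent11 hG ha, hgo] at this
    norm_num at this
  have key : ∀ k < 11, k ^ 5 % 11 = 1 → k ≠ 1 → ∃ j < 5, k ^ j % 11 = 3 := by decide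
  obtain ⟨j, -, hj⟩ := key k hk hk5 hk1
  refine isConj_iff.mpr ⟨g ^ j, ?_⟩
  rw [conj_pow_iter hk' j, pow_eq_pow_iff_modEq, ha]
  exact hj

theorem not_conj_inv (hG : IsM11 G) {a : G} (ha : orderOf a = 11) : ¬ IsConj a a⁻¹ := by
  intro h
  obtain ⟨g, hg⟩ := isConj_iff.mp h
  have h10 : a⁻¹ = a ^ 10 := inv_eq_of_mul_eq_one_left (by
    rw [← pow_succ]; exact orderOf_dvd_iff_pow_eq_one.mp ha.dvd)
  rw [h10] at hg
  have hgN := mem_norm_of_conj_pow hg
  have hodd : g ^ 55 = 1 := by
    have := orderOf_dvd_natCard (normalizer ((zpowers a : Subgroup G) : Set G)) hgN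
    rw [norm11 hG ha] at this
    exact orderOf_dvd_iff_pow_eq_one.mp this
  have h55 := conj_pow_iter hg 55
  rw [hodd, one_mul, inv_one, mul_one] at h55
  have := (pow_eq_pow_iff_modEq (x := a)).mp ((pow_one a).trans h55)
  rw [ha] at this
  revert this
  decide

theorem not_inverted (hG : IsM11 G) {a i : G} (ha : orderOf a = 11) : i * a * i⁻¹ ≠ a⁻¹ :=
  fun h => not_conj_inv hG ha (isConj_iff.mpr ⟨i, h⟩)

end CfsgSimpleM11
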