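/-
The column of an element of order eleven.
-/
import Cfsg.Agent.Lib.SimpleM11.Group
import Mathlib.Analysis.SpecialFunctions.Complex.CircleAddChar
import Mathlib.NumberTheory.LegendreSymbol.AddCharacter

set_option autoImplicit false
set_option linter.style.haveILetI false
set_option linter.unusedSectionVars false

namespace CfsgSimpleM11

open Cfsg CfsgLib.CharTheory
open scoped ComplexConjugate

universe u
variable {G : Type u} [Group G] [Fintype G]

theorem sum_zmod (n : ℕ) [NeZero n] (f : ℕ → ℂ) :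
    ∑ i : ZMod n, f i.val = ∑ k ∈ Finset.range n, f k :=
  Finset.sum_bij (fun i _ => i.val) (fun i _ => Finset.mem_range.2 i.val_lt)
    (fun _ _ _ _ h => ZMod.val_injective n h)
    (fun k hk => ⟨(k : ZMod n), Finset.mem_univ _, ZMod.val_natCast_of_lt (Finset.mem_range.1 hk)⟩)
    (fun _ _ => rfl)

theorem exists_mult_range (χ : IrrCharacter G) {n : ℕ} [NeZero n] {x : G} (hx : x ^ n = 1)
    {z : ℂ} (hz : z ^ n = 1) :
    ∃ m : ℕ, ∑ k ∈ Finset.range n, z ^ k * (χ : G → ℂ) (x ^ k) = (n : ℂ) * m := by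
  obtain ⟨m, hm⟩ := exists_mult χ hx (AddChar.zmodChar n hz)
  refine ⟨m, ?_⟩
  rw [← hm, ← sum_zmod n fun k => z ^ k * (χ : G → ℂ) (x ^ k)]
  rfl

theorem irr_inv (χ : IrrCharacter G) (g : G) : (χ : G → ℂ) g⁻¹ = conj ((χ : G → ℂ) g) :=
  char_apply_inv (isCharacter_of_irr χ.2) g

theorem isConj_pow {g h : G} (hgh : IsConj g h) (k : ℕ) : IsConj (g ^ k) (h ^ k) := by
  obtain ⟨c, rfl⟩ := isConj_iff.mp hgh
  exact isConj_iff.mpr ⟨c, conj_pow.symm⟩

theorem pow_conj_eq (χ : IrrCharacter G) {a : G} {k : ℕ} (h : IsConj a (a ^ k)) (j : ℕ) :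
    (χ : G → ℂ) (a ^ (k * j)) = (χ : G → ℂ) (a ^ j) := by
  rw [pow_mul]
  exact (irr_of_isConj χ (isConj_pow h j)).symm

theorem pow_red {a : G} {n : ℕ} (ha : orderOf a = n) {k j : ℕ} (h : k % n = j % n) : a ^ k = a ^ j := by
  rw [pow_eq_pow_iff_modEq, ha]; exact h

/-- The data attached to a character by its value at an element of order eleven. -/
theorem eleven_data (hG : IsM11 G) {a : G} (ha : orderOf a = 11) (χ : IrrCharacter G) :
    ∃ s t : ℤ, ∃ n : ℕ, (χ : G → ℂ) a + (χ : G → ℂ) a⁻¹ = s ∧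
      ((χ : G → ℂ) a - (χ : G → ℂ) a⁻¹) ^ 2 = -11 * (t : ℂ) ^ 2 ∧
      (charDegree (χ : G → ℂ) : ℤ) + 5 * s = 11 * n ∧ 2 ∣ s - t := by
  classical
  have ha11 : a ^ 11 = 1 := orderOf_dvd_iff_pow_eq_one.mp ha.dvd
  have h3 := exists_conj_three hG ha
  set v : ℕ → ℂ := fun k => (χ : G → ℂ) (a ^ k) with hv
  have hstep : ∀ j m : ℕ, (3 * j) % 11 = m % 11 → v m = v j := fun j m hjm => by
    simp only [hv]
    rw [← pow_red ha hjm, pow_conj_eq χ h3]
  set α := (χ : G → ℂ) a with hα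
  set β := (χ : G → ℂ) a⁻¹ with hβ
  have e1 : v 1 = α := by simp [hv, hα]
  have e3 : v 3 = α := (hstep 1 3 rfl).trans e1
  have e9 : v 9 = α := (hstep 3 9 rfl).trans e3
  have e5 : v 5 = α := (hstep 9 5 rfl).trans e9
  have e4 : v 4 = α := (hstep 5 4 rfl).trans e5
  have e10 : v 10 = β := by
    simp only [hv, hβ]
    exact congrArg _ (eq_inv_of_mul_eq_one_left (show a ^ 10 * a = 1 by rw [← pow_succ]; exact ha11))
  have e8 : v 8 = β := (hstep 10 8 rfl).trans e10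
  have e2 : v 2 = β := (hstep 8 2 rfl).trans e8
  have e6 : v 6 = β := (hstep 2 6 rfl).trans e2
  have e7 : v 7 = β := (hstep 6 7 rfl).trans e6
  have e0 : v 0 = (charDegree (χ : G → ℂ) : ℂ) := by simp [hv, irr_degree]
  have expand : ∀ z : ℂ, z ^ 11 = 1 → ∃ m : ℕ, (charDegree (χ : G → ℂ) : ℂ) +
      α * (z + z ^ 3 + z ^ 4 + z ^ 5 + z ^ 9) + β * (z ^ 2 + z ^ 6 + z ^ 7 + z ^ 8 + z ^ 10) = 11 * m := by
    intro z hz
    obtain ⟨m, hm⟩ := exists_mult_range χ ha11 hz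
    refine ⟨m, ?_⟩
    rw [Nat.cast_ofNat] at hm
    rw [← hm]
    simp only [Finset.sum_range_succ, Finset.sum_range_zero]
    have hv' : ∀ k, (χ : G → ℂ) (a ^ k) = v k := fun k => rfl
    simp only [hv', e0, e1, e2, e3, e4, e5, e6, e7, e8, e9, e10]
    ring
  obtain ⟨z, hz, hsum⟩ : ∃ z : ℂ, z ^ 11 = 1 ∧ 1 + z + z ^ 2 + z ^ 3 + z ^ 4 + z ^ 5 + z ^ 6 + z ^ 7 + z ^ 8 +
      z ^ 9 + z ^ 10 = 0 := by
    obtain ⟨z, hz⟩ : ∃ z : ℂ, IsPrimitiveRoot z 11 :=
      ⟨_, Complex.isPrimitiveRoot_exp 11 (by norm_num)⟩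
    refine ⟨z, hz.pow_eq_one, ?_⟩
    have := hz.geom_sum_eq_zero (by norm_num)
    simp only [Finset.sum_range_succ, Finset.sum_range_zero] at this
    linear_combination this
  obtain ⟨n0, h0⟩ := expand 1 (one_pow _)
  obtain ⟨n1, h1⟩ := expand z hz
  have hz10 : (z ^ 10) ^ 11 = 1 := by rw [← pow_mul, mul_comm, pow_mul, hz, one_pow]
  obtain ⟨n2, h2⟩ := expand (z ^ 10) hz10
  have hp : ∀ k : ℕ, z ^ k = z ^ (k % 11) := fun k => pow_eq_pow_mod k hz
  have h2' : (charDegree (χ : G → ℂ) : ℂ) +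
      α * (z ^ 2 + z ^ 6 + z ^ 7 + z ^ 8 + z ^ 10) + β * (z + z ^ 3 + z ^ 4 + z ^ 5 + z ^ 9) = 11 * n2 := by
    rw [← h2]
    simp only [← pow_mul]
    rw [hp (10 * 3), hp (10 * 4), hp (10 * 5), hp (10 * 9), hp (10 * 2), hp (10 * 6), hp (10 * 7),
      hp (10 * 8), hp (10 * 10)]
    norm_num
    ring
  refine ⟨2 * charDegree (χ : G → ℂ) - 11 * (n1 + n2), (n1 : ℤ) - n2, n0, ?_, ?_, ?_, ?_⟩
  · push_cast
    linear_combination -h1 - h2' + (α + β) * hsum
  · have hd : (α - β) * ((z + z ^ 3 + z ^ 4 + z ^ 5 + z ^ 9) - (z ^ 2 + z ^ 6 + z ^ 7 + z ^ 8 + z ^ 10)) =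
        11 * ((n1 : ℂ) - n2) := by linear_combination h1 - h2'
    have hg : ((z + z ^ 3 + z ^ 4 + z ^ 5 + z ^ 9) - (z ^ 2 + z ^ 6 + z ^ 7 + z ^ 8 + z ^ 10)) ^ 2 = -11 := by
      have e : ∀ k : ℕ, z ^ (k + 11) = z ^ k := fun k => by rw [pow_add, hz, mul_one]
      have e11 := e 0; have e12 := e 1; have e13 := e 2; have e14 := e 3; have e15 := e 4
      have e16 := e 5; have e17 := e 6; have e18 := e 7; have e19 := e 8; have e20 := e 9
      norm_num at e11 e12 e13 e14 e15 e16 e17 e18 e19 e20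
      ring_nf
      simp only [e11, e12, e13, e14, e15, e16, e17, e18, e19, e20, pow_zero, pow_one]
      linear_combination hsum
    have := congrArg (· ^ 2) hd
    simp only [mul_pow, hg] at this
    push_cast
    linear_combination (-1 / 11 : ℂ) * this
  · have h' : (charDegree (χ : G → ℂ) : ℂ) + 5 * α + 5 * β = 11 * n0 := by
      rw [← h0]; simp only [one_pow]; ring
    have : ((charDegree (χ : G → ℂ) : ℤ) + 5 * (2 * charDegree (χ : G → ℂ) - 11 * (n1 + n2)) : ℂ) = ((11 * n0 : ℤ) : ℂ) := by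
      push_cast
      linear_combination h' + 5 * h1 + 5 * h2' - 5 * (α + β) * hsum
    exact_mod_cast this
  · exact ⟨charDegree (χ : G → ℂ) - 6 * n1 - 5 * n2, by ring⟩

end CfsgSimpleM11
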