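/-
The characters that do not vanish at an element of order eleven.
-/
import Cfsg.Agent.Lib.SimpleM11.Eleven

set_option autoImplicit false
set_option linter.style.haveILetI false
set_option linter.unusedSectionVars false

namespace CfsgSimpleM11

open Cfsg CfsgLib.CharTheory
open scoped ComplexConjugate

universe u
variable {G : Type u} [Group G] [Fintype G]

/-- The character degree. -/
noncomputable abbrev dg (χ : IrrCharacter G) : ℕ := charDegree (χ : G → ℂ)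

/-- The trivial character. -/
noncomputable def triv (G : Type u) [Group G] [Fintype G] : IrrCharacter G := ⟨_, isIrrCharacter_one⟩

theorem triv_apply (g : G) : (triv G : G → ℂ) g = 1 := rfl

theorem dg_triv : dg (triv G) = 1 := by
  have := irr_degree (triv G)
  rw [triv_apply] at this
  exact_mod_cast this.symm

theorem dg_dvd (χ : IrrCharacter G) : dg χ ∣ Nat.card G := by
  obtain ⟨m, ρ, hirr, hχ⟩ := χ.2
  haveI := hirr
  have h := finrank_dvd_card ρ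
  have e : (dg χ : ℂ) = (Module.finrank ℂ (Fin m → ℂ) : ℂ) := by
    rw [← irr_degree, ← hχ, Representation.char_one]
  rwa [Nat.cast_inj.1 e]

theorem sum_dg_sq (hG : IsM11 G) : ∑ χ : IrrCharacter G, dg χ ^ 2 = 7920 := by
  have h := sum_irr_degree_sq (G := G)
  rw [card_eq hG] at h
  simp only [irr_degree] at h
  exact_mod_cast h

theorem eq_triv_of_dg_one (hG : IsM11 G) {χ : IrrCharacter G} (h : dg χ = 1) : χ = triv G := by
  obtain ⟨f, hf⟩ := exists_hom_of_degree_one (isCharacter_of_irr χ.2) (by rw [irr_degree]; show (dg χ : ℂ) = 1; rw [h, Nat.cast_one])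
  refine Subtype.ext (funext fun g => ?_)
  rw [hf, hom_trivial hG f, triv_apply]
  simp

theorem dg_mem (hG : IsM11 G) (χ : IrrCharacter G) :
    dg χ ∈ ([1, 2, 3, 4, 5, 6, 8, 9, 10, 11, 12, 15, 16, 18, 20, 22, 24, 30, 33, 36, 40, 44, 45, 48, 55, 60,
      66, 72, 80, 88] : List ℕ) := by
  have h1 : dg χ ∣ 7920 := card_eq hG ▸ dg_dvd χ
  have h2 : dg χ ^ 2 ≤ 7920 := sum_dg_sq hG ▸
    Finset.single_le_sum (f := fun ψ : IrrCharacter G => dg ψ ^ 2) (fun _ _ => Nat.zero_le _) (Finset.mem_univ χ)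
  have h3 : dg χ < 89 := by nlinarith
  have key : ∀ d < 89, d ∣ 7920 → d ∈ ([1, 2, 3, 4, 5, 6, 8, 9, 10, 11, 12, 15, 16, 18, 20, 22, 24, 30, 33, 36,
      40, 44, 45, 48, 55, 60, 66, 72, 80, 88] : List ℕ) := by decide +kernel
  exact key _ h3 h1

/-- The shape of the column of an element of order eleven. -/
structure Shape (a : G) (D : Fin 7 → ℕ) (R : Fin 5 → ℤ) where
  f : Fin 7 → IrrCharacter G
  inj : Function.Injective f
  first : f 0 = triv G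
  deg : ∀ i, dg (f i) = D i
  real : ∀ i : Fin 5, (f (i.castLE (by norm_num)) : G → ℂ) a = (R i : ℂ) ∧
    (f (i.castLE (by norm_num)) : G → ℂ) a⁻¹ = (R i : ℂ)
  pair : ∀ g, (f 6 : G → ℂ) g = (f 5 : G → ℂ) g⁻¹
  pair_sum : (f 5 : G → ℂ) a + (f 5 : G → ℂ) a⁻¹ = -1
  pair_ne : (f 5 : G → ℂ) a ≠ (f 5 : G → ℂ) a⁻¹
  rest : ∀ χ, χ ∉ Set.range f → (χ : G → ℂ) a = 0 ∧ (χ : G → ℂ) a⁻¹ = 0 ∧ 11 ∣ dg χ

/-- The real values in the first case. -/
abbrev valOne : Fin 5 → ℤ := ![1, 1, 1, -1, -1]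

/-- The real values in the second case. -/
abbrev valTwo : Fin 5 → ℤ := ![1, 1, -1, -1, -1]

/-- Degrees in the first case. -/
abbrev degOne : Fin 7 → ℕ := ![1, 12, 12, 10, 10, 5, 5]

/-- Degrees in the second case. -/
abbrev degTwo : Fin 7 → ℕ := ![1, 45, 10, 10, 10, 16, 16]

theorem single_check : ∀ d ∈ ([2, 3, 4, 5, 6, 8, 9, 10, 11, 12, 15, 16, 18, 20, 22, 24, 30, 33, 36, 40, 44, 45,
      48, 55, 60, 66, 72, 80, 88] : List ℕ),
    ∀ e ∈ ([2, 3, 4, 5, 6, 8, 9, 10, 11, 12, 15, 16, 18, 20, 22, 24, 30, 33, 36, 40, 44, 45,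
      48, 55, 60, 66, 72, 80, 88] : List ℕ),
    ∀ s ∈ ([1, -1] : List ℤ), ∀ r ∈ ([2, -2] : List ℤ),
    ((e : ℤ) + 5 * s) % 11 = 0 → ((d : ℤ) + 10 * r) % 11 = 0 → 1 + s * (e : ℤ) + r * (d : ℤ) = 0 →
    r = (d : ℤ) := by decide +kernel

theorem exc_check : ∀ e ∈ ([2, 3, 4, 5, 6, 8, 9, 10, 11, 12, 15, 16, 18, 20, 22, 24, 30, 33, 36, 40, 44, 45,
      48, 55, 60, 66, 72, 80, 88] : List ℕ), ∀ s ∈ ([1, -1] : List ℤ), ((e : ℤ) + 5 * s) % 11 = 0 →
    (e, s) ∈ ([(5, -1), (16, -1), (60, -1), (6, 1), (72, 1)] : List (ℕ × ℤ)) := by decide +kernel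

theorem four_check : ∀ d ∈ ([2, 3, 4, 5, 6, 8, 9, 10, 11, 12, 15, 16, 18, 20, 22, 24, 30, 33, 36, 40, 44, 45,
      48, 55, 60, 66, 72, 80, 88] : List ℕ), ∀ r ∈ ([1, -1] : List ℤ), ((d : ℤ) + 10 * r) % 11 = 0 →
    r * (d : ℤ) ∈ ([12, 45, -10] : List ℤ) := by decide +kernel

theorem perm_check : ∀ f : Fin 4 → Fin 3, ∀ es ∈ ([(5, -1), (16, -1), (60, -1), (6, 1), (72, 1)] : List (ℕ × ℤ)),
    1 + es.2 * (es.1 : ℤ) + ∑ i, ![12, 45, -10] (f i) = 0 →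
    1 + 2 * es.1 ^ 2 + ∑ i, ![144, 2025, 100] (f i) ≤ 7920 →
    (7920 - (1 + 2 * es.1 ^ 2 + ∑ i, ![144, 2025, 100] (f i))) % 121 = 0 →
    (es = (5, -1) ∧ ∃ π : Equiv.Perm (Fin 4), ∀ i, f (π i) = ![0, 0, 2, 2] i) ∨
    (es = (16, -1) ∧ ∃ π : Equiv.Perm (Fin 4), ∀ i, f (π i) = ![1, 2, 2, 2] i) := by decide +kernel

end CfsgSimpleM11
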