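/-
Determination of the characters that do not vanish at an element of order eleven.
-/
import Cfsg.Agent.Lib.SimpleM11.Shape

set_option autoImplicit false
set_option linter.style.haveILetI false
set_option linter.unusedSectionVars false

namespace CfsgSimpleM11

open Cfsg CfsgLib.CharTheory
open scoped ComplexConjugate

universe u
variable {G : Type u} [Group G] [Fintype G]

/-- Inversion as a permutation of the characters. -/
noncomputable def invIrr (χ : IrrCharacter G) : IrrCharacter G := powIrr coprime_card_sub_one χ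

theorem invIrr_apply (χ : IrrCharacter G) (g : G) : (invIrr χ : G → ℂ) g = (χ : G → ℂ) g⁻¹ := by
  show (χ : G → ℂ) (g ^ (Nat.card G - 1)) = _
  rw [pow_card_sub_one]

theorem dg_invIrr (χ : IrrCharacter G) : dg (invIrr χ) = dg χ := by
  have h1 := invIrr_apply χ 1
  rw [inv_one, irr_degree, irr_degree] at h1
  exact_mod_cast h1

theorem col_self (hG : IsM11 G) {a : G} (ha : orderOf a = 11) :
    ∑ χ : IrrCharacter G, (χ : G → ℂ) a * (χ : G → ℂ) a⁻¹ = 11 := by
  classical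
  have h := sum_irr_mul_conj a a
  rw [if_pos (IsConj.refl a), cent11 hG ha] at h
  simp only [← irr_inv] at h
  exact_mod_cast h

theorem col_sq (hG : IsM11 G) {a : G} (ha : orderOf a = 11) :
    ∑ χ : IrrCharacter G, (χ : G → ℂ) a * (χ : G → ℂ) a = 0 := by
  classical
  have h := sum_irr_mul_conj a a⁻¹
  rw [if_neg (not_conj_inv hG ha)] at h
  simp only [← irr_inv, inv_inv] at h
  exact h

theorem col_orth {g h : G} (hgh : ¬ IsConj g h⁻¹) :
    ∑ χ : IrrCharacter G, (χ : G → ℂ) g * (χ : G → ℂ) h = 0 := by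
  classical
  have h' := sum_irr_mul_conj g h⁻¹
  rw [if_neg hgh] at h'
  simp only [← irr_inv, inv_inv] at h'
  exact h'

theorem col_dg {g : G} (hg : g ≠ 1) : ∑ χ : IrrCharacter G, (dg χ : ℂ) * (χ : G → ℂ) g = 0 := by
  have := col_orth (g := (1 : G)) (h := g) (fun e => hg (by simpa using (isConj_one_right.mp e)))
  simpa only [irr_degree] using this

theorem exists_shape (hG : IsM11 G) {a : G} (ha : orderOf a = 11) :
    Nonempty (Shape a degOne valOne) ∨ Nonempty (Shape a degTwo valTwo) := by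
  classical
  haveI := simple hG
  have ha1 : a ≠ 1 := fun e => by rw [e, orderOf_one] at ha; norm_num at ha
  choose S T N hS hT hN hpar using eleven_data hG ha
  set I := Finset.univ (α := IrrCharacter G) with hI
  have hsum2 : ∑ χ ∈ I, ((χ : G → ℂ) a⁻¹ * (χ : G → ℂ) a⁻¹) = 0 := by
    have hai : orderOf a⁻¹ = 11 := by rw [orderOf_inv, ha]
    simpa using col_sq hG hai
  have hS2 : ∑ χ ∈ I, S χ ^ 2 = 22 := by
    have : ((∑ χ ∈ I, S χ ^ 2 : ℤ) : ℂ) = ((22 : ℤ) : ℂ) := by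
      push_cast
      rw [Finset.sum_congr rfl (g := fun χ : IrrCharacter G => (χ : G → ℂ) a * (χ : G → ℂ) a +
        (2 * ((χ : G → ℂ) a * (χ : G → ℂ) a⁻¹) + (χ : G → ℂ) a⁻¹ * (χ : G → ℂ) a⁻¹))
        (fun χ _ => by rw [← hS χ]; ring), Finset.sum_add_distrib, Finset.sum_add_distrib, ← Finset.mul_sum,
        hsum2, hI, col_sq hG ha, col_self hG ha]
      norm_num
    exact_mod_cast this
  have hT2 : ∑ χ ∈ I, T χ ^ 2 = 2 := by
    have : ((-11 * ∑ χ ∈ I, T χ ^ 2 : ℤ) : ℂ) = ((-22 : ℤ) : ℂ) := by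
      push_cast
      rw [Finset.mul_sum]
      rw [Finset.sum_congr rfl (g := fun χ : IrrCharacter G => (χ : G → ℂ) a * (χ : G → ℂ) a -
        (2 * ((χ : G → ℂ) a * (χ : G → ℂ) a⁻¹) - (χ : G → ℂ) a⁻¹ * (χ : G → ℂ) a⁻¹))
        (fun χ _ => by rw [← hT χ]; ring), Finset.sum_sub_distrib, Finset.sum_sub_distrib, ← Finset.mul_sum,
        hsum2, hI, col_sq hG ha, col_self hG ha]
      norm_num
    have := Int.cast_injective this
    omega
  have hDS : ∑ χ ∈ I, (dg χ : ℤ) * S χ = 0 := by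
    have : ((∑ χ ∈ I, (dg χ : ℤ) * S χ : ℤ) : ℂ) = ((0 : ℤ) : ℂ) := by
      push_cast
      simp only [← hS, mul_add, Finset.sum_add_distrib]
      rw [col_dg ha1, col_dg (inv_ne_one.mpr ha1), add_zero]
    exact_mod_cast this
  -- the exceptional pair
  obtain ⟨e, he⟩ : ∃ e, T e ≠ 0 := by
    by_contra h
    push Not at h
    simp [h] at hT2
  set e' := invIrr e with he'
  have hSe : S e' = S e := by
    have h1 := hS e'
    rw [invIrr_apply, invIrr_apply, inv_inv, add_comm, hS e] at h1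
    exact_mod_cast h1.symm
  have hTe : T e' ^ 2 = T e ^ 2 := by
    have h1 := hT e'
    rw [invIrr_apply, invIrr_apply, inv_inv, sub_sq_comm, hT e] at h1
    have h2 : ((T e ^ 2 : ℤ) : ℂ) = ((T e' ^ 2 : ℤ) : ℂ) := by
      push_cast
      linear_combination (-1 / 11 : ℂ) * h1
    exact_mod_cast h2.symm
  have hne : (e : G → ℂ) a ≠ (e : G → ℂ) a⁻¹ := by
    intro h
    have h1 := hT e
    rw [h, sub_self] at h1
    have h2 : (T e : ℂ) ^ 2 = 0 := by linear_combination (1 / 11 : ℂ) * h1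
    exact he (by exact_mod_cast pow_eq_zero_iff (n := 2) (by norm_num) |>.mp h2)
  have hee : e ≠ e' := fun h => hne (by
    have := congrArg (fun ψ : IrrCharacter G => (ψ : G → ℂ) a) h
    simpa [he', invIrr_apply] using this)
  have hTe2 : 0 < T e ^ 2 := by positivity
  have hpair : ∀ F : IrrCharacter G → ℤ,
      ∑ χ ∈ I, F χ = F e + F e' + ∑ χ ∈ (I.erase e).erase e', F χ := by
    intro F
    rw [← Finset.add_sum_erase I F (Finset.mem_univ e),
      ← Finset.add_sum_erase (I.erase e) F (Finset.mem_erase.2 ⟨hee.symm, Finset.mem_univ e'⟩), add_assoc]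
  have hT' := hpair (fun χ => T χ ^ 2)
  rw [hT2, hTe] at hT'
  have hrestT : ∀ χ, χ ≠ e → χ ≠ e' → T χ = 0 := by
    intro χ h1 h2
    have h0 : 0 ≤ ∑ ψ ∈ (I.erase e).erase e', T ψ ^ 2 := Finset.sum_nonneg fun _ _ => sq_nonneg _
    have h3 : ∑ ψ ∈ (I.erase e).erase e', T ψ ^ 2 = 0 := by omega
    have := (Finset.sum_eq_zero_iff_of_nonneg fun ψ _ => sq_nonneg (T ψ)).mp h3 χ
      (Finset.mem_erase.2 ⟨h2, Finset.mem_erase.2 ⟨h1, Finset.mem_univ _⟩⟩)
    exact pow_eq_zero_iff (n := 2) (by norm_num) |>.mp this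
  have hTe1 : T e ^ 2 = 1 := by
    have h0 : 0 ≤ ∑ ψ ∈ (I.erase e).erase e', T ψ ^ 2 := Finset.sum_nonneg fun _ _ => sq_nonneg _
    omega
  have hσodd : S e % 2 = 1 := by
    have h1 := hpar e
    rcases sq_eq_one_iff.mp hTe1 with h | h <;> rw [h] at h1 <;> omega
  have hval : ∀ χ, T χ = 0 → ∃ r : ℤ, S χ = 2 * r ∧ (χ : G → ℂ) a = r ∧ (χ : G → ℂ) a⁻¹ = r := by
    intro χ h
    obtain ⟨r, hr⟩ := hpar χ
    rw [h, sub_zero] at hr
    refine ⟨r, hr, ?_⟩
    have h1 := hT χ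
    rw [h, Int.cast_zero, zero_pow (by norm_num), mul_zero] at h1
    have h2 : (χ : G → ℂ) a = (χ : G → ℂ) a⁻¹ := sub_eq_zero.mp (pow_eq_zero_iff (n := 2) (by norm_num) |>.mp h1)
    have h3 := hS χ
    rw [hr, h2] at h3
    push_cast at h3
    have h4 : (χ : G → ℂ) a⁻¹ = r := by linear_combination (1 / 2 : ℂ) * h3
    exact ⟨h2.trans h4, h4⟩
  choose! r hr hra hra' using hval
  -- the trivial character
  have htS : S (triv G) = 2 := by
    have := hS (triv G)
    rw [triv_apply, triv_apply] at this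
    have h2 : ((2 : ℤ) : ℂ) = (S (triv G) : ℂ) := by rw [← this]; norm_num
    exact_mod_cast h2.symm
  have hte : triv G ≠ e := fun h => by rw [h] at htS; omega
  have hte' : triv G ≠ e' := fun h => by rw [h, hSe] at htS; omega
  have htT : T (triv G) = 0 := hrestT _ hte hte'
  set R := ((I.erase e).erase e').erase (triv G) with hR
  have hsplit : ∀ F : IrrCharacter G → ℤ,
      ∑ χ ∈ I, F χ = F e + F e' + F (triv G) + ∑ χ ∈ R, F χ := by
    intro F
    rw [hpair F, ← Finset.add_sum_erase _ F (show triv G ∈ (I.erase e).erase e' from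
      Finset.mem_erase.2 ⟨hte', Finset.mem_erase.2 ⟨hte, Finset.mem_univ _⟩⟩)]
    ring
  have hRmem : ∀ χ, χ ∈ R ↔ χ ≠ triv G ∧ χ ≠ e' ∧ χ ≠ e := fun χ => by simp [hR, hI]
  have hRT : ∀ χ ∈ R, T χ = 0 := fun χ h => hrestT χ ((hRmem χ).1 h).2.2 ((hRmem χ).1 h).2.1
  have hA := hsplit (fun χ => S χ ^ 2)
  rw [hS2, hSe, htS, Finset.sum_congr rfl (fun χ hχ => by rw [hr χ (hRT χ hχ), mul_pow]), ← Finset.mul_sum] at hA
  have hB := hsplit (fun χ => (dg χ : ℤ) * S χ)
  rw [hDS, hSe, htS, dg_invIrr, dg_triv, Finset.sum_congr rfl (fun χ hχ => by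
    rw [hr χ (hRT χ hχ), mul_left_comm]), ← Finset.mul_sum, Nat.cast_one, one_mul] at hB
  have hcong : ∀ χ, ((dg χ : ℤ) + 5 * S χ) % 11 = 0 := fun χ => by rw [hN χ]; simp
  have hmem : ∀ χ, χ ≠ triv G → dg χ ∈ ([2, 3, 4, 5, 6, 8, 9, 10, 11, 12, 15, 16, 18, 20, 22, 24, 30, 33,
      36, 40, 44, 45, 48, 55, 60, 66, 72, 80, 88] : List ℕ) := fun χ h => by
    have h1 := dg_mem hG χ
    rcases List.mem_cons.mp h1 with h2 | h2
    · exact absurd (eq_triv_of_dg_one hG h2) h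
    · exact h2
  have hσsq : S e ^ 2 = 1 := by
    have h1 : 0 ≤ ∑ χ ∈ R, r χ ^ 2 := Finset.sum_nonneg fun _ _ => sq_nonneg _
    have h2 : S e ^ 2 ≤ 9 := by omega
    have h3 : -3 ≤ S e ∧ S e ≤ 3 := ⟨by nlinarith, by nlinarith⟩
    obtain ⟨h3, h4⟩ := h3
    interval_cases hs : S e <;> try omega
    all_goals
      exfalso
      have h5 : ∑ χ ∈ R, r χ ^ 2 = 0 := by omega
      have h6 : ∑ χ ∈ R, (dg χ : ℤ) * r χ = 0 := Finset.sum_eq_zero fun χ hχ => by
        have := (Finset.sum_eq_zero_iff_of_nonneg fun ψ _ => sq_nonneg (r ψ)).mp h5 χ hχ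
        rw [pow_eq_zero_iff (n := 2) (by norm_num) |>.mp this, mul_zero]
      omega
  have hRsq : ∑ χ ∈ R, r χ ^ 2 = 4 := by omega
  have hσ : S e ∈ ([1, -1] : List ℤ) := by
    rcases sq_eq_one_iff.mp hσsq with h | h <;> simp [h]
  set Q := R.filter (fun χ => r χ ≠ 0) with hQ
  have hQsum : ∀ F : IrrCharacter G → ℤ, (∀ χ, r χ = 0 → F χ = 0) → ∑ χ ∈ Q, F χ = ∑ χ ∈ R, F χ :=
    fun F hF => Finset.sum_filter_of_ne fun χ _ h h0 => h (hF χ h0)
  have hQsq : ∑ χ ∈ Q, r χ ^ 2 = 4 := by rw [hQsum _ (fun χ h => by simp [h])]; exact hRsq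
  have hQd : ∑ χ ∈ Q, (dg χ : ℤ) * r χ = ∑ χ ∈ R, (dg χ : ℤ) * r χ := hQsum _ (fun χ h => by simp [h])
  have hbound : ∀ χ ∈ Q, r χ ^ 2 ≤ 4 := fun χ hχ => hQsq ▸
    Finset.single_le_sum (f := fun ψ => r ψ ^ 2) (fun _ _ => sq_nonneg _) hχ
  have hQR : ∀ χ ∈ Q, χ ∈ R ∧ r χ ≠ 0 := fun χ hχ => Finset.mem_filter.mp hχ
  -- no single character with value two
  have hsmall : ∀ χ ∈ Q, r χ = 1 ∨ r χ = -1 := by
    intro χ hχ
    have h1 := hbound χ hχ
    have h0 := (hQR χ hχ).2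
    have h3 : -2 ≤ r χ ∧ r χ ≤ 2 := ⟨by nlinarith, by nlinarith⟩
    by_contra hc
    have h2 : r χ ∈ ([2, -2] : List ℤ) := by simp; omega
    have hother : ∀ ψ ∈ Q, ψ = χ := by
      intro ψ hψ
      by_contra hne'
      have := Finset.add_sum_erase Q (fun ψ => r ψ ^ 2) hχ
      have h4 : r ψ ^ 2 ≤ ∑ x ∈ Q.erase χ, r x ^ 2 :=
        Finset.single_le_sum (f := fun ψ => r ψ ^ 2) (fun _ _ => sq_nonneg _) (Finset.mem_erase.2 ⟨hne', hψ⟩)
      have h5 : 0 < r ψ ^ 2 := by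
        have := (hQR ψ hψ).2
        positivity
      have h6 : r χ ^ 2 = 4 := by
        simp only [List.mem_cons, List.not_mem_nil, or_false] at h2
        rcases h2 with h | h <;> rw [h] <;> norm_num
      simp only [hQsq] at this
      omega
    have hd : ∑ ψ ∈ Q, (dg ψ : ℤ) * r ψ = dg χ * r χ := by
      rw [Finset.eq_singleton_iff_unique_mem.mpr ⟨hχ, hother⟩, Finset.sum_singleton]
    obtain ⟨hn, -, -⟩ := (hRmem χ).1 (hQR χ hχ).1
    have hen : e ≠ triv G := hte.symm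
    have hTχ := hRT χ (hQR χ hχ).1
    have hk := single_check (dg χ) (hmem χ hn) (dg e) (hmem e hen) (S e) hσ (r χ) h2 (hcong e)
      (by have := hcong χ; rw [hr χ hTχ] at this; omega) (by linarith)
    refine hn (Subtype.ext (eq_one_of_eq_degree χ ha1 ?_))
    rw [hra χ hTχ, irr_degree, hk]
    push_cast
    rfl
  have hcard : Q.card = 4 := by
    have : ∑ χ ∈ Q, r χ ^ 2 = ∑ χ ∈ Q, (1 : ℤ) := Finset.sum_congr rfl fun χ hχ => by
      rcases hsmall χ hχ with h | h <;> rw [h] <;> norm_num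
    rw [hQsq, Finset.sum_const, nsmul_eq_mul, mul_one] at this
    exact_mod_cast this.symm
  let q : Fin 4 ≃ Q := ((Fintype.equivFin Q).trans (finCongr (by rw [Fintype.card_coe, hcard]))).symm
  have hlab : ∀ i, ∃ j : Fin 3, r (q i).1 * (dg (q i).1 : ℤ) = ![12, 45, -10] j := by
    intro i
    obtain ⟨hq1, -⟩ := hQR _ (q i).2
    have hr1 : r (q i).1 ∈ ([1, -1] : List ℤ) := by rcases hsmall _ (q i).2 with h | h <;> simp [h]
    have := four_check _ (hmem _ ((hRmem _).1 hq1).1) _ hr1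
      (by have := hcong (q i).1; rw [hr _ (hRT _ hq1)] at this; omega)
    simp only [List.mem_cons, List.not_mem_nil, or_false] at this
    rcases this with h | h | h
    · exact ⟨0, h⟩
    · exact ⟨1, h⟩
    · exact ⟨2, h⟩
  choose L hL using hlab
  have hLsq : ∀ i, (dg (q i).1 : ℤ) ^ 2 = ((![144, 2025, 100] (L i) : ℕ) : ℤ) := by
    intro i
    have h := congrArg (· ^ 2) (hL i)
    simp only [mul_pow, sq_eq_one_iff.mpr (hsmall _ (q i).2), one_mul] at h
    rw [h]
    generalize L i = j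
    fin_cases j <;> norm_num
  have hqsum : ∀ F : IrrCharacter G → ℤ, ∑ i, F (q i).1 = ∑ χ ∈ Q, F χ := fun F => by
    rw [Equiv.sum_comp q (fun x : Q => F x.1), Finset.sum_coe_sort]
  have hes := exc_check (dg e) (hmem e hte.symm) (S e) hσ (hcong e)
  have hsq := hsplit (fun χ => (dg χ : ℤ) ^ 2)
  have htot : ∑ χ ∈ I, (dg χ : ℤ) ^ 2 = 7920 := by exact_mod_cast sum_dg_sq hG
  rw [htot, dg_invIrr, dg_triv, ← Finset.sum_filter_add_sum_filter_not R (fun χ => r χ ≠ 0), ← hQ,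
    ← hqsum, Finset.sum_congr rfl (fun i _ => hLsq i), ← Nat.cast_sum] at hsq
  obtain ⟨K, hK⟩ : ∃ K : ℕ, ∑ χ ∈ R.filter (fun χ => ¬ r χ ≠ 0), (dg χ : ℤ) ^ 2 = 121 * (K : ℤ) := by
    have : ∀ χ ∈ R.filter (fun χ => ¬ r χ ≠ 0), 11 ∣ dg χ := by
      intro χ hχ
      obtain ⟨h1, h2⟩ := Finset.mem_filter.mp hχ
      have := hcong χ
      rw [hr χ (hRT χ h1), not_not.mp h2] at this
      omega
    choose! k hk using this
    refine ⟨∑ χ ∈ R.filter (fun χ => ¬ r χ ≠ 0), k χ ^ 2, ?_⟩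
    rw [Nat.cast_sum, Finset.mul_sum]
    refine Finset.sum_congr rfl fun χ hχ => ?_
    rw [hk χ hχ]; push_cast; ring
  rw [hK] at hsq
  have hlin : 1 + S e * (dg e : ℤ) + ∑ i, ![12, 45, -10] (L i) = 0 := by
    simp only [← hL]
    rw [hqsum (fun χ => r χ * (dg χ : ℤ))]
    simp only [mul_comm (r _)]
    linarith
  have hnat : 1 + 2 * dg e ^ 2 + (∑ i, ![144, 2025, 100] (L i)) + 121 * K = 7920 := by
    have : ((1 + 2 * dg e ^ 2 + (∑ i, ![144, 2025, 100] (L i)) + 121 * K : ℕ) : ℤ) = ((7920 : ℕ) : ℤ) := by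
      push_cast at hsq ⊢
      linarith
    exact_mod_cast this
  have hfin := perm_check L (dg e, S e) hes hlin (by dsimp only; omega) (by dsimp only; omega)
  have key : ∀ (π : Equiv.Perm (Fin 4)) (T4 : Fin 4 → Fin 3) (D : Fin 7 → ℕ) (V : Fin 5 → ℤ),
      (∀ i, L (π i) = T4 i) → D 0 = 1 → V 0 = 1 → D 5 = dg e → D 6 = dg e → S e = -1 →
      (∀ j : Fin 4, ((D ((j.succ).castLE (by norm_num)) : ℤ)) = |![12, 45, -10] (T4 j)| ∧
        V j.succ = Int.sign (![12, 45, -10] (T4 j))) → Nonempty (Shape a D V) := by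
    intro π T4 D V hπ hD0 hV0 hD5 hD6 hSe1 hDV
    let f : Fin 7 → IrrCharacter G :=
      ![triv G, (q (π 0)).1, (q (π 1)).1, (q (π 2)).1, (q (π 3)).1, e, e']
    have hfmem : ∀ j : Fin 4, f ((j.succ).castLE (by norm_num)) = (q (π j)).1 := fun j => by
      fin_cases j <;> rfl
    have hqR : ∀ j, (q (π j)).1 ≠ triv G ∧ (q (π j)).1 ≠ e' ∧ (q (π j)).1 ≠ e := fun j =>
      (hRmem _).1 (hQR _ (q (π j)).2).1
    have hjd : ∀ j : Fin 4, dg (q (π j)).1 = D ((j.succ).castLE (by norm_num)) ∧ r (q (π j)).1 = V j.succ := by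
      intro j
      have h1 := hL (π j)
      rw [hπ] at h1
      have hpos : 0 < (dg (q (π j)).1 : ℤ) := by exact_mod_cast CfsgLib.Blocks.irr_charDegree_pos (q (π j)).1
      obtain ⟨h2, h3⟩ := hDV j
      rw [h3, ← h1]
      rw [← h1] at h2
      rcases hsmall _ (q (π j)).2 with h | h <;> rw [h] at h2 ⊢
      · rw [one_mul, abs_of_pos hpos] at h2
        exact ⟨by exact_mod_cast h2.symm, by rw [one_mul, Int.sign_eq_one_of_pos hpos]⟩
      · rw [neg_one_mul, abs_neg, abs_of_pos hpos] at h2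
        exact ⟨by exact_mod_cast h2.symm, by rw [neg_one_mul, Int.sign_neg, Int.sign_eq_one_of_pos hpos]⟩
    refine ⟨⟨f, ?_, rfl, ?_, ?_, fun g => invIrr_apply e g, ?_, hne, ?_⟩⟩
    · have hq : ∀ i j, i ≠ j → (q (π i)).1 ≠ (q (π j)).1 := fun i j h e' =>
        h (π.injective (q.injective (Subtype.ext e')))
      intro x y hxy
      fin_cases x <;> fin_cases y <;> simp [f] at hxy ⊢ <;>
        first
          | exact absurd hxy (hq _ _ (by decide))
          | exact absurd hxy (hqR _).1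
          | exact absurd hxy.symm (hqR _).1
          | exact absurd hxy (hqR _).2.1
          | exact absurd hxy.symm (hqR _).2.1
          | exact absurd hxy (hqR _).2.2
          | exact absurd hxy.symm (hqR _).2.2
          | exact absurd hxy hte
          | exact absurd hxy.symm hte
          | exact absurd hxy hte'
          | exact absurd hxy.symm hte'
          | exact absurd hxy hee
          | exact absurd hxy.symm hee
    · intro i
      fin_cases i
      · show dg (triv G) = D 0; rw [dg_triv, hD0]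
      · exact (hjd 0).1
      · exact (hjd 1).1
      · exact (hjd 2).1
      · exact (hjd 3).1
      · exact hD5.symm
      · show dg e' = D 6; rw [he', dg_invIrr, hD6]
    · intro i
      refine Fin.cases ?_ (fun j => ?_) i
      · show (triv G : G → ℂ) a = _ ∧ (triv G : G → ℂ) a⁻¹ = _
        rw [triv_apply, triv_apply, hV0]
        simp
      · rw [hfmem, ← (hjd j).2]
        have := hRT _ (hQR _ (q (π j)).2).1
        exact ⟨hra _ this, hra' _ this⟩
    · show (e : G → ℂ) a + (e : G → ℂ) a⁻¹ = -1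
      rw [hS e, hSe1]; norm_num
    · intro χ hχ
      have h1 : χ ∈ R := (hRmem χ).2 ⟨fun h => hχ ⟨0, h.symm⟩, fun h => hχ ⟨6, h.symm⟩, fun h => hχ ⟨5, h.symm⟩⟩
      have h0 : r χ = 0 := by
        by_contra hh
        have hm : χ ∈ Q := Finset.mem_filter.mpr ⟨h1, hh⟩
        have hi := q.apply_symm_apply ⟨χ, hm⟩
        refine hχ ⟨((π.symm (q.symm ⟨χ, hm⟩)).succ).castLE (by norm_num), ?_⟩
        rw [hfmem, Equiv.apply_symm_apply, hi]
      have hTχ := hRT χ h1
      refine ⟨by rw [hra χ hTχ, h0, Int.cast_zero], by rw [hra' χ hTχ, h0, Int.cast_zero], ?_⟩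
      have := hcong χ
      rw [hr χ hTχ, h0] at this
      omega
  rcases hfin with ⟨h, π, hπ⟩ | ⟨h, π, hπ⟩ <;> obtain ⟨h1, h2⟩ := Prod.ext_iff.mp h
  · refine Or.inl (key π _ degOne valOne hπ rfl rfl h1.symm h1.symm h2 fun j => ?_)
    fin_cases j <;> decide
  · refine Or.inr (key π _ degTwo valTwo hπ rfl rfl h1.symm h1.symm h2 fun j => ?_)
    fin_cases j <;> decide

end CfsgSimpleM11
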