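/-
The values at an involution of the characters not vanishing at an element of order eleven.
-/
import Cfsg.Agent.Lib.SimpleM11.ShapeMain

set_option autoImplicit false
set_option linter.style.haveILetI false
set_option linter.unusedSectionVars false

namespace CfsgSimpleM11

open Cfsg CfsgLib.CharTheory CfsgLib.Blocks
open scoped ComplexConjugate

universe u
variable {G : Type u} [Group G] [Fintype G]

theorem isConj_inv {g h : G} (hgh : IsConj g h) : IsConj g⁻¹ h⁻¹ := by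
  obtain ⟨c, rfl⟩ := isConj_iff.mp hgh
  exact isConj_iff.mpr ⟨c, conj_inv.symm⟩

theorem involution_int (hG : IsM11 G) (χ : IrrCharacter G) (hχ : χ ≠ triv G) {i : G} (hi : orderOf i = 2) :
    ∃ v : ℤ, (χ : G → ℂ) i = v ∧ v % 4 = (dg χ : ℤ) % 4 ∧ -(dg χ : ℤ) ≤ v ∧ v < (dg χ : ℤ) := by
  haveI := simple hG
  have h2 : i * i = 1 := by rw [← pow_two, ← hi, pow_orderOf_eq_one]
  obtain ⟨k, hk0, hk, hev⟩ := two_mults χ h2
  obtain ⟨m, rfl⟩ := hev (hom_trivial hG)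
  refine ⟨_, hk, by simp only [dg]; omega, by simp only [dg]; omega, ?_⟩
  rcases Nat.eq_zero_or_pos (m + m) with h | h
  · exfalso
    refine hχ (Subtype.ext (eq_one_of_eq_degree χ (g := i) (fun e => by rw [e, orderOf_one] at hi; norm_num at hi) ?_))
    rw [hk, irr_degree, h]
    push_cast
    ring
  · simp only [dg]; omega

theorem cent_inv_dvd (hG : IsM11 G) {i : G} (hi : orderOf i = 2) :
    Nat.card (Subgroup.centralizer ({i} : Set G)) ∣ 720 :=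
  CfsgLib.Order7920.dvd_720 (card_eq hG ▸ Subgroup.card_subgroup_dvd_card _)
    (not_eleven_dvd_cent hG (by omega) (by omega))

namespace Shape

variable {a : G} {D : Fin 7 → ℕ} {R : Fin 5 → ℤ} (Sh : Shape a D R)

theorem ne_triv (j : Fin 7) (hj : j ≠ 0) : Sh.f j ≠ triv G := fun h => hj (Sh.inj (h.trans Sh.first.symm))

/-- A sum over all characters split along the shape. -/
theorem sum_split (F : IrrCharacter G → ℂ) (h : ∀ χ, χ ∉ Set.range Sh.f → F χ = 0) :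
    ∑ χ : IrrCharacter G, F χ = ∑ j, F (Sh.f j) := by
  classical
  rw [← Finset.sum_image (f := F) (fun x _ y _ hxy => Sh.inj hxy)]
  exact (Finset.sum_subset (Finset.subset_univ _) fun χ _ hχ =>
    h χ fun ⟨j, hj⟩ => hχ (Finset.mem_image.2 ⟨j, Finset.mem_univ _, hj⟩)).symm

/-- Orthogonality with the column of the element of order eleven. -/
theorem orth (hG : IsM11 G) (ha : orderOf a = 11) {g : G} (hg : orderOf g ≠ 11)
    (hsym : (Sh.f 6 : G → ℂ) g = (Sh.f 5 : G → ℂ) g) :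
    (∑ j : Fin 5, (R j : ℂ) * (Sh.f (j.castLE (by norm_num)) : G → ℂ) g) - (Sh.f 5 : G → ℂ) g = 0 := by
  have h := col_orth (g := g) (h := a) (not_isConj_of_orderOf (by rw [orderOf_inv, ha]; exact hg))
  rw [Sh.sum_split _ (fun χ hχ => by rw [(Sh.rest χ hχ).1, mul_zero])] at h
  have e0 : (Sh.f 0 : G → ℂ) a = (R 0 : ℂ) := (Sh.real 0).1
  have e1 : (Sh.f 1 : G → ℂ) a = (R 1 : ℂ) := (Sh.real 1).1
  have e2 : (Sh.f 2 : G → ℂ) a = (R 2 : ℂ) := (Sh.real 2).1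
  have e3 : (Sh.f 3 : G → ℂ) a = (R 3 : ℂ) := (Sh.real 3).1
  have e4 : (Sh.f 4 : G → ℂ) a = (R 4 : ℂ) := (Sh.real 4).1
  have hs : (Sh.f 5 : G → ℂ) a⁻¹ = -1 - (Sh.f 5 : G → ℂ) a := by linear_combination Sh.pair_sum
  rw [← h, Fin.sum_univ_seven, Fin.sum_univ_five, hsym, Sh.pair a, e0, e1, e2, e3, e4, hs]
  show (R 0 : ℂ) * (Sh.f 0 : G → ℂ) g + (R 1 : ℂ) * (Sh.f 1 : G → ℂ) g + (R 2 : ℂ) * (Sh.f 2 : G → ℂ) g +
    (R 3 : ℂ) * (Sh.f 3 : G → ℂ) g + (R 4 : ℂ) * (Sh.f 4 : G → ℂ) g - (Sh.f 5 : G → ℂ) g = _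
  ring

theorem no_inverted_product (hG : IsM11 G) (ha : orderOf a = 11) {i : G} (hi : orderOf i = 2) :
    pairCount i i a = 0 := by
  rw [pairCount, Nat.card_eq_zero]
  refine Or.inl ⟨fun ⟨x, hx1, hx2⟩ => ?_⟩
  have e1 : x * x = 1 := by
    rw [← pow_two, ← (orderOf_of_isConj hx1).trans hi, pow_orderOf_eq_one]
  have e2 : (x⁻¹ * a) * (x⁻¹ * a) = 1 := by
    rw [← pow_two, ← (orderOf_of_isConj hx2).trans hi, pow_orderOf_eq_one]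
  have e3 : x⁻¹ = x := inv_eq_of_mul_eq_one_left e1
  rw [e3] at e2
  refine not_inverted hG ha (i := x) ?_
  rw [e3]
  exact eq_inv_of_mul_eq_one_left (by simpa [mul_assoc] using e2)

theorem quad (hG : IsM11 G) (ha : orderOf a = 11) {i : G} (hi : orderOf i = 2)
    (hsym : (Sh.f 6 : G → ℂ) i = (Sh.f 5 : G → ℂ) i) :
    (∑ j : Fin 5, (R j : ℂ) * (Sh.f (j.castLE (by norm_num)) : G → ℂ) i ^ 2 / (D (j.castLE (by norm_num)) : ℂ))
      - (Sh.f 5 : G → ℂ) i ^ 2 / (D 5 : ℂ) = 0 := by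
  have h := pairCount_mul i i a
  rw [no_inverted_product hG ha hi, Nat.cast_zero, zero_mul] at h
  simp only [clv, centralChar, ← irr_inv] at h
  rw [Sh.sum_split _ (fun χ hχ => by rw [(Sh.rest χ hχ).2.1, mul_zero, mul_zero])] at h
  have e0 : (Sh.f 0 : G → ℂ) a⁻¹ = (R 0 : ℂ) := (Sh.real 0).2
  have e1 : (Sh.f 1 : G → ℂ) a⁻¹ = (R 1 : ℂ) := (Sh.real 1).2
  have e2 : (Sh.f 2 : G → ℂ) a⁻¹ = (R 2 : ℂ) := (Sh.real 2).2
  have e3 : (Sh.f 3 : G → ℂ) a⁻¹ = (R 3 : ℂ) := (Sh.real 3).2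
  have e4 : (Sh.f 4 : G → ℂ) a⁻¹ = (R 4 : ℂ) := (Sh.real 4).2
  have e6 : (Sh.f 6 : G → ℂ) a⁻¹ = (Sh.f 5 : G → ℂ) a := by rw [Sh.pair, inv_inv]
  have hs : (Sh.f 5 : G → ℂ) a⁻¹ = -1 - (Sh.f 5 : G → ℂ) a := by linear_combination Sh.pair_sum
  have hd : ∀ j, (Sh.f j : G → ℂ) 1 = (D j : ℂ) := fun j => by rw [irr_degree]; exact congrArg _ (Sh.deg j)
  have h65 : (D 6 : ℂ) = (D 5 : ℂ) := by rw [← hd, ← hd, Sh.pair, inv_one]
  rw [Fin.sum_univ_seven, e0, e1, e2, e3, e4, e6, hs, hsym] at h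
  simp only [hd, h65] at h
  set n : ℂ := ((Subgroup.centralizer ({i} : Set G)).index : ℂ) with hn
  have hn0 : n ≠ 0 := Nat.cast_ne_zero.2 Subgroup.index_ne_zero_of_finite
  refine mul_left_cancel₀ hn0 ?_
  rw [mul_zero, h, Fin.sum_univ_five]
  show n * ((R 0 : ℂ) * (Sh.f 0 : G → ℂ) i ^ 2 / (D 0 : ℂ) + (R 1 : ℂ) * (Sh.f 1 : G → ℂ) i ^ 2 / (D 1 : ℂ) +
    (R 2 : ℂ) * (Sh.f 2 : G → ℂ) i ^ 2 / (D 2 : ℂ) + (R 3 : ℂ) * (Sh.f 3 : G → ℂ) i ^ 2 / (D 3 : ℂ) +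
    (R 4 : ℂ) * (Sh.f 4 : G → ℂ) i ^ 2 / (D 4 : ℂ) - (Sh.f 5 : G → ℂ) i ^ 2 / (D 5 : ℂ)) = _
  ring

theorem norm_le {g : G} (v : Fin 7 → ℤ) (hv : ∀ j, (Sh.f j : G → ℂ) g = (v j : ℂ)) :
    ∑ j, v j ^ 2 ≤ (Nat.card (Subgroup.centralizer ({g} : Set G)) : ℤ) := by
  classical
  have h := sum_irr_mul_conj g g
  rw [if_pos (IsConj.refl g)] at h
  simp only [Complex.mul_conj, ← Complex.ofReal_sum] at h
  have h' : (∑ χ : IrrCharacter G, Complex.normSq ((χ : G → ℂ) g)) =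
      (Nat.card (Subgroup.centralizer ({g} : Set G)) : ℝ) := by exact_mod_cast h
  have hle : ∑ j, Complex.normSq ((Sh.f j : G → ℂ) g) ≤ ∑ χ : IrrCharacter G, Complex.normSq ((χ : G → ℂ) g) := by
    rw [← Finset.sum_image (f := fun χ : IrrCharacter G => Complex.normSq ((χ : G → ℂ) g))
      (fun x _ y _ hxy => Sh.inj hxy)]
    exact Finset.sum_le_sum_of_subset_of_nonneg (Finset.subset_univ _) fun _ _ _ => Complex.normSq_nonneg _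
  rw [h'] at hle
  simp only [hv, Complex.normSq_intCast] at hle
  have : ((∑ j, v j ^ 2 : ℤ) : ℝ) ≤ ((Nat.card (Subgroup.centralizer ({g} : Set G)) : ℤ) : ℝ) := by
    push_cast
    simpa [pow_two] using hle
  exact_mod_cast this

end Shape

theorem one_check : ∀ v1 ∈ ([-12, -8, -4, 0, 4, 8] : List ℤ), ∀ v2 ∈ ([-12, -8, -4, 0, 4, 8] : List ℤ),
    ∀ v3 ∈ ([-10, -6, -2, 2, 6] : List ℤ), ∀ v4 ∈ ([-10, -6, -2, 2, 6] : List ℤ), ∀ y ∈ ([-3, 1] : List ℤ),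
    1 + v1 + v2 - v3 - v4 - y = 0 → 60 + 5 * v1 ^ 2 + 5 * v2 ^ 2 - 6 * v3 ^ 2 - 6 * v4 ^ 2 - 12 * y ^ 2 = 0 →
    1 + v1 ^ 2 + v2 ^ 2 + v3 ^ 2 + v4 ^ 2 + 2 * y ^ 2 ≤ 720 → y = 1 := by decide +kernel

theorem two_check : ∀ w ∈ ([-23, -19, -15, -11, -7, -3, 1, 5, 9, 13, 17, 21, 25] : List ℤ),
    ∀ v2 ∈ ([-10, -6, -2, 2, 6] : List ℤ), ∀ v3 ∈ ([-10, -6, -2, 2, 6] : List ℤ),
    ∀ v4 ∈ ([-10, -6, -2, 2, 6] : List ℤ),
    let y := 1 + w - v2 - v3 - v4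
    y % 4 = 0 → -16 ≤ y → y < 16 →
    720 + 16 * w ^ 2 - 72 * v2 ^ 2 - 72 * v3 ^ 2 - 72 * v4 ^ 2 - 45 * y ^ 2 = 0 →
    1 + w ^ 2 + v2 ^ 2 + v3 ^ 2 + v4 ^ 2 + 2 * y ^ 2 ≤ 720 →
    w = -3 ∧ y = 0 ∧ v2 + v3 + v4 = -2 ∧ v2 ^ 2 = 4 ∧ v3 ^ 2 = 4 ∧ v4 ^ 2 = 4 := by decide +kernel

/-- Integer values of the shape at an involution. -/
theorem Shape.inv_values (hG : IsM11 G) {a : G} {D : Fin 7 → ℕ} {R : Fin 5 → ℤ} (Sh : Shape a D R)
    (ha : orderOf a = 11) {i : G} (hi : orderOf i = 2) :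
    ∃ v : Fin 7 → ℤ, (∀ j, (Sh.f j : G → ℂ) i = (v j : ℂ)) ∧ v 0 = 1 ∧ v 6 = v 5 ∧
      (∀ j, j ≠ 0 → v j % 4 = (D j : ℤ) % 4 ∧ -(D j : ℤ) ≤ v j ∧ v j < (D j : ℤ)) ∧
      ∑ j, v j ^ 2 ≤ 720 ∧
      R 0 + R 1 * v 1 + R 2 * v 2 + R 3 * v 3 + R 4 * v 4 - v 5 = 0 ∧
      ((R 0 : ℂ) / (D 0 : ℂ) + R 1 * (v 1 : ℂ) ^ 2 / (D 1 : ℂ) + R 2 * (v 2 : ℂ) ^ 2 / (D 2 : ℂ) +
        R 3 * (v 3 : ℂ) ^ 2 / (D 3 : ℂ) + R 4 * (v 4 : ℂ) ^ 2 / (D 4 : ℂ) - (v 5 : ℂ) ^ 2 / (D 5 : ℂ)) = 0 := by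
  have hex : ∀ j, ∃ v : ℤ, (Sh.f j : G → ℂ) i = v ∧
      (j ≠ 0 → v % 4 = (D j : ℤ) % 4 ∧ -(D j : ℤ) ≤ v ∧ v < (D j : ℤ)) := by
    intro j
    by_cases hj : j = 0
    · refine ⟨1, ?_, fun h => absurd hj h⟩
      rw [hj, Sh.first, triv_apply, Int.cast_one]
    · obtain ⟨v, h1, h2⟩ := involution_int hG _ (Sh.ne_triv j hj) hi
      exact ⟨v, h1, fun _ => by rw [Sh.deg] at h2; exact h2⟩
  choose v hv hv' using hex
  have h0 : v 0 = 1 := by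
    have h := hv 0
    rw [Sh.first, triv_apply] at h
    exact_mod_cast h.symm
  have hii : i⁻¹ = i := inv_eq_of_mul_eq_one_left (by rw [← pow_two, ← hi, pow_orderOf_eq_one])
  have hsym : (Sh.f 6 : G → ℂ) i = (Sh.f 5 : G → ℂ) i := by rw [Sh.pair, hii]
  have h65 : v 6 = v 5 := by
    have h := hsym
    rw [hv, hv] at h
    exact_mod_cast h
  refine ⟨v, hv, h0, h65, fun j hj => hv' j hj,
    le_trans (Sh.norm_le v hv) (by exact_mod_cast Nat.le_of_dvd (by norm_num) (cent_inv_dvd hG hi)), ?_, ?_⟩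
  · have h := Sh.orth hG ha (by omega) hsym
    rw [Fin.sum_univ_five] at h
    simp only [hv] at h
    have h' : ((R 0 * v 0 + R 1 * v 1 + R 2 * v 2 + R 3 * v 3 + R 4 * v 4 - v 5 : ℤ) : ℂ) = ((0 : ℤ) : ℂ) := by
      push_cast
      exact h
    rw [h0, mul_one] at h'
    exact_mod_cast h'
  · have h := Sh.quad hG ha hi hsym
    rw [Fin.sum_univ_five] at h
    simp only [hv] at h
    rw [show (v (Fin.castLE (show 5 ≤ 7 by norm_num) 0)) = 1 from h0] at h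
    rw [← h, Int.cast_one, one_pow, mul_one]
    rfl

theorem one_values (hG : IsM11 G) {a : G} (Sh : Shape a degOne valOne) (ha : orderOf a = 11) {i : G}
    (hi : orderOf i = 2) : (Sh.f 5 : G → ℂ) i = 1 := by
  obtain ⟨v, hv, h0, h65, hm, hn, h1, h2⟩ := Sh.inv_values hG ha hi
  simp only [degOne, valOne] at h1 h2 hm
  have m1 := hm 1 (by decide); have m2 := hm 2 (by decide); have m3 := hm 3 (by decide)
  have m4 := hm 4 (by decide); have m5 := hm 5 (by decide)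
  simp only [Matrix.cons_val_zero, Matrix.cons_val_one, Matrix.cons_val, Nat.cast_ofNat] at h1 h2 m1 m2 m3 m4 m5
  have h2' : ((60 + 5 * v 1 ^ 2 + 5 * v 2 ^ 2 - 6 * v 3 ^ 2 - 6 * v 4 ^ 2 - 12 * v 5 ^ 2 : ℤ) : ℂ) = ((0 : ℤ) : ℂ) := by
    push_cast at h2 ⊢
    linear_combination 60 * h2
  rw [Fin.sum_univ_seven, h65, h0] at hn
  rw [hv 5, one_check (v 1) (by simp; omega) (v 2) (by simp; omega) (v 3) (by simp; omega) (v 4) (by simp; omega)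
    (v 5) (by simp; omega) (by linarith) (by exact_mod_cast h2') (by linarith)]
  norm_num

/-- The values in the second case. -/
theorem two_values (hG : IsM11 G) {a : G} (Sh : Shape a degTwo valTwo) (ha : orderOf a = 11) {i : G}
    (hi : orderOf i = 2) :
    ∃ v : Fin 7 → ℤ, (∀ j, (Sh.f j : G → ℂ) i = (v j : ℂ)) ∧ v 0 = 1 ∧ v 1 = -3 ∧ v 5 = 0 ∧ v 6 = 0 ∧
      v 2 + v 3 + v 4 = -2 ∧ v 2 ^ 2 = 4 ∧ v 3 ^ 2 = 4 ∧ v 4 ^ 2 = 4 := by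
  obtain ⟨v, hv, h0, h65, hm, hn, h1, h2⟩ := Sh.inv_values hG ha hi
  simp only [degTwo, valTwo] at h1 h2 hm
  have m1 := hm 1 (by decide); have m2 := hm 2 (by decide); have m3 := hm 3 (by decide)
  have m4 := hm 4 (by decide); have m5 := hm 5 (by decide)
  simp only [Matrix.cons_val_zero, Matrix.cons_val_one, Matrix.cons_val, Nat.cast_ofNat] at h1 h2 m1 m2 m3 m4 m5
  have h2' : ((720 + 16 * v 1 ^ 2 - 72 * v 2 ^ 2 - 72 * v 3 ^ 2 - 72 * v 4 ^ 2 - 45 * v 5 ^ 2 : ℤ) : ℂ) = ((0 : ℤ) : ℂ) := by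
    push_cast at h2 ⊢
    linear_combination 720 * h2
  rw [Fin.sum_univ_seven, h65, h0] at hn
  have hw1 : -26 ≤ v 1 ∧ v 1 ≤ 26 := ⟨by nlinarith, by nlinarith⟩
  have hy : v 5 = 1 + v 1 - v 2 - v 3 - v 4 := by linarith
  obtain ⟨e1, e2, e3⟩ := two_check (v 1) (by simp; omega) (v 2) (by simp; omega) (v 3) (by simp; omega)
    (v 4) (by simp; omega) (by omega) (by omega) (by omega) (by rw [← hy]; exact_mod_cast h2')
    (by rw [← hy]; linarith)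
  exact ⟨v, hv, h0, e1, by omega, by omega, e3⟩

end CfsgSimpleM11
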