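/-
Rational values of characters fixed by the automorphisms of the roots of unity.
-/
import Cfsg.Agent.Lib.SimpleM11.Involution

set_option autoImplicit false
set_option linter.style.haveILetI false
set_option linter.unusedSectionVars false

namespace CfsgSimpleM11

open Cfsg CfsgLib.CharTheory

universe u
variable {G : Type u} [Group G] [Fintype G]

/-- A character determined by its degree, its value at `a` and at an involution takes integral
values, constant on generators, off the elements of order divisible by eleven. -/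
theorem int_value (hG : IsM11 G) {a t : G} (ha : orderOf a = 11) (ht : t ^ 2 = 1) (χ : IrrCharacter G)
    (huniq : ∀ ψ : IrrCharacter G, dg ψ = dg χ → (ψ : G → ℂ) a = (χ : G → ℂ) a →
      (ψ : G → ℂ) t = (χ : G → ℂ) t → ψ = χ) {g : G} (hg : g ^ 720 = 1) :
    ∃ z : ℤ, (χ : G → ℂ) g = z ∧ ∀ m : ℕ, m.Coprime 7920 → (χ : G → ℂ) (g ^ m) = z := by
  have hinv : ∀ m : ℕ, m.Coprime (Nat.card G) → (χ : G → ℂ) (g ^ m) = (χ : G → ℂ) g := by
    intro m hm
    rw [card_eq hG] at hm
    obtain ⟨k, hk1, hk2⟩ := Nat.chineseRemainder (show Nat.Coprime 720 11 by norm_num) m 1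
    have hk : k.Coprime 7920 := by
      rw [show 7920 = 720 * 11 from rfl] at hm ⊢
      refine Nat.Coprime.mul_right ?_ ?_
      · rw [Nat.Coprime, Nat.gcd_comm, Nat.gcd_rec, hk1, ← Nat.gcd_rec, Nat.gcd_comm]
        exact hm.coprime_mul_right_right
      · rw [Nat.Coprime, Nat.gcd_comm, Nat.gcd_rec, hk2, ← Nat.gcd_rec]
        norm_num
    have hk' : k.Coprime (Nat.card G) := by rwa [card_eq hG]
    have hodd : k % 2 = 1 := by
      have := Nat.Coprime.coprime_dvd_right (show 2 ∣ 7920 by norm_num) hk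
      rw [Nat.coprime_two_right, Nat.odd_iff] at this
      exact this
    have hka : a ^ k = a := by
      conv_rhs => rw [← pow_one a]
      exact pow_red ha hk2
    have hkt : t ^ k = t := by
      rw [← Nat.mod_add_div k 2, hodd, pow_add, pow_mul, ht, one_pow, mul_one, pow_one]
    have he : powIrr hk' χ = χ := by
      refine huniq _ ?_ ?_ ?_
      · have h1 : (powIrr hk' χ : G → ℂ) 1 = (χ : G → ℂ) 1 := by
          show (χ : G → ℂ) (1 ^ k) = _
          rw [one_pow]
        rw [irr_degree, irr_degree] at h1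
        exact_mod_cast h1
      · show (χ : G → ℂ) (a ^ k) = _
        rw [hka]
      · show (χ : G → ℂ) (t ^ k) = _
        rw [hkt]
    have hgk : g ^ m = g ^ k := pow_eq_pow_of_modEq hk1.symm hg
    rw [hgk]
    exact congrArg (fun ψ : IrrCharacter G => (ψ : G → ℂ) g) he
  obtain ⟨z, hz⟩ := rational_int_of_invariant (isCharacter_of_irr χ.2) g hinv
  exact ⟨z, hz, fun m hm => by rw [hinv m (by rwa [card_eq hG]), hz]⟩

namespace Shape

variable {a : G} {D : Fin 7 → ℕ} {R : Fin 5 → ℤ} (Sh : Shape a D R)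

theorem exc_ne_zero : (Sh.f 5 : G → ℂ) a ≠ 0 := by
  intro h
  refine Sh.pair_ne ?_
  rw [irr_inv, h, map_zero]

theorem exc_unique (ψ : IrrCharacter G) (h : (ψ : G → ℂ) a = (Sh.f 5 : G → ℂ) a) : ψ = Sh.f 5 := by
  by_cases hr : ψ ∈ Set.range Sh.f
  · obtain ⟨j, rfl⟩ := hr
    by_cases hj : j.val < 5
    · exfalso
      obtain ⟨e1, e2⟩ := Sh.real ⟨j.val, hj⟩
      refine Sh.pair_ne ?_
      rw [irr_inv, ← h, ← irr_inv]
      exact e1.trans e2.symm
    · rcases (show j = 5 ∨ j = 6 by omega) with rfl | rfl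
      · rfl
      · rw [Sh.pair] at h
        exact absurd h.symm Sh.pair_ne
  · exact absurd ((Sh.rest ψ hr).1.symm.trans h).symm Sh.exc_ne_zero

theorem exc_int (hG : IsM11 G) (ha : orderOf a = 11) {g : G} (hg : g ^ 720 = 1) :
    ∃ z : ℤ, (Sh.f 5 : G → ℂ) g = z ∧ (Sh.f 6 : G → ℂ) g = z ∧
      ∀ m : ℕ, m.Coprime 7920 → (Sh.f 5 : G → ℂ) (g ^ m) = z := by
  obtain ⟨z, hz, hm⟩ := int_value hG ha (one_pow 2) (Sh.f 5) (fun ψ _ h _ => Sh.exc_unique ψ h) hg
  refine ⟨z, hz, ?_, hm⟩
  rw [Sh.pair, irr_inv, hz, map_intCast]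

end Shape

end CfsgSimpleM11
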