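/-
The normalisers of the subgroups of order five in a simple group of order 7920.
-/
import Cfsg.Agent.Lib.SimpleM11.Group

set_option autoImplicit false
set_option linter.style.haveILetI false
set_option linter.unusedSectionVars false

namespace CfsgSimpleM11

open Cfsg Subgroup
open scoped Pointwise

variable {G : Type*} [Group G] [Finite G]

theorem not_eleven_dvd_norm5 (hG : IsM11 G) {u : G} (hu : orderOf u = 5) :
    ¬ 11 ∣ Nat.card (normalizer ((zpowers u : Subgroup G) : Set G)) := by
  intro h
  haveI : Fact (Nat.Prime 11) := ⟨by norm_num⟩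
  obtain ⟨b, hb, hbo⟩ := CfsgLib.Order7920.exists_order (show Nat.Prime 11 by norm_num) h
  obtain ⟨k, hk, hk'⟩ := conj_pow_of_mem_norm hb
  rw [hu] at hk
  have h11 := conj_pow_iter hk' 11
  rw [← hbo, pow_orderOf_eq_one, one_mul, inv_one, mul_one, hbo] at h11
  have := (pow_eq_pow_iff_modEq (x := u)).mp ((pow_one u).trans h11)
  rw [hu] at this
  have key : ∀ k < 5, 1 % 5 = k ^ 11 % 5 → k = 1 := by decide
  rw [key k hk this, pow_one, mul_inv_eq_iff_eq_mul] at hk'
  have hbC : b ∈ centralizer ({u} : Set G) := mem_cent.mpr hk'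
  have := orderOf_dvd_natCard _ hbC
  rw [hbo] at this
  exact not_eleven_dvd_cent hG (by omega) (by omega) this

theorem norm5_cases (hG : IsM11 G) {u : G} (hu : orderOf u = 5) :
    Nat.card (normalizer ((zpowers u : Subgroup G) : Set G)) ∈ ([20, 45, 120, 720] : List ℕ) := by
  haveI : Fact (Nat.Prime 5) := ⟨by norm_num⟩
  obtain ⟨P, hP⟩ := exists_sylow_of_zpowers hG hu (by norm_num)
  have hm := card_sylow_modEq_one 5 G
  rw [P.card_eq_index_normalizer] at hm
  change (normalizer ((P : Subgroup G) : Set G)).index ≡ 1 [MOD 5] at hm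
  rw [hP] at hm
  have hi := (normalizer ((zpowers u : Subgroup G) : Set G)).card_mul_index
  rw [card_eq hG] at hi
  have hd := CfsgLib.Order7920.dvd_720 (card_eq hG ▸ card_subgroup_dvd_card _) (not_eleven_dvd_norm5 hG hu)
  have h5 : 5 ∣ Nat.card (normalizer ((zpowers u : Subgroup G) : Set G)) := by
    have := card_dvd_of_le (le_normalizer (H := zpowers u))
    rwa [Nat.card_zpowers, hu] at this
  have hidx : (normalizer ((zpowers u : Subgroup G) : Set G)).index =
      7920 / Nat.card (normalizer ((zpowers u : Subgroup G) : Set G)) := by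
    rw [← hi, Nat.mul_div_cancel_left _ Nat.card_pos]
  rw [hidx] at hm
  revert hm hd h5
  generalize Nat.card (normalizer ((zpowers u : Subgroup G) : Set G)) = N
  intro hm hd h5
  have key : ∀ N ∈ Nat.divisors 720, 5 ∣ N → 7920 / N % 5 = 1 → N ∈ ([20, 45, 120, 720] : List ℕ) := by
    decide +kernel
  exact key N (Nat.mem_divisors.2 ⟨hd, by norm_num⟩) h5 hm

/-- A centralising element moves a point and its images freely. -/
theorem cent5_le (hG : IsM11 G) {u : G} (hu : orderOf u = 5)
    (hN : Nat.card (normalizer ((zpowers u : Subgroup G) : Set G)) = 720) :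
    Nat.card (centralizer ({u} : Set G)) ≤ 121 := by
  classical
  haveI : Fact (Nat.Prime 5) := ⟨by norm_num⟩
  obtain ⟨P, hP⟩ := exists_sylow_of_zpowers hG hu (by norm_num)
  haveI := Fintype.ofFinite (Sylow 5 G)
  have hn : Nat.card (Sylow 5 G) = 11 := by
    have hi := (normalizer ((zpowers u : Subgroup G) : Set G)).card_mul_index
    rw [card_eq hG, hN, ← hP] at hi
    rw [P.card_eq_index_normalizer]
    change (normalizer ((P : Subgroup G) : Set G)).index = 11
    omega
  have hcP : ∀ c ∈ centralizer ({u} : Set G), c • P = P := fun c hc =>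
    Sylow.smul_eq_iff_mem_normalizer.mpr (show c ∈ normalizer ((P : Subgroup G) : Set G) by rw [hP]; exact cent_le_norm u hc)
  have hpow : ∀ k : ℕ, ∀ R : Sylow 5 G, u ^ k • R = R → u • R = R ∨ 5 ∣ k := by
    intro k R h
    by_cases hk : 5 ∣ k
    · exact Or.inr hk
    refine Or.inl ?_
    obtain ⟨j, hj⟩ := exists_pow_eq_self_of_coprime (x := u) (n := k)
      (by rw [hu]; exact ((Nat.Prime.coprime_iff_not_dvd (by norm_num)).2 hk).symm)
    have hs : ∀ j : ℕ, (u ^ k) ^ j • R = R := by
      intro j
      induction j with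
      | zero => rw [pow_zero, one_smul]
      | succ j ih => rw [pow_succ, mul_smul, h, ih]
    conv_lhs => rw [← hj]
    exact hs j
  have huniq : ∀ R : Sylow 5 G, u • R = R → R = P := by
    intro R h
    have hle : zpowers u ≤ normalizer ((R : Subgroup G) : Set G) :=
      zpowers_le.mpr (Sylow.smul_eq_iff_mem_normalizer.mp h)
    have h2 : (P : Subgroup G) ⊓ normalizer ((R : Subgroup G) : Set G) = (P : Subgroup G) ⊓ R :=
      P.isPGroup'.inf_normalizer_sylow R
    rw [inf_eq_left.mpr (hP ▸ hle)] at h2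
    exact Sylow.ext (eq_of_le_of_card_ge (h2.le.trans inf_le_right)
      (le_of_eq (by rw [P.card_eq_multiplicity, R.card_eq_multiplicity]))).symm
  have hnt : 1 < Nat.card (Sylow 5 G) := by omega
  haveI : Nontrivial (Sylow 5 G) := Finite.one_lt_card_iff_nontrivial.mp hnt
  obtain ⟨Q, hQ⟩ := exists_ne P
  have horb : ∀ R : Sylow 5 G, R ≠ P → Function.Injective (fun k : Fin 5 => u ^ k.val • R) := by
    intro R hR x y hxy
    rcases le_total x.val y.val with h | h
    · have h1 : u ^ (y.val - x.val) • R = R := by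
        apply MulAction.injective (u ^ x.val)
        simp only [← mul_smul, ← pow_add, Nat.add_sub_cancel' h]
        exact hxy.symm
      rcases hpow _ R h1 with h2 | h2
      · exact absurd (huniq R h2) hR
      · exact Fin.ext (by omega)
    · have h1 : u ^ (x.val - y.val) • R = R := by
        apply MulAction.injective (u ^ y.val)
        simp only [← mul_smul, ← pow_add, Nat.add_sub_cancel' h]
        exact hxy
      rcases hpow _ R h1 with h2 | h2
      · exact absurd (huniq R h2) hR
      · exact Fin.ext (by omega)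
  set O := (Finset.univ : Finset (Fin 5)).image (fun k => u ^ k.val • Q) with hO
  obtain ⟨Q', hQ'⟩ : ∃ Q' : Sylow 5 G, Q' ∉ insert P O := by
    by_contra h
    push Not at h
    have h1 : (insert P O).card = 11 := by
      rw [Finset.eq_univ_of_forall h, Finset.card_univ, ← Nat.card_eq_fintype_card, hn]
    have h2 := Finset.card_insert_le P O
    have h3 : O.card ≤ 5 := Finset.card_image_le.trans (by simp)
    omega
  rw [Finset.mem_insert, not_or] at hQ'
  set O' := (Finset.univ : Finset (Fin 5)).image (fun k => u ^ k.val • Q') with hO'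
  have hOc : O.card = 5 := by rw [hO, Finset.card_image_of_injective _ (horb Q hQ)]; simp
  have hOc' : O'.card = 5 := by rw [hO', Finset.card_image_of_injective _ (horb Q' hQ'.1)]; simp
  have hdisj : Disjoint O O' := by
    rw [Finset.disjoint_left]
    intro R h1 h2
    obtain ⟨x, -, hx⟩ := Finset.mem_image.1 h1
    obtain ⟨y, -, hy⟩ := Finset.mem_image.1 h2
    apply hQ'.2
    refine Finset.mem_image.2 ⟨⟨(x.val + (5 - y.val)) % 5, Nat.mod_lt _ (by norm_num)⟩, Finset.mem_univ _, ?_⟩
    show u ^ ((x.val + (5 - y.val)) % 5) • Q = Q'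
    apply MulAction.injective (u ^ y.val)
    simp only [← mul_smul, ← pow_add]
    rw [hy, ← hx]
    congr 1
    rw [pow_eq_pow_iff_modEq, hu, Nat.ModEq]
    omega
  have hPn : P ∉ O ∪ O' := by
    intro h
    rcases Finset.mem_union.1 h with h | h <;> obtain ⟨k, -, hk⟩ := Finset.mem_image.1 h
    · exact hQ (MulAction.injective (u ^ k.val) (hk.trans (hcP _ (pow_mem (mem_cent.mpr rfl) _)).symm))
    · exact hQ'.1 (MulAction.injective (u ^ k.val) (hk.trans (hcP _ (pow_mem (mem_cent.mpr rfl) _)).symm))
  have hall : insert P (O ∪ O') = Finset.univ := Finset.eq_univ_of_card _ (by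
    rw [Finset.card_insert_of_notMem hPn, Finset.card_union_of_disjoint hdisj, hOc, hOc',
      ← Nat.card_eq_fintype_card, hn])
  let F : centralizer ({u} : Set G) → Sylow 5 G × Sylow 5 G := fun c => ((c : G) • Q, (c : G) • Q')
  have hF : Function.Injective F := by
    intro c d h
    obtain ⟨h1, h2⟩ := Prod.ext_iff.1 h
    set z := (d : G)⁻¹ * c with hz
    have hzC : z ∈ centralizer ({u} : Set G) := mul_mem (inv_mem d.2) c.2
    have hzQ : z • Q = Q := by rw [hz, mul_smul, inv_smul_eq_iff]; exact h1
    have hzQ' : z • Q' = Q' := by rw [hz, mul_smul, inv_smul_eq_iff]; exact h2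
    have hzall : ∀ R : Sylow 5 G, z • R = R := by
      intro R
      have hR := hall ▸ Finset.mem_univ R
      have hcomm : ∀ k : ℕ, z * u ^ k = u ^ k * z := fun k => (Commute.pow_right (mem_cent.mp hzC) k).eq
      rcases Finset.mem_insert.1 hR with rfl | hR
      · exact hcP z hzC
      rcases Finset.mem_union.1 hR with hR | hR <;> obtain ⟨k, -, rfl⟩ := Finset.mem_image.1 hR
      · rw [← mul_smul, hcomm, mul_smul, hzQ]
      · rw [← mul_smul, hcomm, mul_smul, hzQ']
    have hz1 : z = 1 := by
      rcases normal_cases hG (MonoidHom.normal_ker (MulAction.toPermHom G (Sylow 5 G))) with e | e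
      · exact mem_bot.mp (e ▸ MonoidHom.mem_ker.mpr (Equiv.ext hzall))
      · exfalso
        have hx : u ∈ (MulAction.toPermHom G (Sylow 5 G)).ker := e ▸ mem_top u
        exact hQ (huniq Q (Equiv.ext_iff.mp (MonoidHom.mem_ker.mp hx) Q))
    exact (Subtype.ext (inv_mul_eq_one.1 hz1)).symm
  have := Nat.card_le_card_of_injective F hF
  rw [Nat.card_prod, hn] at this
  omega

theorem cent5_facts (hG : IsM11 G) {u : G} (hu : orderOf u = 5) :
    Nat.card (centralizer ({u} : Set G)) ∣ Nat.card (normalizer ((zpowers u : Subgroup G) : Set G)) ∧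
      Nat.card (normalizer ((zpowers u : Subgroup G) : Set G)) ∣ 4 * Nat.card (centralizer ({u} : Set G)) ∧
      Nat.card (centralizer ({u} : Set G)) ≠ Nat.card (normalizer ((zpowers u : Subgroup G) : Set G)) := by
  haveI : Fact (Nat.Prime 5) := ⟨by norm_num⟩
  refine ⟨card_dvd_of_le (cent_le_norm u), ?_, ?_⟩
  · haveI : IsCyclic (zpowers u) := inferInstance
    have h1 := (normalizerMonoidHom (zpowers u)).ker.card_mul_index
    rw [index_ker] at h1
    have h2 : Nat.card (normalizerMonoidHom (zpowers u)).range ∣ 4 := by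
      refine (card_subgroup_dvd_card _).trans ?_
      rw [IsCyclic.card_mulAut, Nat.card_zpowers, hu]
      decide
    rw [← h1, mul_comm 4]
    refine Nat.mul_dvd_mul (dvd_of_eq ?_) h2
    rw [normalizerMonoidHom_ker]
    exact (Nat.card_congr (subgroupOfEquivOfLe (centralizer_le_normalizer _)).toEquiv).trans
      (by rw [cent_zpowers])
  · intro h
    obtain ⟨P, hP⟩ := exists_sylow_of_zpowers hG hu (by norm_num)
    refine no_transfer hG P (by rw [hP, Nat.card_zpowers, hu]; norm_num)
      (by rw [hP, Nat.card_zpowers, hu]; norm_num) ?_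
    rw [hP, cent_zpowers]
    exact (eq_of_le_of_card_ge (cent_le_norm u) h.ge).ge

/-- The possible centralisers of elements of order five. -/
theorem cent5_cases (hG : IsM11 G) {u : G} (hu : orderOf u = 5) :
    let c := Nat.card (centralizer ({u} : Set G))
    let n := Nat.card (normalizer ((zpowers u : Subgroup G) : Set G))
    (c = 5 ∧ n = 20) ∨ (2 ∣ c ∧ (c ≤ 30 ∨ (c ≤ 60 ∧ n < 4 * c))) := by
  intro c n
  have hN := norm5_cases hG hu
  obtain ⟨h1, h2, h3⟩ := cent5_facts hG hu
  have h5 : 5 ∣ c := by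
    have := card_dvd_of_le (zpowers_le.mpr (mem_cent.mpr rfl) : zpowers u ≤ centralizer ({u} : Set G))
    rwa [Nat.card_zpowers, hu] at this
  have hle : n = 720 → c ≤ 121 := fun h => cent5_le hG hu h
  have key : ∀ n ∈ ([20, 45, 120, 720] : List ℕ), ∀ c ∈ Nat.divisors n, 5 ∣ c → n ∣ 4 * c → c ≠ n →
      (n = 720 → c ≤ 121) → (c = 5 ∧ n = 20) ∨ (2 ∣ c ∧ (c ≤ 30 ∨ (c ≤ 60 ∧ n < 4 * c))) := by
    decide +kernel
  exact key n hN c (Nat.mem_divisors.2 ⟨h1, Nat.card_pos.ne'⟩) h5 h2 h3 hle

/-- The action of a normalising element. -/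
theorem sq_not_conj (hG : IsM11 G) {u : G} (hu : orderOf u = 5)
    (h : Nat.card (normalizer ((zpowers u : Subgroup G) : Set G)) < 4 * Nat.card (centralizer ({u} : Set G))) :
    ¬ IsConj u (u ^ 2) := by
  intro hc
  obtain ⟨g, hg⟩ := isConj_iff.mp hc
  let F : Fin 4 × centralizer ({u} : Set G) → normalizer ((zpowers u : Subgroup G) : Set G) :=
    fun x => ⟨g ^ x.1.val * (x.2 : G), mul_mem (pow_mem (mem_norm_of_conj_pow hg) _) (cent_le_norm u x.2.2)⟩
  have hact : ∀ x : Fin 4 × centralizer ({u} : Set G),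
      (g ^ x.1.val * (x.2 : G)) * u * (g ^ x.1.val * (x.2 : G))⁻¹ = u ^ (2 ^ x.1.val) := fun x => by
    rw [← conj_pow_iter hg x.1.val]
    have := mem_cent.mp x.2.2
    calc (g ^ x.1.val * (x.2 : G)) * u * (g ^ x.1.val * (x.2 : G))⁻¹
        = g ^ x.1.val * ((x.2 : G) * u * (x.2 : G)⁻¹) * (g ^ x.1.val)⁻¹ := by group
      _ = _ := by rw [this, mul_inv_cancel_right]
  have hF : Function.Injective F := by
    intro x y hxy
    have h' : g ^ x.1.val * (x.2 : G) = g ^ y.1.val * (y.2 : G) := congrArg Subtype.val hxy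
    have h1 := hact x
    rw [h', hact y, pow_eq_pow_iff_modEq, hu] at h1
    have key : ∀ i j : Fin 4, 2 ^ i.val % 5 = 2 ^ j.val % 5 → i = j := by decide
    have e := (key _ _ h1).symm
    rw [e] at h'
    exact Prod.ext e (Subtype.ext (mul_left_cancel h'))
  have := Nat.card_le_card_of_injective F hF
  rw [Nat.card_prod, Nat.card_fin] at this
  omega

end CfsgSimpleM11
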