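/-
Elements of order five centralise no involution.
-/
import Cfsg.Agent.Lib.SimpleM11.FiveGroup
import Cfsg.Agent.Lib.SimpleM11.Rational

set_option autoImplicit false
set_option linter.style.haveILetI false
set_option linter.unusedSectionVars false

namespace CfsgSimpleM11

open Cfsg CfsgLib.CharTheory
open scoped ComplexConjugate

universe u
variable {G : Type u} [Group G] [Fintype G]

theorem cast_card_le {g : G} {w : IrrCharacter G → ℝ} (hw : ∀ χ, 0 ≤ w χ) (s : Finset (IrrCharacter G))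
    {c : ℕ} (h : ∑ χ, w χ = (c : ℝ)) : ∑ χ ∈ s, w χ ≤ (c : ℝ) :=
  h ▸ Finset.sum_le_sum_of_subset_of_nonneg (Finset.subset_univ _) fun χ _ _ => hw χ

theorem pair_norm (g h : G) (hgh : ¬ IsConj g h) :
    ∑ χ : IrrCharacter G, Complex.normSq ((χ : G → ℂ) g + (χ : G → ℂ) h) =
      ((Nat.card (Subgroup.centralizer ({g} : Set G)) + Nat.card (Subgroup.centralizer ({h} : Set G)) : ℕ) : ℝ) := by
  classical
  have h1 := sum_irr_mul_conj g g
  have h2 := sum_irr_mul_conj g h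
  have h3 := sum_irr_mul_conj h g
  have h4 := sum_irr_mul_conj h h
  rw [if_pos (IsConj.refl g)] at h1
  rw [if_pos (IsConj.refl h)] at h4
  rw [if_neg hgh] at h2
  rw [if_neg (fun e => hgh e.symm)] at h3
  have : ((∑ χ : IrrCharacter G, Complex.normSq ((χ : G → ℂ) g + (χ : G → ℂ) h) : ℝ) : ℂ) =
      (((Nat.card (Subgroup.centralizer ({g} : Set G)) + Nat.card (Subgroup.centralizer ({h} : Set G)) : ℕ) : ℝ) : ℂ) := by
    push_cast
    simp only [← Complex.mul_conj, map_add, add_mul, mul_add, Finset.sum_add_distrib]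
    rw [h1, h2, h3, h4]
    ring
  exact_mod_cast this

namespace Shape

variable {a : G} {D : Fin 7 → ℕ} {R : Fin 5 → ℤ} (Sh : Shape a D R)

theorem exc_small_one {g : G} {z : ℤ} (h5 : (Sh.f 5 : G → ℂ) g = z) (h6 : (Sh.f 6 : G → ℂ) g = z)
    (hc : Nat.card (Subgroup.centralizer ({g} : Set G)) ≤ 30) : z ^ 2 ≤ 14 := by
  classical
  have h := sum_irr_mul_conj g g
  rw [if_pos (IsConj.refl g)] at h
  simp only [Complex.mul_conj, ← Complex.ofReal_sum] at h
  have h' : (∑ χ : IrrCharacter G, Complex.normSq ((χ : G → ℂ) g)) =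
      (Nat.card (Subgroup.centralizer ({g} : Set G)) : ℝ) := by exact_mod_cast h
  have hle := cast_card_le (g := g) (fun χ => Complex.normSq_nonneg ((χ : G → ℂ) g))
    {Sh.f 0, Sh.f 5, Sh.f 6} h'
  rw [Finset.sum_insert (by simp [Sh.inj.eq_iff]), Finset.sum_pair (fun e => absurd (Sh.inj e) (by decide)),
    Sh.first, triv_apply, h5, h6, Complex.normSq_one, Complex.normSq_intCast] at hle
  have hc' : (Nat.card (Subgroup.centralizer ({g} : Set G)) : ℝ) ≤ 30 := by exact_mod_cast hc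
  have : (((z ^ 2) * 2 : ℤ) : ℝ) ≤ ((29 : ℤ) : ℝ) := by push_cast; nlinarith
  have : z ^ 2 * 2 ≤ 29 := by exact_mod_cast this
  omega

theorem exc_small_two {g h : G} {z : ℤ} (hg5 : (Sh.f 5 : G → ℂ) g = z) (hg6 : (Sh.f 6 : G → ℂ) g = z)
    (hh5 : (Sh.f 5 : G → ℂ) h = z) (hh6 : (Sh.f 6 : G → ℂ) h = z) (hgh : ¬ IsConj g h)
    (hc : Nat.card (Subgroup.centralizer ({g} : Set G)) ≤ 60)
    (hc' : Nat.card (Subgroup.centralizer ({h} : Set G)) ≤ 60) : z ^ 2 ≤ 14 := by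
  classical
  have hle := cast_card_le (g := g) (fun χ => Complex.normSq_nonneg ((χ : G → ℂ) g + (χ : G → ℂ) h))
    {Sh.f 0, Sh.f 5, Sh.f 6} (pair_norm g h hgh)
  rw [Finset.sum_insert (by simp [Sh.inj.eq_iff]), Finset.sum_pair (fun e => absurd (Sh.inj e) (by decide)),
    Sh.first, triv_apply, triv_apply, hg5, hg6, hh5, hh6, ← Int.cast_add, Complex.normSq_intCast,
    show (1 : ℂ) + 1 = ((2 : ℤ) : ℂ) by norm_num, Complex.normSq_intCast] at hle
  have h120 : ((Nat.card (Subgroup.centralizer ({g} : Set G)) + Nat.card (Subgroup.centralizer ({h} : Set G)) : ℕ) : ℝ)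
      ≤ 120 := by
    exact_mod_cast (show Nat.card (Subgroup.centralizer ({g} : Set G)) + Nat.card (Subgroup.centralizer ({h} : Set G)) ≤ 120 by omega)
  have : (((z ^ 2) * 8 : ℤ) : ℝ) ≤ ((116 : ℤ) : ℝ) := by push_cast at hle h120 ⊢; nlinarith
  have : z ^ 2 * 8 ≤ 116 := by exact_mod_cast this
  omega

/-- The exceptional character on an element of order ten. -/
theorem no_ten (hG : IsM11 G) (ha : orderOf a = 11) {u i : G} (hu : orderOf u = 5) (hi : orderOf i = 2)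
    (hui : Commute u i) {y : ℤ} (hy : (Sh.f 5 : G → ℂ) i = y)
    (hnum : ∀ z w : ℤ, z ^ 2 ≤ 14 → w ^ 2 ≤ 14 → 0 ≤ (D 5 : ℤ) + y - (z + w) → 0 ≤ (D 5 : ℤ) - y - (z - w) →
      ((D 5 : ℤ) + y - (z + w)) % 10 = 0 → ((D 5 : ℤ) - y - (z - w)) % 10 = 0 →
      0 ≤ (D 5 : ℤ) + y + 4 * (z + w) → 0 ≤ (D 5 : ℤ) - y + 4 * (z - w) → False) : False := by
  classical
  set x := u * i with hx
  have hu5 : u ^ 5 = 1 := hu ▸ pow_orderOf_eq_one u
  have hi2 : i ^ 2 = 1 := hi ▸ pow_orderOf_eq_one i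
  have hxo : orderOf x = 10 := by
    rw [hx, hui.orderOf_mul_eq_mul_orderOf_of_coprime (by rw [hu, hi]; norm_num), hu, hi]
  have hx10 : x ^ 10 = 1 := hxo ▸ pow_orderOf_eq_one x
  have hxp : ∀ k, x ^ k = u ^ k * i ^ k := fun k => hui.mul_pow k
  have hx6 : x ^ 6 = u := by
    rw [hxp, pow_succ u 5, hu5, one_mul, show 6 = 2 * 3 from rfl, pow_mul, hi2, one_pow, mul_one]
  have hx5 : x ^ 5 = i := by
    rw [hxp, hu5, one_mul, pow_succ, show 4 = 2 * 2 from rfl, pow_mul, hi2, one_pow, one_mul]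
  obtain ⟨z, hz5, hz6, hzm⟩ := Sh.exc_int hG ha (g := u) (by
    rw [show 720 = 5 * 144 from rfl, pow_mul, hu5, one_pow])
  obtain ⟨w, hw5, hw6, hwm⟩ := Sh.exc_int hG ha (g := x) (by
    rw [show 720 = 10 * 72 from rfl, pow_mul, hx10, one_pow])
  have hcx : ∀ g : G, u ∈ Subgroup.zpowers g →
      Nat.card (Subgroup.centralizer ({g} : Set G)) ≤ Nat.card (Subgroup.centralizer ({u} : Set G)) := by
    intro g hg
    refine Subgroup.card_le_of_le ?_
    intro c hc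
    rw [← cent_zpowers] at hc
    exact mem_cent.mpr (Subgroup.mem_centralizer_iff.mp hc u hg).symm
  have hbound : z ^ 2 ≤ 14 ∧ w ^ 2 ≤ 14 := by
    rcases cent5_cases hG hu with ⟨h, -⟩ | ⟨-, h | ⟨h, hn⟩⟩
    · exfalso
      have h2 := Subgroup.orderOf_dvd_natCard (Subgroup.centralizer ({u} : Set G)) (mem_cent.mpr hui.symm.eq)
      rw [hi, h] at h2
      norm_num at h2
    · exact ⟨Sh.exc_small_one hz5 hz6 h,
        Sh.exc_small_one hw5 hw6 ((hcx x (hx6 ▸ pow_mem (Subgroup.mem_zpowers x) 6)).trans h)⟩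
    · have hnc := sq_not_conj hG hu hn
      refine ⟨Sh.exc_small_two (h := u ^ 7) hz5 hz6 (hzm 7 (by norm_num)) ?_ ?_ h ?_,
        Sh.exc_small_two (h := x ^ 7) hw5 hw6 (hwm 7 (by norm_num)) ?_ ?_
          ((hcx x (hx6 ▸ pow_mem (Subgroup.mem_zpowers x) 6)).trans h) ?_⟩
      · rw [Sh.pair, irr_inv, hzm 7 (by norm_num), map_intCast]
      · rwa [pow_red hu (show 7 % 5 = 2 % 5 by rfl)]
      · refine (hcx _ ⟨3, ?_⟩).trans h
        show (u ^ 7) ^ (3 : ℤ) = u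
        rw [zpow_ofNat, ← pow_mul]
        conv_rhs => rw [← pow_one u]
        exact pow_red hu rfl
      · rw [Sh.pair, irr_inv, hwm 7 (by norm_num), map_intCast]
      · intro hc
        apply hnc
        have h6 := isConj_pow hc 6
        rw [hx6, ← pow_mul, mul_comm, pow_mul, hx6, pow_red hu (show 7 % 5 = 2 % 5 by rfl)] at h6
        exact h6
      · refine (hcx _ ⟨8, ?_⟩).trans h
        show (x ^ 7) ^ (8 : ℤ) = u
        rw [zpow_ofNat, ← pow_mul, ← hx6]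
        exact pow_red hxo rfl
  -- the values along the cyclic group of order ten
  set χ := Sh.f 5 with hχ
  set v : ℕ → ℂ := fun k => (χ : G → ℂ) (x ^ k) with hv
  have ev : ∀ k m : ℕ, (6 * m) % 10 = k % 10 → m.Coprime 7920 → v k = z := fun k m h hm => by
    simp only [hv]
    rw [← hzm m hm, ← hx6, ← pow_mul, pow_red hxo h]
  have od : ∀ k m : ℕ, m % 10 = k % 10 → m.Coprime 7920 → v k = w := fun k m h hm => by
    simp only [hv]
    rw [← hwm m hm, pow_red hxo h]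
  have e0 : v 0 = (D 5 : ℂ) := by simp [hv, hχ, irr_degree, ← Sh.deg 5]
  have e5 : v 5 = (y : ℂ) := by simp [hv, hx5, hy]
  have e6 := ev 6 1 rfl (by norm_num)
  have e2 := ev 2 7 rfl (by norm_num)
  have e8 := ev 8 13 rfl (by norm_num)
  have e4 := ev 4 19 rfl (by norm_num)
  have e1 := od 1 1 rfl (by norm_num)
  have e3 := od 3 13 rfl (by norm_num)
  have e7 := od 7 7 rfl (by norm_num)
  have e9 := od 9 19 rfl (by norm_num)
  have expand : ∀ s : ℂ, s ^ 10 = 1 → ∃ m : ℕ, (D 5 : ℂ) + z * (s ^ 2 + s ^ 4 + s ^ 6 + s ^ 8) + (y : ℂ) * s ^ 5 +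
      w * (s + s ^ 3 + s ^ 7 + s ^ 9) = 10 * m := by
    intro s hs
    obtain ⟨m, hm⟩ := exists_mult_range χ hx10 hs
    refine ⟨m, ?_⟩
    rw [Nat.cast_ofNat] at hm
    rw [← hm]
    simp only [Finset.sum_range_succ, Finset.sum_range_zero]
    have hv' : ∀ k, (χ : G → ℂ) (x ^ k) = v k := fun k => rfl
    simp only [hv', e0, e1, e2, e3, e4, e5, e6, e7, e8, e9]
    ring
  obtain ⟨n1, h1⟩ := expand 1 (one_pow _)
  obtain ⟨n2, h2⟩ := expand (-1) (by norm_num)
  obtain ⟨s, hs, hsum⟩ : ∃ s : ℂ, s ^ 5 = 1 ∧ 1 + s + s ^ 2 + s ^ 3 + s ^ 4 = 0 := by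
    obtain ⟨s, hs⟩ : ∃ s : ℂ, IsPrimitiveRoot s 5 := ⟨_, Complex.isPrimitiveRoot_exp 5 (by norm_num)⟩
    refine ⟨s, hs.pow_eq_one, ?_⟩
    have := hs.geom_sum_eq_zero (by norm_num)
    simp only [Finset.sum_range_succ, Finset.sum_range_zero] at this
    linear_combination this
  obtain ⟨n3, h3⟩ := expand s (by rw [show 10 = 5 * 2 from rfl, pow_mul, hs, one_pow])
  obtain ⟨n4, h4⟩ := expand (-s) (by rw [Even.neg_pow (by decide), show 10 = 5 * 2 from rfl, pow_mul, hs, one_pow])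
  have e6s : s ^ 6 = s := by rw [pow_succ, hs, one_mul]
  have e7s : s ^ 7 = s ^ 2 := by rw [show 7 = 5 + 2 from rfl, pow_add, hs, one_mul]
  have e8s : s ^ 8 = s ^ 3 := by rw [show 8 = 5 + 3 from rfl, pow_add, hs, one_mul]
  have e9s : s ^ 9 = s ^ 4 := by rw [show 9 = 5 + 4 from rfl, pow_add, hs, one_mul]
  have i1 : (((D 5 : ℤ) + y + 4 * (z + w) : ℤ) : ℂ) = ((10 * n1 : ℤ) : ℂ) := by
    push_cast; rw [← h1]; ring
  have i2 : (((D 5 : ℤ) - y + 4 * (z - w) : ℤ) : ℂ) = ((10 * n2 : ℤ) : ℂ) := by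
    push_cast; rw [← h2]; ring
  have i3 : (((D 5 : ℤ) + y - (z + w) : ℤ) : ℂ) = ((10 * n3 : ℤ) : ℂ) := by
    push_cast
    rw [← h3, e6s, e7s, e8s, e9s, hs]
    linear_combination -((z : ℂ) + w) * hsum
  have i4 : (((D 5 : ℤ) - y - (z - w) : ℤ) : ℂ) = ((10 * n4 : ℤ) : ℂ) := by
    push_cast
    rw [← h4]
    have hneg : ∀ k : ℕ, (-s) ^ k = (-1) ^ k * s ^ k := fun k => neg_pow s k
    simp only [hneg, e6s, e7s, e8s, e9s, hs]
    norm_num
    linear_combination -((z : ℂ) - w) * hsum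
  have j1 := Int.cast_injective i1
  have j2 := Int.cast_injective i2
  have j3 := Int.cast_injective i3
  have j4 := Int.cast_injective i4
  exact hnum z w hbound.1 hbound.2 (by omega) (by omega) (by omega) (by omega) (by omega) (by omega)

end Shape

theorem small_of_sq {z : ℤ} (h : z ^ 2 ≤ 14) : -3 ≤ z ∧ z ≤ 3 := ⟨by nlinarith, by nlinarith⟩

/-- Elements of order five are self-centralising. -/
theorem cent5 (hG : IsM11 G) {u : G} (hu : orderOf u = 5) :
    Nat.card (Subgroup.centralizer ({u} : Set G)) = 5 ∧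
      Nat.card (Subgroup.normalizer ((Subgroup.zpowers u : Subgroup G) : Set G)) = 20 := by
  rcases cent5_cases hG hu with h | ⟨h2, -⟩
  · exact h
  exfalso
  haveI : Fact (Nat.Prime 11) := ⟨by norm_num⟩
  haveI : Fact (Nat.Prime 2) := ⟨Nat.prime_two⟩
  obtain ⟨a, ha⟩ := exists_prime_orderOf_dvd_card' (G := G) 11 (by rw [card_eq hG]; norm_num)
  obtain ⟨i, hi, hio⟩ := CfsgLib.Order7920.exists_order Nat.prime_two h2
  have hcomm : Commute u i := (mem_cent.mp hi).symm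
  rcases exists_shape hG ha with ⟨⟨Sh⟩⟩ | ⟨⟨Sh⟩⟩
  · refine Sh.no_ten hG ha hu hio hcomm (y := 1) (by rw [one_values hG Sh ha hio, Int.cast_one]) ?_
    intro z w hz hw
    obtain ⟨a1, a2⟩ := small_of_sq hz
    obtain ⟨b1, b2⟩ := small_of_sq hw
    simp only [degOne, Matrix.cons_val, Nat.cast_ofNat]
    omega
  · obtain ⟨v, hv, -, -, h5, -⟩ := two_values hG Sh ha hio
    refine Sh.no_ten hG ha hu hio hcomm (y := 0) (by rw [hv 5, h5]) ?_
    intro z w hz hw
    obtain ⟨a1, a2⟩ := small_of_sq hz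
    obtain ⟨b1, b2⟩ := small_of_sq hw
    simp only [degTwo, Matrix.cons_val, Nat.cast_ofNat]
    omega

end CfsgSimpleM11
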