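/-
The degrees of the irreducible characters of a simple group of order 7920.
-/
import Cfsg.Agent.Lib.SimpleM11.Five

set_option autoImplicit false
set_option linter.style.haveILetI false
set_option linter.unusedSectionVars false

namespace CfsgSimpleM11

open Cfsg CfsgLib.CharTheory
open scoped ComplexConjugate

universe u
variable {G : Type u} [Group G] [Fintype G]

theorem five_conj_two (hG : IsM11 G) {u : G} (hu : orderOf u = 5) : IsConj u (u ^ 2) := by
  classical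
  by_contra hne
  obtain ⟨hC, hN⟩ := cent5 hG hu
  set N := Subgroup.normalizer ((Subgroup.zpowers u : Subgroup G) : Set G) with hNdef
  have hk : ∀ g : N, (g : G) * u * (g : G)⁻¹ = u ∨ (g : G) * u * (g : G)⁻¹ = u ^ 4 := by
    intro g
    obtain ⟨k, hk, hk'⟩ := conj_pow_of_mem_norm g.2
    rw [hu] at hk
    interval_cases k
    · exfalso
      rw [pow_zero, mul_inv_eq_one, mul_eq_left] at hk'
      rw [hk', orderOf_one] at hu
      norm_num at hu
    · rw [pow_one] at hk'; exact Or.inl hk'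
    · exact absurd (isConj_iff.mpr ⟨_, hk'⟩) hne
    · refine absurd (isConj_iff.mpr ⟨(g : G) ^ 3, ?_⟩) hne
      rw [conj_pow_iter hk' 3]
      exact pow_red hu rfl
    · exact Or.inr hk'
  have hinj : ∀ p : G → Prop, (∀ g h : N, p g → p h → (g : G)⁻¹ * h ∈ Subgroup.centralizer ({u} : Set G)) →
      Nat.card {g : N // p g} ≤ 5 := by
    intro p hp
    rcases isEmpty_or_nonempty {g : N // p g} with h | ⟨⟨g0, hg0⟩⟩
    · simp
    rw [← hC]
    refine Nat.card_le_card_of_injective (fun g => ⟨(g0 : G)⁻¹ * (g.1 : G), hp g0 g.1 hg0 g.2⟩) ?_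
    intro x y h
    exact Subtype.ext (Subtype.ext (mul_left_cancel (congrArg Subtype.val h)))
  have hsame : ∀ w : G, ∀ g h : N, (g : G) * u * (g : G)⁻¹ = w → (h : G) * u * (h : G)⁻¹ = w →
      (g : G)⁻¹ * h ∈ Subgroup.centralizer ({u} : Set G) := by
    intro w g h hg hh
    refine mem_cent.mpr ?_
    calc (g : G)⁻¹ * h * u = (g : G)⁻¹ * ((h : G) * u * (h : G)⁻¹) * h := by group
      _ = (g : G)⁻¹ * ((g : G) * u * (g : G)⁻¹) * h := by rw [hh, hg]
      _ = u * ((g : G)⁻¹ * h) := by group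
  have h1 := hinj (fun g => g * u * g⁻¹ = u) (hsame u)
  have h2 := hinj (fun g => g * u * g⁻¹ = u ^ 4) (hsame (u ^ 4))
  have h3 : Nat.card N ≤ Nat.card {g : N // (g : G) * u * (g : G)⁻¹ = u} +
      Nat.card {g : N // (g : G) * u * (g : G)⁻¹ = u ^ 4} := by
    rw [← Nat.card_sum]
    refine Nat.card_le_card_of_injective (fun g => if h : (g : G) * u * (g : G)⁻¹ = u then Sum.inl ⟨g, h⟩
      else Sum.inr ⟨g, (hk g).resolve_left h⟩) ?_
    intro x y h
    dsimp only at h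
    split_ifs at h with a b <;> first | cases h | skip
    all_goals first
      | rfl
      | exact congrArg Subtype.val (Sum.inl_injective h)
      | exact congrArg Subtype.val (Sum.inr_injective h)
  omega

/-- Every character is integral at an element of order five. -/
theorem five_int (hG : IsM11 G) {u : G} (hu : orderOf u = 5) (χ : IrrCharacter G) :
    ∃ z : ℤ, (χ : G → ℂ) u = z ∧ z % 5 = (dg χ : ℤ) % 5 := by
  haveI : Fact (Nat.Prime 5) := ⟨by norm_num⟩
  have h2 := five_conj_two hG hu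
  have h4 : IsConj u (u ^ 4) := h2.trans (by
    have := isConj_pow h2 2
    rwa [← pow_mul] at this)
  have h3 : IsConj u (u ^ 3) := h4.trans (by
    have := isConj_pow h2 4
    rwa [← pow_mul, pow_red hu (show (2 * 4) % 5 = 3 % 5 by rfl)] at this)
  obtain ⟨z, hz⟩ := rational_int_of_invariant (isCharacter_of_irr χ.2) u (fun m hm => by
    rw [card_eq hG] at hm
    have h5 : m % 5 ≠ 0 := fun h => by
      have := Nat.Coprime.coprime_dvd_right (show 5 ∣ 7920 by norm_num) hm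
      rw [Nat.coprime_comm, Nat.Prime.coprime_iff_not_dvd (by norm_num)] at this
      exact this (Nat.dvd_of_mod_eq_zero h)
    have hlt := Nat.mod_lt m (show 5 > 0 by norm_num)
    rw [pow_red hu (show m % 5 = m % 5 % 5 by rw [Nat.mod_mod])]
    interval_cases m % 5
    · omega
    · rw [pow_one]
    · exact (irr_of_isConj χ h2).symm
    · exact (irr_of_isConj χ h3).symm
    · exact (irr_of_isConj χ h4).symm)
  refine ⟨z, hz, ?_⟩
  have h := genChar_modEq_mul (isGenChar_of_char (isCharacter_of_irr χ.2)) (p := 5) (y := u) (z := 1) (k := 1)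
    (by rw [pow_one, ← hu, pow_orderOf_eq_one]) (Commute.one_right u) (a := z) (b := (dg χ : ℤ))
    (c := (dg χ : ℤ)) (by rw [mul_one, hz]) (by rw [irr_degree, Int.cast_natCast])
    (by rw [one_pow, irr_degree, Int.cast_natCast])
  exact h

theorem five_norm (hG : IsM11 G) {u : G} (hu : orderOf u = 5) (z : IrrCharacter G → ℤ)
    (hz : ∀ χ : IrrCharacter G, (χ : G → ℂ) u = (z χ : ℂ)) : ∑ χ, z χ ^ 2 = 5 := by
  classical
  have h := sum_irr_mul_conj u u
  rw [if_pos (IsConj.refl u), (cent5 hG hu).1] at h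
  simp only [hz, map_intCast] at h
  have : ((∑ χ, z χ ^ 2 : ℤ) : ℂ) = ((5 : ℤ) : ℂ) := by
    push_cast
    simp only [pow_two]
    rw [h]
    norm_num
  exact_mod_cast this

/-- The degrees. -/
abbrev degTen : Fin 10 → ℕ := ![1, 45, 10, 10, 10, 16, 16, 11, 44, 55]

/-- The list of all irreducible characters. -/
structure Table (a : G) where
  Sh : Shape a degTwo valTwo
  e : Fin 10 → IrrCharacter G
  bij : Function.Bijective e
  low : ∀ j : Fin 7, e (j.castLE (by norm_num)) = Sh.f j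
  deg : ∀ j, dg (e j) = degTen j

theorem exists_table (hG : IsM11 G) {a : G} (ha : orderOf a = 11) : Nonempty (Table a) := by
  classical
  haveI : Fact (Nat.Prime 5) := ⟨by norm_num⟩
  obtain ⟨u, hu⟩ := exists_prime_orderOf_dvd_card' (G := G) 5 (by rw [card_eq hG]; norm_num)
  choose z hz hzm using five_int hG hu
  have hnorm := five_norm hG hu z hz
  have hsplit : ∀ {D : Fin 7 → ℕ} {R : Fin 5 → ℤ} (Sh : Shape a D R) (F : IrrCharacter G → ℤ),
      ∑ j, F (Sh.f j) + ∑ χ ∈ Finset.univ.filter (fun χ => χ ∉ Set.range Sh.f), F χ = ∑ χ, F χ := by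
    intro D R Sh F
    rw [← Finset.sum_filter_add_sum_filter_not Finset.univ (fun χ => χ ∈ Set.range Sh.f) F]
    congr 1
    rw [← Finset.sum_image (f := F) (fun x _ y _ hxy => Sh.inj hxy)]
    exact Finset.sum_congr (by ext χ; simp [Set.mem_range]) fun _ _ => rfl
  have hsq1 : ∀ χ, z χ % 5 ≠ 0 → 1 ≤ z χ ^ 2 := fun χ h => by
    rcases lt_or_gt_of_ne (show z χ ≠ 0 from fun e => h (by rw [e]; rfl)) with h' | h' <;> nlinarith
  rcases exists_shape hG ha with ⟨⟨Sh⟩⟩ | ⟨⟨Sh⟩⟩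
  · exfalso
    have h := hsplit Sh (fun χ => z χ ^ 2)
    rw [hnorm, Fin.sum_univ_seven] at h
    have h0 : 0 ≤ ∑ χ ∈ Finset.univ.filter (fun χ => χ ∉ Set.range Sh.f), z χ ^ 2 :=
      Finset.sum_nonneg fun _ _ => sq_nonneg _
    have e0 := hzm (Sh.f 0); have e1 := hzm (Sh.f 1); have e2 := hzm (Sh.f 2)
    rw [Sh.deg] at e0 e1 e2
    simp only [degOne, Matrix.cons_val_zero, Matrix.cons_val_one, Matrix.cons_val, Nat.cast_ofNat, Nat.cast_one] at e0 e1 e2
    have q0 : 1 ≤ z (Sh.f 0) ^ 2 := hsq1 _ (by omega)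
    have q4 : ∀ x : ℤ, x % 5 = 2 → 4 ≤ x ^ 2 := fun x hx => by
      rcases le_or_gt 2 x with h | h
      · nlinarith
      · have : x ≤ -2 := by omega
        nlinarith
    have := q4 _ e1; have := q4 _ e2
    nlinarith [sq_nonneg (z (Sh.f 3)), sq_nonneg (z (Sh.f 4)), sq_nonneg (z (Sh.f 5)), sq_nonneg (z (Sh.f 6))]
  set R := Finset.univ.filter (fun χ => χ ∉ Set.range Sh.f) with hR
  have hRmem : ∀ χ, χ ∈ R ↔ χ ∉ Set.range Sh.f := fun χ => by simp [hR]
  have hd := hsplit Sh (fun χ => (dg χ : ℤ) ^ 2)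
  have htot : ∑ χ : IrrCharacter G, (dg χ : ℤ) ^ 2 = 7920 := by exact_mod_cast sum_dg_sq hG
  rw [htot] at hd
  simp only [Sh.deg, degTwo] at hd
  rw [show ∑ j : Fin 7, ((![1, 45, 10, 10, 10, 16, 16] j : ℕ) : ℤ) ^ 2 = 2838 by simp [Fin.sum_univ_seven]] at hd
  have hkex : ∀ χ ∈ R, ∃ k : ℕ, dg χ = 11 * k := fun χ hχ => ((Sh.rest χ ((hRmem χ).1 hχ)).2.2)
  choose! k hk using hkex
  have hk2 : ∑ χ ∈ R, (k χ : ℤ) ^ 2 = 42 := by
    have : ∑ χ ∈ R, (dg χ : ℤ) ^ 2 = 121 * ∑ χ ∈ R, (k χ : ℤ) ^ 2 := by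
      rw [Finset.mul_sum]
      exact Finset.sum_congr rfl fun χ hχ => by rw [hk χ hχ]; push_cast; ring
    rw [← hR, this] at hd
    linarith
  have hz2 : ∑ χ ∈ R, z χ ^ 2 ≤ 2 := by
    have h := hsplit Sh (fun χ => z χ ^ 2)
    rw [hnorm, Fin.sum_univ_seven, ← hR] at h
    have e0 := hzm (Sh.f 0); have e5 := hzm (Sh.f 5); have e6 := hzm (Sh.f 6)
    rw [Sh.deg] at e0 e5 e6
    simp only [degTwo, Matrix.cons_val_zero, Matrix.cons_val, Nat.cast_ofNat, Nat.cast_one] at e0 e5 e6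
    have := hsq1 _ (show z (Sh.f 0) % 5 ≠ 0 by omega)
    have := hsq1 _ (show z (Sh.f 5) % 5 ≠ 0 by omega)
    have := hsq1 _ (show z (Sh.f 6) % 5 ≠ 0 by omega)
    nlinarith [sq_nonneg (z (Sh.f 1)), sq_nonneg (z (Sh.f 2)), sq_nonneg (z (Sh.f 3)), sq_nonneg (z (Sh.f 4))]
  set A := R.filter (fun χ => ¬ 5 ∣ k χ) with hA
  set B := R.filter (fun χ => 5 ∣ k χ) with hB
  have hAB : ∀ F : IrrCharacter G → ℤ, ∑ χ ∈ B, F χ + ∑ χ ∈ A, F χ = ∑ χ ∈ R, F χ :=
    fun F => Finset.sum_filter_add_sum_filter_not R _ F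
  have hkk : ∀ χ ∈ R, k χ ∣ 7920 ∧ 0 < k χ ∧ k χ ≤ 6 := by
    intro χ hχ
    refine ⟨(Dvd.intro_left 11 (hk χ hχ).symm).trans (card_eq hG ▸ dg_dvd χ), ?_, ?_⟩
    · have := CfsgLib.Blocks.irr_charDegree_pos χ
      rw [show charDegree (χ : G → ℂ) = 11 * k χ from hk χ hχ] at this
      omega
    · have h : (k χ : ℤ) ^ 2 ≤ 42 := hk2 ▸
        Finset.single_le_sum (f := fun ψ => (k ψ : ℤ) ^ 2) (fun _ _ => sq_nonneg _) hχ
      have h' : k χ ^ 2 ≤ 42 := by exact_mod_cast h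
      nlinarith
  have hAz : ∀ χ ∈ A, 1 ≤ z χ ^ 2 ∧ z χ % 5 = (k χ : ℤ) % 5 := by
    intro χ hχ
    obtain ⟨h1, h2⟩ := Finset.mem_filter.mp hχ
    have := hzm χ
    rw [hk χ h1] at this
    push_cast at this
    exact ⟨hsq1 χ (by omega), by omega⟩
  have hAsum : ∑ χ ∈ A, z χ ^ 2 ≤ 2 := by
    have := hAB (fun χ => z χ ^ 2)
    have h0 : 0 ≤ ∑ χ ∈ B, z χ ^ 2 := Finset.sum_nonneg fun _ _ => sq_nonneg _
    linarith
  have hAk : ∀ χ ∈ A, (k χ : ℤ) ^ 2 ∈ ([1, 16, 36] : List ℤ) := by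
    intro χ hχ
    obtain ⟨h1, h2⟩ := hAz χ hχ
    have hle : z χ ^ 2 ≤ 2 := (Finset.single_le_sum (f := fun ψ => z ψ ^ 2) (fun _ _ => sq_nonneg _) hχ).trans hAsum
    have hb : -1 ≤ z χ ∧ z χ ≤ 1 := ⟨by nlinarith, by nlinarith⟩
    have hz0 : z χ ≠ 0 := fun e => by rw [e] at h1; norm_num at h1
    obtain ⟨-, hpos, h6⟩ := hkk χ (Finset.mem_filter.mp hχ).1
    interval_cases hkc : k χ <;> first | (norm_num; done) | omega
  have hBk : ∀ χ ∈ B, k χ = 5 := by
    intro χ hχ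
    obtain ⟨h1, h2⟩ := Finset.mem_filter.mp hχ
    obtain ⟨-, hpos, h6⟩ := hkk χ h1
    omega
  have hBsum : ∑ χ ∈ B, (k χ : ℤ) ^ 2 = 25 * B.card := by
    rw [Finset.sum_congr rfl (g := fun _ => (25 : ℤ)) (fun χ hχ => by rw [hBk χ hχ]; norm_num), Finset.sum_const,
      nsmul_eq_mul, mul_comm]
  have hAc : A.card ≤ 2 := by
    have : ((A.card : ℤ)) ≤ ∑ χ ∈ A, z χ ^ 2 := by
      rw [Finset.card_eq_sum_ones, Nat.cast_sum]
      exact Finset.sum_le_sum fun χ hχ => by exact_mod_cast (hAz χ hχ).1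
    omega
  have h42 := hAB (fun χ => (k χ : ℤ) ^ 2)
  rw [hk2, hBsum] at h42
  obtain ⟨p, q, hAeq, hp, hq⟩ : ∃ p q, A = {p, q} ∧ k p = 1 ∧ k q = 4 := by
    rcases (show A.card = 0 ∨ A.card = 1 ∨ A.card = 2 by omega) with h | h | h
    · rw [Finset.card_eq_zero.mp h, Finset.sum_empty] at h42; omega
    · obtain ⟨p, hp⟩ := Finset.card_eq_one.mp h
      have hp' := hAk p (by rw [hp]; simp)
      rw [hp, Finset.sum_singleton] at h42
      simp only [List.mem_cons, List.not_mem_nil, or_false] at hp'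
      omega
    · obtain ⟨p, q, hpq, hpqA⟩ := Finset.card_eq_two.mp h
      have hp' := hAk p (by rw [hpqA]; simp)
      have hq' := hAk q (by rw [hpqA]; simp)
      rw [hpqA, Finset.sum_pair hpq] at h42
      simp only [List.mem_cons, List.not_mem_nil, or_false] at hp' hq'
      have : ((k p : ℤ) ^ 2 = 1 ∧ (k q : ℤ) ^ 2 = 16) ∨ ((k p : ℤ) ^ 2 = 16 ∧ (k q : ℤ) ^ 2 = 1) := by omega
      have hsq : ∀ n : ℕ, ((n : ℤ) ^ 2 = 1 → n = 1) ∧ ((n : ℤ) ^ 2 = 16 → n = 4) := fun n =>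
        ⟨fun h => by have : n ^ 2 = 1 ^ 2 := by exact_mod_cast h
                     exact Nat.pow_left_injective (by norm_num) this,
         fun h => by have : n ^ 2 = 4 ^ 2 := by exact_mod_cast h
                     exact Nat.pow_left_injective (by norm_num) this⟩
      rcases this with ⟨h1, h2⟩ | ⟨h1, h2⟩
      · exact ⟨p, q, hpqA, (hsq _).1 h1, (hsq _).2 h2⟩
      · exact ⟨q, p, by rw [hpqA, Finset.pair_comm], (hsq _).1 h2, (hsq _).2 h1⟩
  have hpq : p ≠ q := fun e => by rw [e, hq] at hp; norm_num at hp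
  rw [hAeq, Finset.sum_pair hpq, hp, hq] at h42
  obtain ⟨s, hs⟩ := Finset.card_eq_one.mp (show B.card = 1 by push_cast at h42; omega)
  have hpA : p ∈ R := (Finset.mem_filter.mp (show p ∈ A by rw [hAeq]; simp)).1
  have hqA : q ∈ R := (Finset.mem_filter.mp (show q ∈ A by rw [hAeq]; simp)).1
  have hsB : s ∈ R := (Finset.mem_filter.mp (show s ∈ B by rw [hs]; simp)).1
  have hs5 := hBk s (by rw [hs]; simp)
  let e : Fin 10 → IrrCharacter G :=
    ![Sh.f 0, Sh.f 1, Sh.f 2, Sh.f 3, Sh.f 4, Sh.f 5, Sh.f 6, p, q, s]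
  have hdeg : ∀ j, dg (e j) = degTen j := by
    intro j
    fin_cases j <;> first
      | exact Sh.deg _
      | (show dg p = 11; rw [hk p hpA, hp])
      | (show dg q = 44; rw [hk q hqA, hq])
      | (show dg s = 55; rw [hk s hsB, hs5])
  have hlow : ∀ j : Fin 7, e (j.castLE (by norm_num)) = Sh.f j := fun j => by fin_cases j <;> rfl
  refine ⟨⟨Sh, e, ⟨?_, ?_⟩, hlow, hdeg⟩⟩
  · intro x y hxy
    have h1 := congrArg dg hxy
    rw [hdeg, hdeg] at h1
    by_cases hx : x.val < 7 ∧ y.val < 7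
    · obtain ⟨hx, hy⟩ := hx
      have h2 : Sh.f ⟨x.val, hx⟩ = Sh.f ⟨y.val, hy⟩ := by rw [← hlow, ← hlow]; exact hxy
      exact Fin.ext (Fin.mk.inj (Sh.inj h2))
    · clear hxy
      revert h1 hx
      revert x y
      decide
  · intro χ
    by_cases h : χ ∈ Set.range Sh.f
    · obtain ⟨j, rfl⟩ := h
      exact ⟨_, hlow j⟩
    · have hχ := (hRmem χ).2 h
      by_cases h5 : 5 ∣ k χ
      · have : χ ∈ B := Finset.mem_filter.mpr ⟨hχ, h5⟩
        rw [hs, Finset.mem_singleton] at this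
        exact ⟨9, this.symm⟩
      · have : χ ∈ A := Finset.mem_filter.mpr ⟨hχ, h5⟩
        rw [hAeq, Finset.mem_insert, Finset.mem_singleton] at this
        rcases this with h | h
        · exact ⟨7, h.symm⟩
        · exact ⟨8, h.symm⟩

/-- The number of characters and their degrees. -/
theorem degrees (hG : IsM11 G) : Nat.card (IrrCharacter G) = 10 ∧
    ∀ n : ℕ, Nat.card {χ : IrrCharacter G // charDegree (χ : G → ℂ) = n} =
      (if n = 1 ∨ n = 11 ∨ n = 44 ∨ n = 45 ∨ n = 55 then 1 else if n = 10 then 3 else if n = 16 then 2 else 0) := by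
  classical
  haveI : Fact (Nat.Prime 11) := ⟨by norm_num⟩
  obtain ⟨a, ha⟩ := exists_prime_orderOf_dvd_card' (G := G) 11 (by rw [card_eq hG]; norm_num)
  obtain ⟨T⟩ := exists_table hG ha
  let E := Equiv.ofBijective T.e T.bij
  refine ⟨by rw [← Nat.card_congr E, Nat.card_fin], fun n => ?_⟩
  rw [← Nat.card_congr (Equiv.subtypeEquiv (p := fun j => degTen j = n) E (fun j => by rw [← T.deg]; rfl))]
  by_cases hn : n ∈ ([1, 10, 11, 16, 44, 45, 55] : List ℕ)
  · simp only [List.mem_cons, List.not_mem_nil, or_false] at hn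
    rcases hn with rfl | rfl | rfl | rfl | rfl | rfl | rfl <;> rw [Nat.card_eq_fintype_card] <;> rfl
  · simp only [List.mem_cons, List.not_mem_nil, or_false, not_or] at hn
    rw [if_neg (by omega), if_neg (by omega), if_neg (by omega), Nat.card_eq_zero]
    refine Or.inl ⟨fun ⟨j, hj⟩ => ?_⟩
    fin_cases j <;> simp [degTen] at hj <;> omega

end CfsgSimpleM11
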