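/-
The columns of elements of order five and two.
-/
import Cfsg.Agent.Lib.SimpleM11.Table

set_option autoImplicit false
set_option linter.style.haveILetI false
set_option linter.unusedSectionVars false

namespace CfsgSimpleM11

open Cfsg CfsgLib.CharTheory
open scoped ComplexConjugate

universe u
variable {G : Type u} [Group G] [Fintype G]

theorem sum_ten (f : Fin 10 → ℂ) :
    ∑ j, f j = f 0 + f 1 + f 2 + f 3 + f 4 + f 5 + f 6 + f 7 + f 8 + f 9 := by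
  simp only [Fin.sum_univ_succ, Fin.sum_univ_zero, add_zero]
  simp only [← add_assoc]
  rfl

theorem sum_ten_int (f : Fin 10 → ℤ) :
    ∑ j, f j = f 0 + f 1 + f 2 + f 3 + f 4 + f 5 + f 6 + f 7 + f 8 + f 9 := by
  simp only [Fin.sum_univ_succ, Fin.sum_univ_zero, add_zero]
  simp only [← add_assoc]
  rfl

namespace Table

variable {a : G} (T : Table a)

theorem sum_all {M : Type*} [AddCommMonoid M] (F : IrrCharacter G → M) :
    ∑ χ, F χ = ∑ j, F (T.e j) :=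
  (Fintype.sum_bijective T.e T.bij _ _ fun _ => rfl).symm

theorem first : T.e 0 = triv G := (T.low 0).trans T.Sh.first

theorem one_apply (j : Fin 10) : (T.e j : G → ℂ) 1 = (degTen j : ℂ) := by
  rw [irr_degree]; exact congrArg _ (T.deg j)

/-- The column of an element of order five. -/
theorem five_values (hG : IsM11 G) {u : G} (hu : orderOf u = 5) :
    ∀ j, (T.e j : G → ℂ) u = ((![1, 0, 0, 0, 0, 1, 1, 1, -1, 0] j : ℤ) : ℂ) := by
  choose z hz hzm using fun χ => five_int hG hu χ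
  have hn := five_norm hG hu z hz
  rw [T.sum_all, sum_ten_int] at hn
  have h : ∀ j, z (T.e j) % 5 = (degTen j : ℤ) % 5 := fun j => by rw [hzm, T.deg]
  have h0 : z (T.e 0) = 1 := by
    have := hz (T.e 0)
    rw [T.first, triv_apply] at this
    rw [T.first]
    exact_mod_cast this.symm
  have c1 := h 1; have c2 := h 2; have c3 := h 3; have c4 := h 4; have c5 := h 5; have c6 := h 6
  have c7 := h 7; have c8 := h 8; have c9 := h 9
  simp only [degTen, Matrix.cons_val_one, Matrix.cons_val, Nat.cast_ofNat] at c1 c2 c3 c4 c5 c6 c7 c8 c9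
  rw [h0] at hn
  have key : ∀ x : ℤ, x ^ 2 ≤ 5 → -2 ≤ x ∧ x ≤ 2 := fun x hx => ⟨by nlinarith, by nlinarith⟩
  have p := fun x : ℤ => sq_nonneg x
  have r1 := key _ (show z (T.e 1) ^ 2 ≤ 5 by linarith [p (z (T.e 2)), p (z (T.e 3)), p (z (T.e 4)), p (z (T.e 5)), p (z (T.e 6)), p (z (T.e 7)), p (z (T.e 8)), p (z (T.e 9))])
  have r2 := key _ (show z (T.e 2) ^ 2 ≤ 5 by linarith [p (z (T.e 1)), p (z (T.e 3)), p (z (T.e 4)), p (z (T.e 5)), p (z (T.e 6)), p (z (T.e 7)), p (z (T.e 8)), p (z (T.e 9))])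
  have r3 := key _ (show z (T.e 3) ^ 2 ≤ 5 by linarith [p (z (T.e 1)), p (z (T.e 2)), p (z (T.e 4)), p (z (T.e 5)), p (z (T.e 6)), p (z (T.e 7)), p (z (T.e 8)), p (z (T.e 9))])
  have r4 := key _ (show z (T.e 4) ^ 2 ≤ 5 by linarith [p (z (T.e 1)), p (z (T.e 2)), p (z (T.e 3)), p (z (T.e 5)), p (z (T.e 6)), p (z (T.e 7)), p (z (T.e 8)), p (z (T.e 9))])
  have r5 := key _ (show z (T.e 5) ^ 2 ≤ 5 by linarith [p (z (T.e 1)), p (z (T.e 2)), p (z (T.e 3)), p (z (T.e 4)), p (z (T.e 6)), p (z (T.e 7)), p (z (T.e 8)), p (z (T.e 9))])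
  have r6 := key _ (show z (T.e 6) ^ 2 ≤ 5 by linarith [p (z (T.e 1)), p (z (T.e 2)), p (z (T.e 3)), p (z (T.e 4)), p (z (T.e 5)), p (z (T.e 7)), p (z (T.e 8)), p (z (T.e 9))])
  have r7 := key _ (show z (T.e 7) ^ 2 ≤ 5 by linarith [p (z (T.e 1)), p (z (T.e 2)), p (z (T.e 3)), p (z (T.e 4)), p (z (T.e 5)), p (z (T.e 6)), p (z (T.e 8)), p (z (T.e 9))])
  have r8 := key _ (show z (T.e 8) ^ 2 ≤ 5 by linarith [p (z (T.e 1)), p (z (T.e 2)), p (z (T.e 3)), p (z (T.e 4)), p (z (T.e 5)), p (z (T.e 6)), p (z (T.e 7)), p (z (T.e 9))])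
  have r9 := key _ (show z (T.e 9) ^ 2 ≤ 5 by linarith [p (z (T.e 1)), p (z (T.e 2)), p (z (T.e 3)), p (z (T.e 4)), p (z (T.e 5)), p (z (T.e 6)), p (z (T.e 7)), p (z (T.e 8))])
  obtain ⟨r1, r1'⟩ := r1; obtain ⟨r2, r2'⟩ := r2; obtain ⟨r3, r3'⟩ := r3; obtain ⟨r4, r4'⟩ := r4
  obtain ⟨r5, r5'⟩ := r5; obtain ⟨r6, r6'⟩ := r6; obtain ⟨r7, r7'⟩ := r7; obtain ⟨r8, r8'⟩ := r8
  obtain ⟨r9, r9'⟩ := r9
  have e1 : z (T.e 1) = 0 := by omega
  have e2 : z (T.e 2) = 0 := by omega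
  have e3 : z (T.e 3) = 0 := by omega
  have e4 : z (T.e 4) = 0 := by omega
  have e5 : z (T.e 5) = 1 := by omega
  have e6 : z (T.e 6) = 1 := by omega
  have e7 : z (T.e 7) = 1 := by omega
  have e8 : z (T.e 8) = -1 := by omega
  have e9 : z (T.e 9) = 0 := by omega
  intro j
  rw [hz]
  congr 1
  fin_cases j <;> assumption

/-- The column of an involution. -/
theorem two_column (hG : IsM11 G) (ha : orderOf a = 11) {i : G} (hi : orderOf i = 2) :
    ∃ v : Fin 10 → ℤ, (∀ j, (T.e j : G → ℂ) i = (v j : ℂ)) ∧ v 0 = 1 ∧ v 1 = -3 ∧ v 5 = 0 ∧ v 6 = 0 ∧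
      v 2 + v 3 + v 4 = -2 ∧ (v 2 ^ 2 = 4 ∧ v 3 ^ 2 = 4 ∧ v 4 ^ 2 = 4) ∧ v 7 = 3 ∧ v 8 = 4 ∧ v 9 = -1 ∧
      Nat.card (Subgroup.centralizer ({i} : Set G)) = 48 := by
  classical
  haveI : Fact (Nat.Prime 5) := ⟨by norm_num⟩
  obtain ⟨u, hu⟩ := exists_prime_orderOf_dvd_card' (G := G) 5 (by rw [card_eq hG]; norm_num)
  obtain ⟨w, hw, w0, w1, w5, w6, w234, wsq⟩ := two_values hG T.Sh ha hi
  have hne : ∀ j : Fin 10, j ≠ 0 → T.e j ≠ triv G := fun j hj h => hj (T.bij.1 (h.trans T.first.symm))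
  obtain ⟨A, hA, hA4, hA1, hA2⟩ := involution_int hG _ (hne 7 (by decide)) hi
  obtain ⟨B, hB, -⟩ := involution_int hG _ (hne 8 (by decide)) hi
  obtain ⟨C, hC, -⟩ := involution_int hG _ (hne 9 (by decide)) hi
  rw [T.deg] at hA4
  have l : ∀ j : Fin 7, (T.e (j.castLE (by norm_num)) : G → ℂ) i = (w j : ℂ) := fun j => by rw [T.low]; exact hw j
  have l0 : (T.e 0 : G → ℂ) i = (w 0 : ℂ) := l 0
  have l1 : (T.e 1 : G → ℂ) i = (w 1 : ℂ) := l 1
  have l2 : (T.e 2 : G → ℂ) i = (w 2 : ℂ) := l 2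
  have l3 : (T.e 3 : G → ℂ) i = (w 3 : ℂ) := l 3
  have l4 : (T.e 4 : G → ℂ) i = (w 4 : ℂ) := l 4
  have l5 : (T.e 5 : G → ℂ) i = (w 5 : ℂ) := l 5
  have l6 : (T.e 6 : G → ℂ) i = (w 6 : ℂ) := l 6
  have h5 := col_orth (g := u) (h := i)
    (not_isConj_of_orderOf (by rw [orderOf_inv, hu, hi]; norm_num))
  rw [T.sum_all, sum_ten] at h5
  simp only [T.five_values hG hu, l0, l1, l2, l3, l4, l5, l6, hA, hB, hC, w0, w5, w6,
    Matrix.cons_val_zero, Matrix.cons_val_one, Matrix.cons_val] at h5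
  have hBA : B = 1 + A := by
    have : ((B : ℤ) : ℂ) = ((1 + A : ℤ) : ℂ) := by
      push_cast at h5 ⊢
      linear_combination -h5
    exact_mod_cast this
  have hd := col_dg (g := i) (fun e => by rw [e, orderOf_one] at hi; norm_num at hi)
  rw [T.sum_all, sum_ten] at hd
  simp only [T.deg, l0, l1, l2, l3, l4, l5, l6, hA, hB, hC, w0, w1, w5, w6, degTen, Matrix.cons_val_zero,
    Matrix.cons_val_one, Matrix.cons_val, Nat.cast_ofNat, Nat.cast_one] at hd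
  have hC' : 11 * A + 44 * B + 55 * C = 154 := by
    have : (((11 * A + 44 * B + 55 * C : ℤ)) : ℂ) = (((154 : ℤ)) : ℂ) := by
      have e : ((w 2 + w 3 + w 4 : ℤ) : ℂ) = ((-2 : ℤ) : ℂ) := by rw [w234]
      push_cast at hd e ⊢
      linear_combination hd - 10 * e
    exact_mod_cast this
  have hn := sum_irr_mul_conj i i
  rw [if_pos (IsConj.refl i), T.sum_all, sum_ten] at hn
  simp only [l0, l1, l2, l3, l4, l5, l6, hA, hB, hC, map_intCast, w0, w1, w5, w6] at hn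
  have hcard : (Nat.card (Subgroup.centralizer ({i} : Set G)) : ℤ) = 22 + A ^ 2 + B ^ 2 + C ^ 2 := by
    have : (((Nat.card (Subgroup.centralizer ({i} : Set G)) : ℤ)) : ℂ) =
        (((22 + A ^ 2 + B ^ 2 + C ^ 2 : ℤ)) : ℂ) := by
      obtain ⟨s2, s3, s4⟩ := wsq
      have e : ((w 2 ^ 2 + w 3 ^ 2 + w 4 ^ 2 : ℤ) : ℂ) = ((12 : ℤ) : ℂ) := by rw [s2, s3, s4]; norm_num
      push_cast at hn e ⊢
      linear_combination -hn + e
    exact_mod_cast this
  have hdvd := cent_inv_dvd hG hi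
  have hle := Nat.le_of_dvd (by norm_num) hdvd
  have hAb : A ^ 2 ≤ 700 := by
    nlinarith [sq_nonneg B, sq_nonneg C, (by exact_mod_cast hle : (Nat.card (Subgroup.centralizer ({i} : Set G)) : ℤ) ≤ 720)]
  have hC2 : C = 2 - A := by omega
  have hA3 : A % 4 = 3 := by simpa [degTen] using hA4
  have hAr : -26 ≤ A ∧ A ≤ 26 := ⟨by nlinarith, by nlinarith⟩
  subst hBA hC2
  obtain ⟨hr1, hr2⟩ := hAr
  have key : ∀ A ∈ ([-25, -21, -17, -13, -9, -5, -1, 3, 7, 11, 15, 19, 23] : List ℤ),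
      (22 + A ^ 2 + (1 + A) ^ 2 + (2 - A) ^ 2).toNat ∣ 720 → A = 3 := by decide +kernel
  have hA3' : A = 3 := key A (by simp; omega) (by rw [← hcard, Int.toNat_natCast]; exact hdvd)
  subst hA3'
  refine ⟨![w 0, w 1, w 2, w 3, w 4, w 5, w 6, 3, 4, -1], ?_, w0, w1, w5, w6, w234, wsq, rfl, rfl, rfl, ?_⟩
  · intro j
    fin_cases j <;> first | assumption | (simp only [Fin.reduceFinMk]; norm_num at hB hC ⊢; assumption)
  · exact Int.natCast_inj.mp (hcard.trans rfl)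

end Table

theorem cent_involution (hG : IsM11 G) {i : G} (hi : orderOf i = 2) :
    Nat.card (Subgroup.centralizer ({i} : Set G)) = 48 := by
  haveI : Fact (Nat.Prime 11) := ⟨by norm_num⟩
  obtain ⟨a, ha⟩ := exists_prime_orderOf_dvd_card' (G := G) 11 (by rw [card_eq hG]; norm_num)
  obtain ⟨T⟩ := exists_table hG ha
  obtain ⟨v, -, -, -, -, -, -, -, -, -, -, h⟩ := T.two_column hG ha hi
  exact h

end CfsgSimpleM11
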