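/-
Candidates for a transitive group of degree eleven and the Steiner systems they fix.
-/
import Mathlib
import Cfsg.Prelude.Def_Sporadic_a

set_option autoImplicit false
set_option linter.style.haveILetI false
set_option linter.unusedSectionVars false

namespace CfsgSimpleM11

open Cfsg
open scoped Pointwise

/-- Translation. -/
def shiftFun : ZMod 11 → ZMod 11 := fun x => x + 1

/-- Multiplication by three. -/
def tripleFun : ZMod 11 → ZMod 11 := fun x => 3 * x

/-- The candidates. -/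
def candFun : Fin 10 → ZMod 11 → ZMod 11 := ![
  ![0, 1, 2, 9, 5, 3, 7, 8, 10, 4, 6],
  ![0, 1, 6, 9, 5, 3, 10, 2, 8, 4, 7],
  ![0, 1, 7, 9, 5, 3, 8, 6, 2, 4, 10],
  ![0, 1, 10, 9, 5, 3, 2, 7, 6, 4, 8],
  ![0, 1, 8, 9, 5, 3, 6, 10, 7, 4, 2],
  ![0, 2, 1, 7, 10, 6, 9, 4, 5, 8, 3],
  ![0, 2, 3, 7, 10, 6, 5, 1, 4, 8, 9],
  ![0, 2, 9, 7, 10, 6, 4, 3, 1, 8, 5],
  ![0, 2, 5, 7, 10, 6, 1, 9, 3, 8, 4],
  ![0, 2, 4, 7, 10, 6, 3, 5, 9, 8, 1]]

theorem cand_complete : ∀ y ∈ ([1, 2] : List (ZMod 11)), ∀ z : ZMod 11, z ≠ 0 → (∀ k < 5, z ≠ 9 ^ k * y) →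
    ∃ i, candFun i 0 = 0 ∧ ∀ k < 5, candFun i (3 ^ k) = 9 ^ k * y ∧ candFun i (3 ^ k * 2) = 9 ^ k * z := by
  decide +kernel

theorem point_cases : ∀ x : ZMod 11, x = 0 ∨ (∃ k < 5, x = 3 ^ k) ∨ ∃ k < 5, x = 3 ^ k * 2 := by decide +kernel

/-- A set of points coded by a number. -/
def maskSet (m : ℕ) : Finset (ZMod 11) := Finset.univ.filter (fun x => m.testBit x.val = true)

theorem mem_maskSet {m : ℕ} {x : ZMod 11} : x ∈ maskSet m ↔ m.testBit x.val = true := by simp [maskSet]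

/-- The blocks coded by a list. -/
def blockSet (L : List ℕ) : Set (Finset (ZMod 11)) := {b | ∃ m ∈ L, maskSet m = b}

/-- The number of points of a code. -/
def pop11 (m : ℕ) : ℕ :=
  (m.testBit 0).toNat + (m.testBit 1).toNat + (m.testBit 2).toNat + (m.testBit 3).toNat + (m.testBit 4).toNat +
    (m.testBit 5).toNat + (m.testBit 6).toNat + (m.testBit 7).toNat + (m.testBit 8).toNat + (m.testBit 9).toNat +
    (m.testBit 10).toNat

theorem card_maskSet (m : ℕ) : (maskSet m).card = pop11 m := by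
  rw [maskSet, Finset.card_filter]
  show ∑ x : Fin 11, (if m.testBit x.val = true then 1 else 0) = _
  simp only [pop11, Fin.sum_univ_succ, Fin.sum_univ_zero, add_zero, ← add_assoc]
  have e : ∀ b : Bool, (if b = true then 1 else 0) = b.toNat := fun b => by cases b <;> rfl
  simp only [e]
  rfl

theorem maskSet_injective : Function.Injective (fun m : Fin 2048 => maskSet m.val) := by
  intro m n h
  refine Fin.ext (Nat.eq_of_testBit_eq fun i => ?_)
  by_cases hi : i < 11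
  · have h1 := Finset.ext_iff.1 h (i : ZMod 11)
    simp only [mem_maskSet, ZMod.val_natCast_of_lt hi] at h1
    exact Bool.eq_iff_iff.2 h1
  · have hp : 2 ^ 11 ≤ 2 ^ i := Nat.pow_le_pow_right (by norm_num) (by omega)
    have hm := m.2; have hn := n.2
    norm_num at hp
    rw [Nat.testBit_lt_two_pow (by omega : m.val < 2 ^ i), Nat.testBit_lt_two_pow (by omega : n.val < 2 ^ i)]

theorem maskSet_surjective (s : Finset (ZMod 11)) : ∃ m : ℕ, m < 2048 ∧ maskSet m = s := by
  obtain ⟨m, hm⟩ := ((Fintype.bijective_iff_injective_and_card _).2 ⟨maskSet_injective, by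
    rw [Fintype.card_fin, Fintype.card_finset, ZMod.card]; rfl⟩).2 s
  exact ⟨m.val, m.2, hm⟩

theorem subset_iff {m4 m : ℕ} (h : m4 < 2048) : m &&& m4 = m4 ↔ maskSet m4 ⊆ maskSet m := by
  constructor
  · intro he x hx
    rw [mem_maskSet] at hx ⊢
    rw [← he, Nat.testBit_and, Bool.and_eq_true] at hx
    exact hx.1
  · intro hs
    refine Nat.eq_of_testBit_eq fun i => ?_
    rw [Nat.testBit_and]
    by_cases hi : i < 11
    · cases hb : m4.testBit i
      · simp
      · have h1 : ((i : ZMod 11)) ∈ maskSet m4 := mem_maskSet.2 (by rwa [ZMod.val_natCast_of_lt hi])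
        have h2 := mem_maskSet.1 (hs h1)
        rw [ZMod.val_natCast_of_lt hi] at h2
        simp [h2]
    · have hp : 2 ^ 11 ≤ 2 ^ i := Nat.pow_le_pow_right (by norm_num) (by omega)
      norm_num at hp
      simp [Nat.testBit_lt_two_pow (by omega : m4 < 2 ^ i)]

theorem steiner_of_list {L : List ℕ} (h1 : L.all (fun m => pop11 m == 5) = true)
    (h2 : (List.range 2048).all (fun m4 => pop11 m4 != 4 || (L.filter (fun m => m &&& m4 == m4)).length == 1) = true) :
    IsSteinerSystem 4 5 (blockSet L) := by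
  refine ⟨?_, fun s hs => ?_⟩
  · rintro b ⟨m, hm, rfl⟩
    rw [card_maskSet]
    exact eq_of_beq (List.all_eq_true.1 h1 m hm)
  obtain ⟨m4, hlt, rfl⟩ := maskSet_surjective s
  have h3 := List.all_eq_true.1 h2 m4 (List.mem_range.2 hlt)
  rw [card_maskSet] at hs
  simp only [hs, bne_self_eq_false, Bool.false_or, beq_iff_eq] at h3
  obtain ⟨m, hm⟩ := List.length_eq_one_iff.mp h3
  have hmem : ∀ m', (m' ∈ L ∧ m' &&& m4 = m4) ↔ m' = m := fun m' => by
    rw [← List.mem_singleton (a := m'), ← hm, List.mem_filter, beq_iff_eq]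
  obtain ⟨hmL, hms⟩ := (hmem m).2 rfl
  refine ⟨maskSet m, ⟨⟨m, hmL, rfl⟩, (subset_iff hlt).1 hms⟩, ?_⟩
  rintro b ⟨⟨m', hm', rfl⟩, hsub⟩
  rw [(hmem m').1 ⟨hm', (subset_iff hlt).2 hsub⟩]

/-- The code of an image. -/
def imgMask (g : ℕ → ℕ) (m : ℕ) : ℕ → ℕ
  | 0 => 0
  | k + 1 => (if m.testBit k then 2 ^ g k else 0) ||| imgMask g m k

theorem testBit_imgMask (g : ℕ → ℕ) (m y : ℕ) :
    ∀ k, (imgMask g m k).testBit y = true ↔ ∃ x < k, m.testBit x = true ∧ g x = y
  | 0 => by simp [imgMask]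
  | k + 1 => by
    rw [imgMask, Nat.testBit_or, Bool.or_eq_true, testBit_imgMask g m y k]
    constructor
    · rintro (h | ⟨x, hx, h⟩)
      · split_ifs at h with hb
        · exact ⟨k, Nat.lt_succ_self k, hb, (by rw [Nat.testBit_two_pow] at h; exact of_decide_eq_true h)⟩
        · simp at h
      · exact ⟨x, Nat.lt_succ_of_lt hx, h⟩
    · rintro ⟨x, hx, h1, h2⟩
      rcases Nat.lt_succ_iff_lt_or_eq.1 hx with hx | rfl
      · exact Or.inr ⟨x, hx, h1, h2⟩
      · refine Or.inl ?_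
        rw [if_pos h1, Nat.testBit_two_pow]
        simp [h2]

theorem preserves_of_list {L : List ℕ} (σ : Equiv.Perm (ZMod 11)) (g : ZMod 11 → ZMod 11) (hg : ⇑σ = g)
    (h : L.all (fun m => L.contains (imgMask (fun x => (g (x : ZMod 11)).val) m 11)) = true) :
    σ ∈ setSystemAut (blockSet L) := by
  have hsub : σ • blockSet L ⊆ blockSet L := by
    rintro b ⟨c, ⟨m, hm, rfl⟩, rfl⟩
    have hc := List.all_eq_true.1 h m hm
    rw [List.contains_iff_mem] at hc
    refine ⟨_, hc, ?_⟩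
    ext y
    rw [mem_maskSet, testBit_imgMask]
    obtain ⟨x, rfl⟩ := σ.surjective y
    show _ ↔ σ • x ∈ σ • maskSet m
    rw [Finset.smul_mem_smul_finset_iff, mem_maskSet]
    constructor
    · rintro ⟨z, hz, hb, he⟩
      rw [← hg] at he
      have e := σ.injective (ZMod.val_injective 11 he)
      rw [← e, ZMod.val_natCast_of_lt hz]
      exact hb
    · intro hb
      refine ⟨x.val, x.val_lt, hb, ?_⟩
      rw [ZMod.natCast_zmod_val, hg]
  rw [MulAction.mem_stabilizer_iff]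
  exact Set.eq_of_subset_of_ncard_le hsub (Set.ncard_smul_set σ _).ge (Set.toFinite _)

theorem bad_word0 : (∀ x, (shiftFun ∘ (candFun 0) ∘ tripleFun)^[21] x = x) ∧ ∃ x, (shiftFun ∘ (candFun 0) ∘ tripleFun)^[3] x ≠ x := by decide +kernel

theorem bad_word2 : (∀ x, (shiftFun ∘ shiftFun ∘ (candFun 2))^[21] x = x) ∧ ∃ x, (shiftFun ∘ shiftFun ∘ (candFun 2))^[3] x ≠ x := by decide +kernel

theorem bad_word4 : (∀ x, (shiftFun ∘ shiftFun ∘ (candFun 4))^[21] x = x) ∧ ∃ x, (shiftFun ∘ shiftFun ∘ (candFun 4))^[3] x ≠ x := by decide +kernel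

theorem bad_word5 : (∀ x, (shiftFun ∘ (candFun 5))^[14] x = x) ∧ ∃ x, (shiftFun ∘ (candFun 5))^[2] x ≠ x := by decide +kernel

theorem bad_word6 : (∀ x, (shiftFun ∘ tripleFun ∘ (candFun 6) ∘ shiftFun ∘ (candFun 6))^[21] x = x) ∧ ∃ x, (shiftFun ∘ tripleFun ∘ (candFun 6) ∘ shiftFun ∘ (candFun 6))^[3] x ≠ x := by decide +kernel

theorem bad_word7 : (∀ x, (shiftFun ∘ shiftFun ∘ (candFun 7) ∘ tripleFun)^[14] x = x) ∧ ∃ x, (shiftFun ∘ shiftFun ∘ (candFun 7) ∘ tripleFun)^[2] x ≠ x := by decide +kernel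

theorem bad_word8 : (∀ x, (shiftFun ∘ tripleFun ∘ (candFun 8))^[28] x = x) ∧ ∃ x, (shiftFun ∘ tripleFun ∘ (candFun 8))^[4] x ≠ x := by decide +kernel

theorem bad_word9 : (∀ x, (shiftFun ∘ shiftFun ∘ tripleFun ∘ (candFun 9))^[28] x = x) ∧ ∃ x, (shiftFun ∘ shiftFun ∘ tripleFun ∘ (candFun 9))^[4] x ≠ x := by decide +kernel

/-- The blocks fixed by a candidate. -/
def blocks1 : List ℕ := [61, 103, 122, 151, 171, 206, 217, 244, 283, 302, 333, 342, 369, 412, 421, 434, 451, 488, 527, 566, 595, 604, 617, 666, 684, 689, 709, 738, 789, 803, 824, 842, 868, 902, 905, 976, 1054, 1075, 1099, 1109, 1132, 1165, 1190, 1208, 1234, 1249, 1287, 1321, 1332, 1368, 1378, 1418, 1425, 1476, 1561, 1573, 1578, 1606, 1648, 1667, 1684, 1736, 1804, 1810, 1857, 1952]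

theorem blocks1_steiner : IsSteinerSystem 4 5 (blockSet blocks1) :=
  steiner_of_list (by decide +kernel) (by decide +kernel)

theorem blocks1_inv : ∀ g ∈ ([shiftFun, tripleFun, candFun 1] : List (ZMod 11 → ZMod 11)),
    blocks1.all (fun m => blocks1.contains (imgMask (fun x => (g (x : ZMod 11)).val) m 11)) = true := by
  intro g hg
  simp only [List.mem_cons, List.not_mem_nil, or_false] at hg
  rcases hg with rfl | rfl | rfl <;> decide +kernel

/-- The blocks fixed by a candidate. -/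
def blocks3 : List ℕ := [47, 94, 115, 155, 188, 213, 230, 233, 285, 310, 331, 357, 376, 391, 426, 433, 460, 466, 565, 570, 583, 601, 620, 653, 662, 675, 714, 752, 782, 787, 809, 852, 866, 920, 932, 961, 1047, 1081, 1101, 1130, 1140, 1166, 1189, 1202, 1219, 1240, 1306, 1315, 1324, 1350, 1361, 1417, 1428, 1504, 1547, 1564, 1574, 1618, 1633, 1681, 1704, 1732, 1797, 1840, 1864, 1922]

theorem blocks3_steiner : IsSteinerSystem 4 5 (blockSet blocks3) :=
  steiner_of_list (by decide +kernel) (by decide +kernel)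

theorem blocks3_inv : ∀ g ∈ ([shiftFun, tripleFun, candFun 3] : List (ZMod 11 → ZMod 11)),
    blocks3.all (fun m => blocks3.contains (imgMask (fun x => (g (x : ZMod 11)).val) m 11)) = true := by
  intro g hg
  simp only [List.mem_cons, List.not_mem_nil, or_false] at hg
  rcases hg with rfl | rfl | rfl <;> decide +kernel

theorem eight_word1 : (∀ x, (shiftFun ∘ shiftFun ∘ candFun 1)^[8] x = x) ∧
    ∃ x, (shiftFun ∘ shiftFun ∘ candFun 1)^[4] x ≠ x := by decide +kernel

theorem eight_word3 : (∀ x, (shiftFun ∘ tripleFun ∘ candFun 3)^[8] x = x) ∧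
    ∃ x, (shiftFun ∘ tripleFun ∘ candFun 3)^[4] x ≠ x := by decide +kernel

end CfsgSimpleM11
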