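/-
Eleven cliques in a strongly regular graph on fifty-five points.
-/
import Mathlib

set_option autoImplicit false
set_option linter.style.haveILetI false
set_option linter.unusedSectionVars false

namespace CfsgSimpleM11

open Finset

theorem no_two_consecutive : ∀ s : Finset (Fin 5), (∀ i ∈ s, i + 1 ∉ s) → s.card ≤ 2 := by decide +kernel

/-- A triangle-free relation of valency eight on eighteen points has two sides. -/
theorem bipartite_eighteen {W : Type*} [Fintype W] [DecidableEq W] (hW : Fintype.card W = 18)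
    (R : W → W → Prop) [DecidableRel R] (hsymm : ∀ {v w}, R v w → R w v)
    (hdeg : ∀ w, (univ.filter (R w)).card = 8) (htri : ∀ u v w, R u v → R v w → R u w → False) :
    ∃ S : Finset W, S.card = 9 ∧ (∀ v ∈ S, ∀ w ∈ S, ¬ R v w) ∧ (∀ v ∉ S, ∀ w ∉ S, ¬ R v w) := by
  have no5 : ∀ c : Fin 5 → W, (∀ i, R (c i) (c (i + 1))) → False := by
    intro c hc
    have h40 : ∑ i, (univ.filter (R (c i))).card = 40 := by simp [hdeg]
    have hswap : ∑ i, (univ.filter (R (c i))).card = ∑ w : W, (univ.filter (fun i => R (c i) w)).card :=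
      sum_card_bipartiteAbove_eq_sum_card_bipartiteBelow (fun i w => R (c i) w)
    have hle : ∑ w : W, (univ.filter (fun i => R (c i) w)).card ≤ ∑ _w : W, 2 := by
      refine sum_le_sum fun w _ => no_two_consecutive _ fun i hi hi' => ?_
      exact htri _ _ _ (hc i) (mem_filter.1 hi').2 (mem_filter.1 hi).2
    simp [hW] at hle
    omega
  obtain ⟨a⟩ : Nonempty W := Fintype.card_pos_iff.1 (by omega)
  obtain ⟨b, hb⟩ := card_pos.1 (show 0 < (univ.filter (R a)).card by rw [hdeg]; norm_num)
  have hab : R a b := (mem_filter.1 hb).2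
  set T0 := univ.filter (R a) with hT0
  set S0 := univ.filter (R b) with hS0
  have hdis : Disjoint S0 T0 := disjoint_left.2 fun w h1 h2 =>
    htri a b w hab (mem_filter.1 h1).2 (mem_filter.1 h2).2
  have h16 : ((S0 ∪ T0)ᶜ).card = 2 := by
    rw [card_compl, card_union_of_disjoint hdis, hW, hS0, hT0, hdeg, hdeg]
  have hone : ∀ w c d, c ∈ T0 → d ∈ S0 → R w c → R w d → False := fun w c d hc hd h1 h2 =>
    no5 ![a, c, w, d, b] fun i => by
      fin_cases i
      · exact (mem_filter.1 hc).2
      · exact hsymm h1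
      · exact h2
      · exact hsymm (mem_filter.1 hd).2
      · exact hsymm hab
  have hsome : ∀ w, (∃ c ∈ T0, R w c) ∨ ∃ d ∈ S0, R w d := by
    intro w
    by_contra h
    push Not at h
    have hsub : univ.filter (R w) ⊆ (S0 ∪ T0)ᶜ := fun z hz => by
      rw [mem_compl, mem_union]
      rintro (hz' | hz')
      · exact h.2 z hz' (mem_filter.1 hz).2
      · exact h.1 z hz' (mem_filter.1 hz).2
    have := card_le_card hsub
    rw [hdeg, h16] at this
    omega
  have hsix : ∀ w, (∀ d ∈ S0, ¬ R w d) → 6 ≤ (univ.filter (R w) ∩ T0).card := by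
    intro w h
    have hsub : univ.filter (R w) ⊆ (univ.filter (R w) ∩ T0) ∪ (S0 ∪ T0)ᶜ := fun z hz => by
      rw [mem_union, mem_inter, mem_compl, mem_union]
      by_cases hzT : z ∈ T0
      · exact Or.inl ⟨hz, hzT⟩
      · exact Or.inr fun hz' => hz'.elim (fun h1 => h z h1 (mem_filter.1 hz).2) hzT
    have := (card_le_card hsub).trans (card_union_le _ _)
    rw [hdeg, h16] at this
    omega
  have hsix' : ∀ w, (∀ c ∈ T0, ¬ R w c) → 6 ≤ (univ.filter (R w) ∩ S0).card := by
    intro w h
    have hsub : univ.filter (R w) ⊆ (univ.filter (R w) ∩ S0) ∪ (S0 ∪ T0)ᶜ := fun z hz => by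
      rw [mem_union, mem_inter, mem_compl, mem_union]
      by_cases hzT : z ∈ S0
      · exact Or.inl ⟨hz, hzT⟩
      · exact Or.inr fun hz' => hz'.elim hzT (fun h1 => h z h1 (mem_filter.1 hz).2)
    have := (card_le_card hsub).trans (card_union_le _ _)
    rw [hdeg, h16] at this
    omega
  set S := univ.filter (fun w => ∃ c ∈ T0, R w c) with hS
  have hnS : ∀ w, w ∉ S → (∀ c ∈ T0, ¬ R w c) := fun w hw c hc h =>
    hw (mem_filter.2 ⟨mem_univ _, c, hc, h⟩)
  have hinS : ∀ w ∈ S, ∀ d ∈ S0, ¬ R w d := fun w hw d hd h => by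
    obtain ⟨c, hc, hcw⟩ := (mem_filter.1 hw).2
    exact hone w c d hc hd hcw h
  have common : ∀ (X : Finset W) v w, X.card = 8 → 6 ≤ (univ.filter (R v) ∩ X).card →
      6 ≤ (univ.filter (R w) ∩ X).card → ¬ R v w := by
    intro X v w hX h1 h2 hvw
    obtain ⟨z, hz⟩ := card_pos.1 (show 0 < ((univ.filter (R v) ∩ X) ∩ (univ.filter (R w) ∩ X)).card by
      have := card_union_add_card_inter (univ.filter (R v) ∩ X) (univ.filter (R w) ∩ X)
      have := card_le_card (union_subset (inter_subset_right (s₁ := univ.filter (R v)) (s₂ := X))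
        (inter_subset_right (s₁ := univ.filter (R w)) (s₂ := X)))
      omega)
    simp only [mem_inter, mem_filter, mem_univ, true_and] at hz
    exact htri v w z hvw hz.2.1 hz.1.1
  have hI : ∀ v ∈ S, ∀ w ∈ S, ¬ R v w := fun v hv w hw =>
    common T0 v w (hdeg a) (hsix v (hinS v hv)) (hsix w (hinS w hw))
  have hJ : ∀ v ∉ S, ∀ w ∉ S, ¬ R v w := fun v hv w hw =>
    common S0 v w (hdeg b) (hsix' v (hnS v hv)) (hsix' w (hnS w hw))
  refine ⟨S, ?_, hI, hJ⟩
  have h := card_mul_eq_card_mul R (s := S) (t := Sᶜ) (m := 8) (n := 8) (fun v hv => ?_) (fun w hw => ?_)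
  · have := card_compl S
    rw [hW] at this
    omega
  · rw [bipartiteAbove, ← hdeg v]
    refine congrArg Finset.card (Finset.ext fun z => ?_)
    simp only [mem_filter, mem_compl, mem_univ, true_and]
    exact ⟨fun h => h.2, fun h => ⟨fun hz => hI v hv z hz h, h⟩⟩
  · rw [bipartiteBelow, ← hdeg w]
    refine congrArg Finset.card (Finset.ext fun z => ?_)
    simp only [mem_filter, mem_univ, true_and]
    refine ⟨fun h => hsymm h.2, fun h => ⟨?_, hsymm h⟩⟩
    by_contra hz
    exact hJ w (mem_compl.1 hw) z hz h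

variable {V : Type*} [Fintype V] [DecidableEq V] (Γ : SimpleGraph V) [DecidableRel Γ.Adj]

/-- The cliques of size ten. -/
abbrev tenCliques : Finset (Finset V) := Γ.cliqueFinset 10

theorem two_cliques_through (h : Γ.IsSRGWith 55 18 9 4) (x : V) :
    ((tenCliques Γ).filter (x ∈ ·)).card = 2 := by
  classical
  set A := Γ.neighborFinset x with hA
  have hAc : A.card = 18 := by rw [hA, SimpleGraph.card_neighborFinset_eq_degree]; exact h.regular x
  have hin : ∀ y ∈ A, (A.filter (Γ.Adj y)).card = 9 := by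
    intro y hy
    rw [← h.of_adj x y ((SimpleGraph.mem_neighborFinset Γ x y).1 hy), ← Set.toFinset_card]
    refine congrArg Finset.card (Finset.ext fun z => ?_)
    simp [hA, SimpleGraph.mem_commonNeighbors]
  have hpair : ∀ y ∈ A, ∀ z ∈ A, y ≠ z → ¬ Γ.Adj y z →
      (A.filter (Γ.Adj y) ∩ A.filter (Γ.Adj z)).card ≤ 3 := by
    intro y hy z hz hne hn
    have hc : (Γ.commonNeighbors y z).toFinset.card = 4 := by
      rw [Set.toFinset_card]; exact h.of_not_adj hne hn
    have hsub : A.filter (Γ.Adj y) ∩ A.filter (Γ.Adj z) ⊆ (Γ.commonNeighbors y z).toFinset.erase x := by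
      intro w hw
      simp only [mem_inter, mem_filter] at hw
      rw [mem_erase, Set.mem_toFinset, SimpleGraph.mem_commonNeighbors]
      exact ⟨((SimpleGraph.mem_neighborFinset Γ x w).1 hw.1.1).ne', hw.1.2, hw.2.2⟩
    refine (card_le_card hsub).trans ?_
    rw [card_erase_of_mem, hc]
    rw [Set.mem_toFinset, SimpleGraph.mem_commonNeighbors]
    exact ⟨((SimpleGraph.mem_neighborFinset Γ x y).1 hy).symm, ((SimpleGraph.mem_neighborFinset Γ x z).1 hz).symm⟩
  let R : A → A → Prop := fun y z => y ≠ z ∧ ¬ Γ.Adj y.1 z.1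
  have hdeg : ∀ y : A, (univ.filter (R y)).card = 8 := by
    intro y
    have e : (univ.filter (R y)).map (Function.Embedding.subtype _) = (A.erase y.1) \ A.filter (Γ.Adj y.1) := by
      ext z
      simp only [mem_map, mem_filter, mem_univ, true_and, Function.Embedding.coe_subtype, mem_sdiff, mem_erase, R]
      constructor
      · rintro ⟨w, ⟨h1, h2⟩, rfl⟩
        exact ⟨⟨fun e => h1 (Subtype.ext e.symm), w.2⟩, fun e => h2 e.2⟩
      · rintro ⟨⟨h1, h2⟩, h3⟩
        exact ⟨⟨z, h2⟩, ⟨fun e => h1 (congrArg Subtype.val e).symm, fun e => h3 ⟨h2, e⟩⟩, rfl⟩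
    rw [← card_map (Function.Embedding.subtype _), e, card_sdiff_of_subset, card_erase_of_mem y.2, hAc, hin y y.2]
    intro z hz
    simp only [mem_filter] at hz
    exact mem_erase.2 ⟨hz.2.ne', hz.1⟩
  have htri : ∀ p q r : A, R p q → R q r → R p r → False := by
    rintro p q r ⟨hpq, npq⟩ ⟨hqr, nqr⟩ ⟨hpr, npr⟩
    set P := A.filter (Γ.Adj p.1) with hP
    set Q := A.filter (Γ.Adj q.1) with hQ
    set S := A.filter (Γ.Adj r.1) with hS
    have hne : ∀ {s t : A}, s ≠ t → s.1 ≠ t.1 := fun h e => h (Subtype.ext e)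
    have hsub : P ∪ Q ∪ S ⊆ A \ {p.1, q.1, r.1} := by
      intro z hz
      simp only [hP, hQ, hS, mem_union, mem_filter] at hz
      simp only [mem_sdiff, mem_insert, mem_singleton]
      refine ⟨by tauto, ?_⟩
      rintro (rfl | rfl | rfl)
      · rcases hz with (hz | hz) | hz
        · exact hz.2.ne rfl
        · exact npq hz.2.symm
        · exact npr hz.2.symm
      · rcases hz with (hz | hz) | hz
        · exact npq hz.2
        · exact hz.2.ne rfl
        · exact nqr hz.2.symm
      · rcases hz with (hz | hz) | hz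
        · exact npr hz.2
        · exact nqr hz.2
        · exact hz.2.ne rfl
    have h15 : (A \ {p.1, q.1, r.1}).card = 15 := by
      rw [card_sdiff_of_subset (by simp [insert_subset_iff]), hAc, card_insert_of_notMem (by simp [hne hpq, hne hpr]),
        card_pair (hne hqr)]
    have := card_le_card hsub
    have := card_union_add_card_inter (P ∪ Q) S
    have := card_union_add_card_inter P Q
    have h1 := hpair p.1 p.2 q.1 q.2 (hne hpq) npq
    have h2 := hpair p.1 p.2 r.1 r.2 (hne hpr) npr
    have h3 := hpair q.1 q.2 r.1 r.2 (hne hqr) nqr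
    have h4 : ((P ∪ Q) ∩ S).card ≤ 6 := by
      rw [union_inter_distrib_right]
      refine (card_union_le _ _).trans ?_
      rw [← hP, ← hS] at h2
      rw [← hQ, ← hS] at h3
      omega
    rw [← hP, ← hQ] at h1
    have := hin p.1 p.2; have := hin q.1 q.2; have := hin r.1 r.2
    rw [← hP] at *
    rw [← hQ] at *
    rw [← hS] at *
    omega
  obtain ⟨S, hSc, hS, hT⟩ := bipartite_eighteen (W := A) (by rw [Fintype.card_coe, hAc]) R
    (fun h => ⟨h.1.symm, fun e => h.2 e.symm⟩) hdeg htri
  set K1 := insert x (S.map (Function.Embedding.subtype _)) with hK1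
  set K2 := insert x (Sᶜ.map (Function.Embedding.subtype _)) with hK2
  have hx : ∀ X : Finset A, x ∉ X.map (Function.Embedding.subtype _) := fun X hx => by
    obtain ⟨y, -, hy⟩ := mem_map.1 hx
    exact ((SimpleGraph.mem_neighborFinset Γ x y.1).1 y.2).ne hy.symm
  have hclique : ∀ X : Finset A, X.card = 9 → (∀ v ∈ X, ∀ w ∈ X, ¬ R v w) →
      insert x (X.map (Function.Embedding.subtype _)) ∈ tenCliques Γ := by
    intro X hXc hX
    rw [SimpleGraph.mem_cliqueFinset_iff, SimpleGraph.isNClique_iff]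
    refine ⟨?_, by rw [card_insert_of_notMem (hx X), card_map, hXc]⟩
    rw [SimpleGraph.isClique_iff]
    intro v hv w hw hvw
    simp only [coe_insert, coe_map, Set.mem_insert_iff, Set.mem_image, Function.Embedding.coe_subtype] at hv hw
    rcases hv with rfl | ⟨v', hv', rfl⟩ <;> rcases hw with rfl | ⟨w', hw', rfl⟩
    · exact absurd rfl hvw
    · exact (SimpleGraph.mem_neighborFinset Γ _ w'.1).1 w'.2
    · exact ((SimpleGraph.mem_neighborFinset Γ _ v'.1).1 v'.2).symm
    · by_contra hn
      exact hX v' hv' w' hw' ⟨fun e => hvw (congrArg Subtype.val e), hn⟩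
  have hcard_compl : Sᶜ.card = 9 := by rw [card_compl, hSc, Fintype.card_coe, hAc]
  rw [show (tenCliques Γ).filter (x ∈ ·) = {K1, K2} from ?_]
  · refine card_pair fun e => ?_
    obtain ⟨y, hy⟩ := card_pos.1 (show 0 < S.card by omega)
    have h1 : y.1 ∈ K2 := by
      rw [← e, hK1]
      exact mem_insert_of_mem (mem_map_of_mem _ hy)
    rcases mem_insert.1 h1 with h1 | h1
    · exact ((SimpleGraph.mem_neighborFinset Γ x y.1).1 y.2).ne h1.symm
    · obtain ⟨z, hz, hzy⟩ := mem_map.1 h1
      rw [show z = y from Subtype.ext hzy] at hz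
      exact (mem_compl.1 hz) hy
  ext K
  simp only [mem_filter, mem_insert, mem_singleton]
  constructor
  · rintro ⟨hK, hxK⟩
    rw [SimpleGraph.mem_cliqueFinset_iff, SimpleGraph.isNClique_iff, SimpleGraph.isClique_iff] at hK
    obtain ⟨hKc, hK10⟩ := hK
    set X : Finset A := univ.filter (fun y => y.1 ∈ K) with hX
    have hKX : K = insert x (X.map (Function.Embedding.subtype _)) := by
      ext z
      simp only [mem_insert, mem_map, hX, mem_filter, mem_univ, true_and, Function.Embedding.coe_subtype]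
      constructor
      · intro hz
        by_cases e : z = x
        · exact Or.inl e
        · exact Or.inr ⟨⟨z, (SimpleGraph.mem_neighborFinset Γ x z).2 (hKc hxK hz (Ne.symm e))⟩, hz, rfl⟩
      · rintro (rfl | ⟨y, hy, rfl⟩)
        · exact hxK
        · exact hy
    have hXc : X.card = 9 := by
      rw [hKX, card_insert_of_notMem (hx X), card_map] at hK10
      omega
    have hXi : ∀ v ∈ X, ∀ w ∈ X, ¬ R v w := fun v hv w hw hR =>
      hR.2 (hKc (mem_filter.1 hv).2 (mem_filter.1 hw).2 fun e => hR.1 (Subtype.ext e))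
    rcases (X ∩ S).eq_empty_or_nonempty with h1 | ⟨s, hs⟩
    · right
      rw [hK2, hKX, eq_of_subset_of_card_le (fun y hy => mem_compl.2 fun hyS => by
        have : y ∈ X ∩ S := mem_inter.2 ⟨hy, hyS⟩
        rw [h1] at this
        exact absurd this (notMem_empty _)) (by omega : Sᶜ.card ≤ X.card)]
    rcases (X \ S).eq_empty_or_nonempty with h2 | ⟨t, ht⟩
    · left
      rw [hK1, hKX, eq_of_subset_of_card_le (sdiff_eq_empty_iff_subset.1 h2) (by omega : S.card ≤ X.card)]
    exfalso
    obtain ⟨hsX, hsS⟩ := mem_inter.1 hs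
    obtain ⟨htX, htS⟩ := mem_sdiff.1 ht
    have hb1 : (X \ S).card ≤ 1 := by
      have hsub : univ.filter (R s) ⊆ Sᶜ := fun z hz => mem_compl.2 fun hzS => hS s hsS z hzS (mem_filter.1 hz).2
      have hsub2 : X \ S ⊆ Sᶜ \ univ.filter (R s) := fun z hz => by
        obtain ⟨h1, h2⟩ := mem_sdiff.1 hz
        exact mem_sdiff.2 ⟨mem_compl.2 h2, fun h => hXi s hsX z h1 (mem_filter.1 h).2⟩
      refine (card_le_card hsub2).trans ?_
      rw [card_sdiff_of_subset hsub, hcard_compl, hdeg]
    have hb2 : (X ∩ S).card ≤ 1 := by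
      have hsub : univ.filter (R t) ⊆ S := fun z hz => by
        by_contra hzS
        exact hT t htS z hzS (mem_filter.1 hz).2
      have hsub2 : X ∩ S ⊆ S \ univ.filter (R t) := fun z hz => by
        obtain ⟨h1, h2⟩ := mem_inter.1 hz
        exact mem_sdiff.2 ⟨h2, fun h => hXi t htX z h1 (mem_filter.1 h).2⟩
      refine (card_le_card hsub2).trans ?_
      rw [card_sdiff_of_subset hsub, hSc, hdeg]
    have := card_sdiff_add_card_inter X S
    omega
  · rintro (rfl | rfl)
    · exact ⟨hclique S hSc hS, mem_insert_self _ _⟩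
    · exact ⟨hclique Sᶜ hcard_compl (fun v hv w hw => hT v (mem_compl.1 hv) w (mem_compl.1 hw)), mem_insert_self _ _⟩

theorem eleven_cliques (h : Γ.IsSRGWith 55 18 9 4) : (tenCliques Γ).card = 11 := by
  have h1 : ∑ K ∈ tenCliques Γ, K.card = ∑ x : V, ((tenCliques Γ).filter (x ∈ ·)).card := by
    refine (sum_congr rfl (g := fun K => ((univ : Finset V).bipartiteAbove (fun (K : Finset V) (x : V) => x ∈ K) K).card)
      (fun K _ => congrArg Finset.card (Finset.ext fun z => by simp [bipartiteAbove]))).trans ?_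
    exact sum_card_bipartiteAbove_eq_sum_card_bipartiteBelow _
  rw [sum_congr rfl (g := fun _ => 10) (fun K hK => ((SimpleGraph.mem_cliqueFinset_iff).1 hK).card_eq),
    sum_congr rfl (g := fun _ => 2) (fun x _ => two_cliques_through Γ h x), sum_const, sum_const,
    smul_eq_mul, smul_eq_mul, card_univ, h.card] at h1
  show (Γ.cliqueFinset 10).card = 11
  omega

end CfsgSimpleM11
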