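/-
The column of an element of order three.
-/
import Cfsg.Agent.Lib.SimpleM11.Columns

set_option autoImplicit false
set_option linter.style.haveILetI false
set_option linter.unusedSectionVars false

namespace CfsgSimpleM11

open Cfsg CfsgLib.CharTheory
open scoped ComplexConjugate

universe u
variable {G : Type u} [Group G] [Fintype G]

theorem not_five_dvd_cent (hG : IsM11 G) {t : G} (ht : orderOf t ≠ 1) (ht' : orderOf t ≠ 5) :
    ¬ 5 ∣ Nat.card (Subgroup.centralizer ({t} : Set G)) := by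
  intro h
  obtain ⟨b, hb, hbo⟩ := CfsgLib.Order7920.exists_order (show Nat.Prime 5 by norm_num) h
  have hd := Subgroup.orderOf_dvd_natCard (Subgroup.centralizer ({b} : Set G))
    (mem_cent.mpr (mem_cent.mp hb).symm)
  rw [(cent5 hG hbo).1] at hd
  rcases (Nat.dvd_prime (by norm_num)).mp hd with e | e
  · exact ht e
  · exact ht' e

/-- A Sylow subgroup of order nine through a given element of order three. -/
theorem exists_nine (hG : IsM11 G) {x : G} (hx : orderOf x = 3) :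
    ∃ E : Sylow 3 G, x ∈ (E : Subgroup G) ∧ Nat.card (E : Subgroup G) = 9 ∧
      (E : Subgroup G) ≤ Subgroup.centralizer ({x} : Set G) := by
  haveI : Fact (Nat.Prime 3) := ⟨Nat.prime_three⟩
  obtain ⟨E, hE⟩ := (IsPGroup.of_card (n := 1) (by rw [Nat.card_zpowers, hx, pow_one]) :
    IsPGroup 3 (Subgroup.zpowers x)).exists_le_sylow
  have hxE : x ∈ (E : Subgroup G) := hE (Subgroup.mem_zpowers x)
  have hc : Nat.card (E : Subgroup G) = 9 := by
    rw [E.card_eq_multiplicity, card_eq hG,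
      CfsgLib.Order7920.fac_eq Nat.prime_three (by norm_num) (show 3 ^ 2 ∣ 7920 by norm_num) (by norm_num)]
    norm_num
  refine ⟨E, hxE, hc, fun y hy => mem_cent.mpr ?_⟩
  have hcomm : IsMulCommutative (E : Subgroup G) :=
    IsPGroup.isMulCommutative_of_card_eq_prime_sq (p := 3) (by rw [hc]; norm_num)
  exact congrArg Subtype.val (hcomm.is_comm.comm ⟨y, hy⟩ ⟨x, hxE⟩)

theorem cent3_dvd (hG : IsM11 G) {x : G} (hx : orderOf x = 3) :
    Nat.card (Subgroup.centralizer ({x} : Set G)) ∣ 144 ∧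
      9 ∣ Nat.card (Subgroup.centralizer ({x} : Set G)) := by
  have h720 := CfsgLib.Order7920.dvd_720 (card_eq hG ▸ Subgroup.card_subgroup_dvd_card _)
    (not_eleven_dvd_cent hG (t := x) (by omega) (by omega))
  obtain ⟨E, -, hc, hle⟩ := exists_nine hG hx
  refine ⟨?_, hc ▸ Subgroup.card_dvd_of_le hle⟩
  exact Nat.Coprime.dvd_of_dvd_mul_right
    (((Nat.Prime.coprime_iff_not_dvd (show Nat.Prime 5 by norm_num)).mpr
      (not_five_dvd_cent hG (t := x) (by omega) (by omega))).symm) (show _ ∣ 144 * 5 from h720)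

theorem sum_ten_real (f : Fin 10 → ℝ) :
    ∑ j, f j = f 0 + f 1 + f 2 + f 3 + f 4 + f 5 + f 6 + f 7 + f 8 + f 9 := by
  simp only [Fin.sum_univ_succ, Fin.sum_univ_zero, add_zero]
  simp only [← add_assoc]
  rfl

theorem nine_check : ∀ v ∈ ([-2, 1] : List ℤ), ∀ V ∈ ([-4, 2] : List ℤ),
    let y := 1 - v - V
    let A := (2 * v + 3 * V - 4) / 2
    18 < 2 + 2 * v ^ 2 + V ^ 2 + 2 * (0 : ℤ) ^ 2 + 4 * y ^ 2 + 2 * A ^ 2 + 2 * (1 + 2 * y + A) ^ 2 +
      2 * (1 + 2 * v - 2 * V + 3 * A + 4 * (1 + 2 * y + A)) ^ 2 := by decide +kernel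

namespace Table

variable {a : G} (T : Table a)

/-- The values at an element of order three. -/
theorem three_values (hG : IsM11 G) (ha : orderOf a = 11) {x : G} (hx : orderOf x = 3) :
    ∃ (k p q : Fin 10) (v w y A B C V : ℤ), k.val ∈ ([2, 3, 4] : List ℕ) ∧
      ({k, p, q} : Finset (Fin 10)) = {2, 3, 4} ∧ k ≠ p ∧ k ≠ q ∧ p ≠ q ∧
      (T.e k : G → ℂ) x = v ∧ (T.e 1 : G → ℂ) x = w ∧ (T.e 5 : G → ℂ) x = y ∧ (T.e 6 : G → ℂ) x = y ∧
      (T.e 7 : G → ℂ) x = A ∧ (T.e 8 : G → ℂ) x = B ∧ (T.e 9 : G → ℂ) x = C ∧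
      (T.e p : G → ℂ) x + (T.e q : G → ℂ) x = V ∧
      v % 3 = 1 ∧ w % 3 = 0 ∧ y % 3 = 1 ∧ A % 3 = 2 ∧ B % 3 = 2 ∧ C % 3 = 1 ∧
      1 + w - v - V - y = 0 ∧ 1 + 2 * y + A - B = 0 ∧ 1 - 3 * w + 2 * v - 2 * V + 3 * A + 4 * B - C = 0 ∧
      1 + 10 * v + 10 * V + 45 * w + 32 * y + 11 * A + 44 * B + 55 * C = 0 := by
  classical
  haveI : Fact (Nat.Prime 3) := ⟨Nat.prime_three⟩
  haveI : Fact (Nat.Prime 5) := ⟨by norm_num⟩
  haveI : Fact (Nat.Prime 2) := ⟨Nat.prime_two⟩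
  obtain ⟨u, hu⟩ := exists_prime_orderOf_dvd_card' (G := G) 5 (by rw [card_eq hG]; norm_num)
  obtain ⟨i, hi⟩ := exists_prime_orderOf_dvd_card' (G := G) 2 (by rw [card_eq hG]; norm_num)
  obtain ⟨c, hc, c0, c1, c5, c6, c234, ⟨c2, c3, c4⟩, c7, c8, c9, -⟩ := T.two_column hG ha hi
  obtain ⟨k, p, q, hkl, hk, hset, hkp, hkq, hpq, hcp, hcq, huniq⟩ : ∃ k p q : Fin 10,
      k.val ∈ ([2, 3, 4] : List ℕ) ∧ c k = 2 ∧ ({k, p, q} : Finset (Fin 10)) = {2, 3, 4} ∧ k ≠ p ∧ k ≠ q ∧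
        p ≠ q ∧ c p = -2 ∧ c q = -2 ∧ ∀ j, degTen j = degTen k → c j = c k → j = k := by
    have pm : ∀ z : ℤ, z ^ 2 = 4 → z = 2 ∨ z = -2 := fun z hz => sq_eq_sq_iff_eq_or_eq_neg.mp (by rw [hz]; norm_num)
    have hdj : ∀ j : Fin 10, degTen j = 10 → j = 2 ∨ j = 3 ∨ j = 4 := by decide
    rcases pm _ c2 with h2 | h2 <;> rcases pm _ c3 with h3 | h3 <;> rcases pm _ c4 with h4 | h4 <;>
      first
        | omega
        | exact ⟨2, 3, 4, by decide, h2, by decide, by decide, by decide, by decide, h3, h4, fun j hj hc' => by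
            rcases hdj j (hj.trans rfl) with rfl | rfl | rfl <;> [rfl; omega; omega]⟩
        | exact ⟨3, 2, 4, by decide, h3, by decide, by decide, by decide, by decide, h2, h4, fun j hj hc' => by
            rcases hdj j (hj.trans rfl) with rfl | rfl | rfl <;> [omega; rfl; omega]⟩
        | exact ⟨4, 2, 3, by decide, h4, by decide, by decide, by decide, by decide, h2, h3, fun j hj hc' => by
            rcases hdj j (hj.trans rfl) with rfl | rfl | rfl <;> [omega; omega; rfl]⟩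
  have hi2 : i ^ 2 = 1 := hi ▸ pow_orderOf_eq_one i
  have hx720 : x ^ 720 = 1 := by rw [show 720 = 3 * 240 from rfl, pow_mul, ← hx, pow_orderOf_eq_one, one_pow]
  have hint : ∀ j, (∀ l, degTen l = degTen j → (T.e l : G → ℂ) a = (T.e j : G → ℂ) a → c l = c j → l = j) →
      ∃ z : ℤ, (T.e j : G → ℂ) x = z ∧ z % 3 = (degTen j : ℤ) % 3 := by
    intro j hj
    obtain ⟨z, hz, -⟩ := int_value hG ha hi2 (T.e j) (fun ψ h1 h2 h3 => by
      obtain ⟨l, rfl⟩ := T.bij.2 ψ
      rw [T.deg, T.deg] at h1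
      rw [hc, hc] at h3
      exact congrArg T.e (hj l h1 h2 (by exact_mod_cast h3))) hx720
    refine ⟨z, hz, ?_⟩
    have h := genChar_modEq_mul (isGenChar_of_char (isCharacter_of_irr (T.e j).2)) (p := 3) (y := x) (z := 1) (k := 1)
      (by rw [pow_one, ← hx, pow_orderOf_eq_one]) (Commute.one_right x) (a := z) (b := (degTen j : ℤ))
      (c := (degTen j : ℤ)) (by rw [mul_one, hz]) (by rw [T.one_apply, Int.cast_natCast])
      (by rw [one_pow, T.one_apply, Int.cast_natCast])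
    exact h
  obtain ⟨v, hv, mv⟩ := hint k (fun l h1 _ h3 => huniq l h1 h3)
  obtain ⟨w, hw, mw⟩ := hint 1 (fun l h1 _ _ => (by decide : ∀ l, degTen l = degTen 1 → l = 1) l h1)
  obtain ⟨A, hA, mA⟩ := hint 7 (fun l h1 _ _ => (by decide : ∀ l, degTen l = degTen 7 → l = 7) l h1)
  obtain ⟨B, hB, mB⟩ := hint 8 (fun l h1 _ _ => (by decide : ∀ l, degTen l = degTen 8 → l = 8) l h1)
  obtain ⟨C, hC, mC⟩ := hint 9 (fun l h1 _ _ => (by decide : ∀ l, degTen l = degTen 9 → l = 9) l h1)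
  have he5 : T.e 5 = T.Sh.f 5 := T.low 5
  have he6 : T.e 6 = T.Sh.f 6 := T.low 6
  obtain ⟨y, hy, my⟩ := hint 5 (fun l h1 h2 _ => by
    rcases (by decide : ∀ l, degTen l = degTen 5 → l = 5 ∨ l = 6) l h1 with rfl | rfl
    · rfl
    · rw [he5, he6, T.Sh.pair] at h2
      exact absurd h2.symm T.Sh.pair_ne)
  have hy6 : (T.e 6 : G → ℂ) x = y := by
    rw [he6, T.Sh.pair, ← he5, irr_inv, hy, map_intCast]
  have m : (degTen k : ℤ) % 3 = 1 := by
    simp only [List.mem_cons, List.not_mem_nil, or_false] at hkl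
    rcases (by omega : k = 2 ∨ k = 3 ∨ k = 4) with rfl | rfl | rfl <;> rfl
  have hk10 : degTen k = 10 ∧ degTen p = 10 ∧ degTen q = 10 := by
    have hd : ∀ j ∈ ({2, 3, 4} : Finset (Fin 10)), degTen j = 10 := by decide
    rw [← hset] at hd
    exact ⟨hd k (by simp), hd p (by simp), hd q (by simp)⟩
  have split : ∀ F : Fin 10 → ℂ, F 2 + F 3 + F 4 = F k + F p + F q := fun F => by
    have : ∑ j ∈ ({k, p, q} : Finset (Fin 10)), F j = ∑ j ∈ ({2, 3, 4} : Finset (Fin 10)), F j := by rw [hset]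
    rw [Finset.sum_insert (by simp [hkp, hkq]), Finset.sum_pair hpq, Finset.sum_insert (by decide),
      Finset.sum_pair (by decide)] at this
    linear_combination -this
  -- orthogonality with the four known columns
  have hne1 : x ≠ 1 := fun e => by rw [e, orderOf_one] at hx; norm_num at hx
  have hxa : (T.Sh.f 6 : G → ℂ) x = (T.Sh.f 5 : G → ℂ) x := by rw [← he5, ← he6, hy, hy6]
  have ra := T.Sh.orth hG ha (g := x) (by omega) hxa
  rw [Fin.sum_univ_five] at ra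
  have l : ∀ j : Fin 7, (T.Sh.f j : G → ℂ) = (T.e (j.castLE (by norm_num)) : G → ℂ) := fun j => by rw [T.low]
  simp only [l] at ra
  change (1 : ℤ) * (T.e 0 : G → ℂ) x + (1 : ℤ) * (T.e 1 : G → ℂ) x + ((-1 : ℤ) : ℂ) * (T.e 2 : G → ℂ) x +
    ((-1 : ℤ) : ℂ) * (T.e 3 : G → ℂ) x + ((-1 : ℤ) : ℂ) * (T.e 4 : G → ℂ) x - (T.e 5 : G → ℂ) x = 0 at ra
  have t0 : (T.e 0 : G → ℂ) x = 1 := by rw [T.first, triv_apply]
  have S := split (fun j => (T.e j : G → ℂ) x)
  beta_reduce at S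
  set V : ℤ := 1 + w - v - y with hVdef
  have hV : (T.e p : G → ℂ) x + (T.e q : G → ℂ) x = V := by
    rw [hVdef]
    simp only [t0, hw, hy] at ra
    push_cast at ra ⊢
    linear_combination -S - hv - ra
  have ru := col_orth (g := x) (h := u) (not_isConj_of_orderOf (by rw [orderOf_inv, hu, hx]; norm_num))
  rw [T.sum_all, sum_ten] at ru
  simp only [T.five_values hG hu, t0, hw, hy, hy6, hA, hB, hC, Matrix.cons_val_zero, Matrix.cons_val_one,
    Matrix.cons_val] at ru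
  have ri := col_orth (g := x) (h := i) (not_isConj_of_orderOf (by rw [orderOf_inv, hi, hx]; norm_num))
  rw [T.sum_all, sum_ten] at ri
  have Si := split (fun j => (T.e j : G → ℂ) x * (T.e j : G → ℂ) i)
  simp only [hc, hk, hcp, hcq] at Si
  simp only [hc, c0, c1, c5, c6, c7, c8, c9, t0, hw, hy, hy6, hA, hB, hC] at ri
  have rd := col_dg hne1
  rw [T.sum_all, sum_ten] at rd
  simp only [T.deg, t0, hw, hy, hy6, hA, hB, hC, degTen, Matrix.cons_val_zero, Matrix.cons_val_one,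
    Matrix.cons_val, Nat.cast_ofNat, Nat.cast_one] at rd
  have E2 : 1 + 2 * y + A - B = 0 := by
    have : ((1 + 2 * y + A - B : ℤ) : ℂ) = ((0 : ℤ) : ℂ) := by
      push_cast at ru ⊢; linear_combination ru
    exact_mod_cast this
  have E3 : 1 - 3 * w + 2 * v - 2 * V + 3 * A + 4 * B - C = 0 := by
    have : ((1 - 3 * w + 2 * v - 2 * V + 3 * A + 4 * B - C : ℤ) : ℂ) = ((0 : ℤ) : ℂ) := by
      push_cast at ri Si hV ⊢; linear_combination ri - Si - 2 * hv + 2 * hV
    exact_mod_cast this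
  have E4 : 1 + 10 * v + 10 * V + 45 * w + 32 * y + 11 * A + 44 * B + 55 * C = 0 := by
    have : ((1 + 10 * v + 10 * V + 45 * w + 32 * y + 11 * A + 44 * B + 55 * C : ℤ) : ℂ) = ((0 : ℤ) : ℂ) := by
      push_cast at rd hV ⊢; linear_combination rd - 10 * S - 10 * hv - 10 * hV
    exact_mod_cast this
  simp only [degTen, Matrix.cons_val_one, Matrix.cons_val, Nat.cast_ofNat] at mw mA mB mC my
  rw [m] at mv
  exact ⟨k, p, q, v, w, y, A, B, C, V, hkl, hset, hkp, hkq, hpq, hv, hw, hy, hy6, hA, hB, hC, hV,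
    mv, by omega, by omega, by omega, by omega, by omega, by omega, E2, E3, E4⟩

/-- The sum of the squares in a column. -/
theorem norm_split {x : G} {k p q : Fin 10} (hset : ({k, p, q} : Finset (Fin 10)) = {2, 3, 4})
    (hkp : k ≠ p) (hkq : k ≠ q) (hpq : p ≠ q) :
    (Nat.card (Subgroup.centralizer ({x} : Set G)) : ℝ) =
      Complex.normSq ((T.e 0 : G → ℂ) x) + Complex.normSq ((T.e 1 : G → ℂ) x) +
      (Complex.normSq ((T.e k : G → ℂ) x) + Complex.normSq ((T.e p : G → ℂ) x) + Complex.normSq ((T.e q : G → ℂ) x)) +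
      Complex.normSq ((T.e 5 : G → ℂ) x) + Complex.normSq ((T.e 6 : G → ℂ) x) + Complex.normSq ((T.e 7 : G → ℂ) x) +
      Complex.normSq ((T.e 8 : G → ℂ) x) + Complex.normSq ((T.e 9 : G → ℂ) x) := by
  classical
  have h := sum_irr_mul_conj x x
  rw [if_pos (IsConj.refl x)] at h
  simp only [Complex.mul_conj, ← Complex.ofReal_sum] at h
  have h' : (∑ χ : IrrCharacter G, Complex.normSq ((χ : G → ℂ) x)) =
      (Nat.card (Subgroup.centralizer ({x} : Set G)) : ℝ) := by exact_mod_cast h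
  rw [← h', T.sum_all]
  rw [sum_ten_real]
  have : ∑ j ∈ ({k, p, q} : Finset (Fin 10)), Complex.normSq ((T.e j : G → ℂ) x) =
      ∑ j ∈ ({2, 3, 4} : Finset (Fin 10)), Complex.normSq ((T.e j : G → ℂ) x) := by rw [hset]
  rw [Finset.sum_insert (by simp [hkp, hkq]), Finset.sum_pair hpq, Finset.sum_insert (by decide),
    Finset.sum_pair (by decide)] at this
  linear_combination -this

include T in
/-- The centraliser of an element of order three has even order. -/
theorem cent3_ne_nine (hG : IsM11 G) (ha : orderOf a = 11) {x : G} (hx : orderOf x = 3) :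
    Nat.card (Subgroup.centralizer ({x} : Set G)) ≠ 9 := by
  intro h9
  obtain ⟨k, p, q, v, w, y, A, B, C, V, -, hset, hkp, hkq, hpq, hv, hw, hy, hy6, hA, hB, hC, hV,
    mv, mw, my, mA, mB, mC, E1, E2, E3, E4⟩ := T.three_values hG ha hx
  have h := T.norm_split (x := x) hset hkp hkq hpq
  rw [h9, T.first, triv_apply, hv, hw, hy, hy6, hA, hB, hC] at h
  simp only [Complex.normSq_one, Complex.normSq_intCast] at h
  have hsum : Complex.normSq ((T.e p : G → ℂ) x) + Complex.normSq ((T.e q : G → ℂ) x) ≥ (V : ℝ) ^ 2 / 2 := by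
    have e := congrArg Complex.re hV
    rw [Complex.add_re, Complex.intCast_re] at e
    rw [← e]
    simp only [Complex.normSq_apply]
    nlinarith [sq_nonneg (((T.e p : G → ℂ) x).re - ((T.e q : G → ℂ) x).re),
      mul_self_nonneg ((T.e p : G → ℂ) x).im, mul_self_nonneg ((T.e q : G → ℂ) x).im]
  have hle : ((2 + 2 * v ^ 2 + V ^ 2 + 2 * w ^ 2 + 4 * y ^ 2 + 2 * A ^ 2 + 2 * B ^ 2 + 2 * C ^ 2 : ℤ) : ℝ) ≤ ((18 : ℤ) : ℝ) := by
    push_cast
    norm_num at h
    nlinarith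
  have hle' := Int.cast_le.mp hle
  have hv' : -2 ≤ v ∧ v ≤ 2 := ⟨by nlinarith, by nlinarith⟩
  have hw' : -2 ≤ w ∧ w ≤ 2 := ⟨by nlinarith, by nlinarith⟩
  have hV' : -4 ≤ V ∧ V ≤ 4 := ⟨by nlinarith, by nlinarith⟩
  obtain ⟨a1, a2⟩ := hv'; obtain ⟨a3, a4⟩ := hw'; obtain ⟨a5, a6⟩ := hV'
  obtain rfl : w = 0 := by omega
  have hy' : y = 1 - v - V := by omega
  have hA' : A = (2 * v + 3 * V - 4) / 2 := by omega
  have hB' : B = 1 + 2 * y + A := by omega
  have hC' : C = 1 + 2 * v - 2 * V + 3 * A + 4 * B := by omega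
  have hV2 : V % 2 = 0 := by omega
  subst hC' hB' hA' hy'
  have := nine_check v (by simp; omega) V (by simp; omega)
  omega

end Table

theorem cent3_cases (hG : IsM11 G) {x : G} (hx : orderOf x = 3) :
    Nat.card (Subgroup.centralizer ({x} : Set G)) ∈ ([18, 36, 72, 144] : List ℕ) := by
  haveI : Fact (Nat.Prime 11) := ⟨by norm_num⟩
  obtain ⟨a, ha⟩ := exists_prime_orderOf_dvd_card' (G := G) 11 (by rw [card_eq hG]; norm_num)
  obtain ⟨T⟩ := exists_table hG ha
  have h9 := T.cent3_ne_nine hG ha hx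
  obtain ⟨h1, h2⟩ := cent3_dvd hG hx
  revert h9 h1 h2
  generalize Nat.card (Subgroup.centralizer ({x} : Set G)) = c
  intro h9 h1 h2
  have key : ∀ c ∈ Nat.divisors 144, 9 ∣ c → c ≠ 9 → c ∈ ([18, 36, 72, 144] : List ℕ) := by decide +kernel
  exact key c (Nat.mem_divisors.2 ⟨h1, by norm_num⟩) h2 h9

end CfsgSimpleM11
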