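/-
The conjugacy classes: all elements of order three are conjugate.
-/
import Cfsg.Agent.Lib.SimpleM11.ThreeColumn

set_option autoImplicit false
set_option linter.style.haveILetI false
set_option linter.unusedSectionVars false

namespace CfsgSimpleM11

open Cfsg CfsgLib.CharTheory

universe u
variable {G : Type u} [Group G] [Fintype G]

/-- The number of conjugates. -/
noncomputable def clsize (g : G) : ℕ := Nat.card {x : G // IsConj g x}

theorem clsize_mul (hG : IsM11 G) (g : G) :
    clsize g * Nat.card (Subgroup.centralizer ({g} : Set G)) = 7920 := by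
  rw [clsize, card_isConj_mul_card_centralizer, card_eq hG]

theorem clsize_one : clsize (1 : G) = 1 := by
  rw [clsize, Nat.card_eq_one_iff_unique]
  refine ⟨⟨fun x y => Subtype.ext ?_⟩, ⟨⟨1, IsConj.refl 1⟩⟩⟩
  rw [isConj_one_right.mp x.2, isConj_one_right.mp y.2]

/-- The class equation. -/
theorem sum_clsize (hG : IsM11 G) (s : Finset (ConjClasses G)) (hs : ∀ c, c ∈ s)
    (rep : ConjClasses G → G) (hrep : ∀ c, ConjClasses.mk (rep c) = c) :
    ∑ c ∈ s, clsize (rep c) = 7920 := by
  classical
  have h : ∑ c ∈ s, (Finset.univ.filter (fun g : G => ConjClasses.mk g = c)).card = 7920 := by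
    rw [← Finset.card_eq_sum_card_fiberwise (fun g _ => hs _), Finset.card_univ, ← Nat.card_eq_fintype_card, card_eq hG]
  rw [← h]
  refine Finset.sum_congr rfl fun c _ => ?_
  rw [clsize, Nat.card_eq_fintype_card, Fintype.card_subtype]
  refine congrArg Finset.card (Finset.filter_congr fun g _ => ?_)
  rw [← ConjClasses.mk_eq_mk_iff_isConj, hrep]
  exact eq_comm

/-- An element of order six over an element of order three, in a large class. -/
theorem exists_six (hG : IsM11 G) {x : G} (hx : orderOf x = 3) :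
    ∃ z : G, orderOf z = 6 ∧ z ^ 4 = x ∧
      3 * Nat.card (Subgroup.centralizer ({z} : Set G)) = Nat.card (Subgroup.centralizer ({x} : Set G)) := by
  classical
  haveI : Fact (Nat.Prime 2) := ⟨Nat.prime_two⟩
  set C := Subgroup.centralizer ({x} : Set G) with hC
  have hcases := cent3_cases hG hx
  obtain ⟨k, hk1, hk⟩ : ∃ k, 0 < k ∧ Nat.card C = 9 * 2 ^ k := by
    simp only [← hC, List.mem_cons, List.not_mem_nil, or_false] at hcases
    rcases hcases with h | h | h | h
    · exact ⟨1, by norm_num, by rw [h]; norm_num⟩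
    · exact ⟨2, by norm_num, by rw [h]; norm_num⟩
    · exact ⟨3, by norm_num, by rw [h]; norm_num⟩
    · exact ⟨4, by norm_num, by rw [h]; norm_num⟩
  obtain ⟨S, hS⟩ := Sylow.exists_subgroup_card_pow_prime 2 (n := k) (G := C) (by rw [hk]; exact Dvd.intro_left _ rfl)
  haveI : Nontrivial S := Finite.one_lt_card_iff_nontrivial.mp (by
    rw [hS]; exact Nat.one_lt_two_pow hk1.ne')
  have hSp : IsPGroup 2 S := IsPGroup.of_card hS
  haveI := hSp.center_nontrivial
  obtain ⟨j, hj⟩ := CfsgLib.Order7920.exists_order Nat.prime_two (K := Subgroup.center S) (by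
    obtain ⟨n, hn⟩ := IsPGroup.iff_card.mp (hSp.to_subgroup (Subgroup.center S))
    have := Finite.one_lt_card (α := Subgroup.center S)
    rcases n with _ | n
    · rw [hn] at this; norm_num at this
    · rw [hn]; exact dvd_pow_self 2 (Nat.succ_ne_zero n))
  obtain ⟨hjc, hjo⟩ := hj
  set t : G := ((j : C) : G) with ht
  have hto : orderOf t = 2 := by
    rw [ht, Subgroup.orderOf_coe, Subgroup.orderOf_coe, hjo]
  have hcomm : Commute x t := (mem_cent.mp (j : C).2).symm
  have hx3 : x ^ 3 = 1 := hx ▸ pow_orderOf_eq_one x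
  have ht2 : t ^ 2 = 1 := hto ▸ pow_orderOf_eq_one t
  refine ⟨x * t, ?_, ?_, ?_⟩
  · rw [hcomm.orderOf_mul_eq_mul_orderOf_of_coprime (by rw [hx, hto]; norm_num), hx, hto]
  · rw [hcomm.mul_pow, pow_succ x 3, hx3, one_mul, show 4 = 2 * 2 from rfl, pow_mul t, ht2, one_pow, mul_one]
  set D := Subgroup.centralizer ({x * t} : Set G) with hD
  have hDx : D ≤ C := by
    intro c hc
    refine mem_cent.mpr ?_
    have h4 := (Commute.pow_right (mem_cent.mp hc : Commute c (x * t)) 4).eq
    rwa [hcomm.mul_pow, pow_succ x 3, hx3, one_mul, show 4 = 2 * 2 from rfl, pow_mul t, ht2, one_pow, mul_one] at h4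
  have hDt : D ≤ Subgroup.centralizer ({t} : Set G) := by
    intro c hc
    refine mem_cent.mpr ?_
    have h3 := (Commute.pow_right (mem_cent.mp hc : Commute c (x * t)) 3).eq
    rwa [hcomm.mul_pow, hx3, one_mul, pow_succ t 2, ht2, one_mul] at h3
  have d1 := Subgroup.card_dvd_of_le hDx
  have d2 := Subgroup.card_dvd_of_le hDt
  rw [cent_involution hG hto] at d2
  have d3 : 3 ∣ Nat.card D := by
    rw [← hx]
    refine Subgroup.orderOf_dvd_natCard D (mem_cent.mpr ?_)
    rw [mul_assoc, ← hcomm.eq]
  have d4 : 2 ^ k ∣ Nat.card D := by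
    rw [← hS]
    have hle : (S.map C.subtype) ≤ D := by
      rintro _ ⟨s, hs, rfl⟩
      refine mem_cent.mpr ?_
      have h1 : (s : G) * x = x * (s : G) := mem_cent.mp s.2
      have h2 : (s : G) * t = t * (s : G) :=
        congrArg (fun w : S => ((w : C) : G)) ((Subgroup.mem_center_iff.mp hjc) ⟨s, hs⟩)
      show (s : G) * (x * t) = x * t * (s : G)
      rw [← mul_assoc, h1, mul_assoc, h2, mul_assoc]
    have := Subgroup.card_dvd_of_le hle
    rwa [Subgroup.card_map_of_injective C.subtype_injective] at this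
  rw [hk] at d1 ⊢
  have hmem : k ∈ ([1, 2, 3, 4] : List ℕ) := by
    have h144 := (cent3_dvd hG hx).1
    rw [hk] at h144
    have := Nat.le_of_dvd (by norm_num) h144
    have h16 : 2 ^ k ≤ 2 ^ 4 := by norm_num; omega
    have := (Nat.pow_le_pow_iff_right (show 1 < 2 by norm_num)).mp h16
    simp; omega
  revert d1 d2 d3 d4
  generalize Nat.card D = c
  intro d1 d2 d3 d4
  have key : ∀ c ∈ Nat.divisors 48, ∀ k ∈ ([1, 2, 3, 4] : List ℕ), c ∣ 9 * 2 ^ k → 3 ∣ c → 2 ^ k ∣ c →
      3 * c = 9 * 2 ^ k := by decide +kernel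
  exact key c (Nat.mem_divisors.2 ⟨d2, by norm_num⟩) k hmem d1 d3 d4

theorem class_check : ∀ c ∈ ([18, 36, 72, 144] : List ℕ), ∀ c' ∈ ([18, 36, 72, 144] : List ℕ),
    4 * (7920 / c) + 4 * (7920 / c') ≤ 4730 → ¬ (4730 - (4 * (7920 / c) + 4 * (7920 / c')) ∣ 7920) := by
  decide +kernel

/-- All elements of order three are conjugate. -/
theorem three_conj (hG : IsM11 G) {x x' : G} (hx : orderOf x = 3) (hx' : orderOf x' = 3) : IsConj x x' := by
  classical
  by_contra hne
  haveI : Fact (Nat.Prime 11) := ⟨by norm_num⟩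
  haveI : Fact (Nat.Prime 5) := ⟨by norm_num⟩
  haveI : Fact (Nat.Prime 2) := ⟨Nat.prime_two⟩
  obtain ⟨a, ha⟩ := exists_prime_orderOf_dvd_card' (G := G) 11 (by rw [card_eq hG]; norm_num)
  obtain ⟨u, hu⟩ := exists_prime_orderOf_dvd_card' (G := G) 5 (by rw [card_eq hG]; norm_num)
  obtain ⟨i, hi⟩ := exists_prime_orderOf_dvd_card' (G := G) 2 (by rw [card_eq hG]; norm_num)
  obtain ⟨T⟩ := exists_table hG ha
  obtain ⟨z, hz, hzx, hzc⟩ := exists_six hG hx
  obtain ⟨z', hz', hzx', hzc'⟩ := exists_six hG hx'
  let r : Fin 9 → G := ![1, a, a⁻¹, u, i, x, x', z, z']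
  have hord : ∀ j, orderOf (r j) = ![1, 11, 11, 5, 2, 3, 3, 6, 6] j := by
    intro j
    fin_cases j <;> simp [r, ha, hu, hi, hx, hx', hz, hz']
  have hinj : Function.Injective (fun j => ConjClasses.mk (r j)) := by
    intro j k h
    have hc : IsConj (r j) (r k) := ConjClasses.mk_eq_mk_iff_isConj.mp h
    have he := orderOf_of_isConj hc
    rw [hord, hord] at he
    have key : ∀ j k : Fin 9, (![1, 11, 11, 5, 2, 3, 3, 6, 6] : Fin 9 → ℕ) k = ![1, 11, 11, 5, 2, 3, 3, 6, 6] j →
        j = k ∨ (j, k) = (1, 2) ∨ (j, k) = (2, 1) ∨ (j, k) = (5, 6) ∨ (j, k) = (6, 5) ∨ (j, k) = (7, 8) ∨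
          (j, k) = (8, 7) := by decide
    rcases key j k he with h | h | h | h | h | h | h
    · exact h
    all_goals obtain ⟨rfl, rfl⟩ := Prod.ext_iff.mp h
    · exact absurd hc (not_conj_inv hG ha)
    · exact absurd hc.symm (not_conj_inv hG ha)
    · exact absurd hc hne
    · exact absurd hc.symm hne
    · refine absurd ?_ hne
      have := isConj_pow (show IsConj z z' from hc) 4
      rwa [hzx, hzx'] at this
    · refine absurd ?_ hne
      have := isConj_pow (show IsConj z z' from hc.symm) 4
      rwa [hzx, hzx'] at this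
  haveI := Fintype.ofFinite (ConjClasses G)
  have hten : Fintype.card (ConjClasses G) = 10 := by
    rw [← Nat.card_eq_fintype_card, ← card_irr_eq_card_conjClasses, ← Nat.card_congr (Equiv.ofBijective T.e T.bij),
      Nat.card_fin]
  set S := (Finset.univ : Finset (Fin 9)).image (fun j => ConjClasses.mk (r j)) with hS
  have hSc : (Sᶜ).card = 1 := by
    rw [Finset.card_compl, hten, hS, Finset.card_image_of_injective _ hinj]; rfl
  obtain ⟨w, hw⟩ := Finset.card_eq_one.mp hSc
  let rep : ConjClasses G → G := fun c => Function.surjInv ConjClasses.mk_surjective c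
  have hrep : ∀ c, ConjClasses.mk (rep c) = c := fun c => Function.surjInv_eq ConjClasses.mk_surjective c
  have hsum := sum_clsize hG Finset.univ (fun c => Finset.mem_univ c) rep hrep
  rw [← Finset.sum_add_sum_compl S, hw, Finset.sum_singleton, hS, Finset.sum_image (fun p _ q _ h => hinj h)] at hsum
  have hcl : ∀ j, clsize (rep (ConjClasses.mk (r j))) = clsize (r j) := fun j => by
    have h := ConjClasses.mk_eq_mk_iff_isConj.mp (hrep (ConjClasses.mk (r j)))
    exact Nat.card_congr (Equiv.subtypeEquivRight fun g => ⟨fun h' => h.symm.trans h', fun h' => h.trans h'⟩)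
  simp only [hcl] at hsum
  have mA : clsize a = 720 := by
    have := clsize_mul hG a; rw [cent11 hG ha] at this; omega
  have mA' : clsize a⁻¹ = 720 := by
    have := clsize_mul hG a⁻¹; rw [cent11 hG (by rw [orderOf_inv, ha])] at this; omega
  have mU : clsize u = 1584 := by
    have := clsize_mul hG u; rw [(cent5 hG hu).1] at this; omega
  have mI : clsize i = 165 := by
    have := clsize_mul hG i; rw [cent_involution hG hi] at this; omega
  have mX : ∀ y : G, clsize y = 7920 / Nat.card (Subgroup.centralizer ({y} : Set G)) := fun y => by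
    rw [← clsize_mul hG y, Nat.mul_div_cancel _ Nat.card_pos]
  have mZ : ∀ y w : G, orderOf y = 3 → 3 * Nat.card (Subgroup.centralizer ({w} : Set G)) =
      Nat.card (Subgroup.centralizer ({y} : Set G)) →
      clsize w = 3 * (7920 / Nat.card (Subgroup.centralizer ({y} : Set G))) := by
    intro y w hy h
    rw [mX w, ← h]
    have hc := cent3_cases hG hy
    rw [← h] at hc
    simp only [List.mem_cons, List.not_mem_nil, or_false] at hc
    generalize Nat.card (Subgroup.centralizer ({w} : Set G)) = c at hc ⊢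
    rcases hc with e | e | e | e
    · obtain rfl : c = 6 := by omega
      norm_num
    · obtain rfl : c = 12 := by omega
      norm_num
    · obtain rfl : c = 24 := by omega
      norm_num
    · obtain rfl : c = 48 := by omega
      norm_num
  rw [Fin.sum_univ_succ, Fin.sum_univ_eight] at hsum
  change clsize (1 : G) + (clsize a + clsize a⁻¹ + clsize u + clsize i + clsize x + clsize x' + clsize z + clsize z') +
    clsize (rep w) = 7920 at hsum
  rw [clsize_one, mA, mA', mU, mI, mX x, mX x', mZ x z hx hzc, mZ x' z' hx' hzc'] at hsum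
  have hdvd : clsize (rep w) ∣ 7920 := Dvd.intro _ (clsize_mul hG (rep w))
  refine class_check _ (cent3_cases hG hx) _ (cent3_cases hG hx') (by omega) ?_
  convert hdvd using 1
  omega

end CfsgSimpleM11
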