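/-
The normaliser of a Sylow subgroup of order nine.
-/
import Cfsg.Agent.Lib.SimpleM11.ThreeClass

set_option autoImplicit false
set_option linter.style.haveILetI false
set_option linter.unusedSectionVars false

namespace CfsgSimpleM11

open Cfsg Subgroup

universe u
variable {G : Type u} [Group G] [Fintype G]

theorem sylow3_card (hG : IsM11 G) (P : Sylow 3 G) : Nat.card (P : Subgroup G) = 9 := by
  rw [P.card_eq_multiplicity, card_eq hG,
    CfsgLib.Order7920.fac_eq Nat.prime_three (by norm_num) (show 3 ^ 2 ∣ 7920 by norm_num) (by norm_num)]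
  norm_num

theorem sylow3_comm (hG : IsM11 G) (P : Sylow 3 G) : IsMulCommutative (P : Subgroup G) :=
  IsPGroup.isMulCommutative_of_card_eq_prime_sq (p := 3) (by rw [sylow3_card hG P]; norm_num)

theorem sylow3_le_cent (hG : IsM11 G) (P : Sylow 3 G) :
    (P : Subgroup G) ≤ centralizer ((P : Subgroup G) : Set G) := by
  haveI := sylow3_comm hG P
  exact le_centralizer _

theorem exists_three_mem (hG : IsM11 G) (P : Sylow 3 G) : ∃ x ∈ (P : Subgroup G), orderOf x = 3 := by
  haveI : Fact (Nat.Prime 3) := ⟨Nat.prime_three⟩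
  exact CfsgLib.Order7920.exists_order Nat.prime_three (by rw [sylow3_card hG P]; norm_num)

theorem cent_sylow3 (hG : IsM11 G) (P : Sylow 3 G) :
    centralizer ((P : Subgroup G) : Set G) = (P : Subgroup G) := by
  haveI : Fact (Nat.Prime 2) := ⟨Nat.prime_two⟩
  refine (eq_of_le_of_card_ge (sylow3_le_cent hG P) ?_).symm
  obtain ⟨x, hxP, hx⟩ := exists_three_mem hG P
  have hle : centralizer ((P : Subgroup G) : Set G) ≤ centralizer ({x} : Set G) := fun c hc =>
    mem_cent.mpr (mem_centralizer_iff.mp hc x hxP).symm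
  have h144 := (card_dvd_of_le hle).trans (cent3_dvd hG hx).1
  have hodd : ¬ 2 ∣ Nat.card (centralizer ((P : Subgroup G) : Set G)) := by
    intro h
    obtain ⟨j, hj, hjo⟩ := CfsgLib.Order7920.exists_order Nat.prime_two h
    have h9 : (P : Subgroup G) ≤ centralizer ({j} : Set G) := fun y hy =>
      mem_cent.mpr (mem_centralizer_iff.mp hj y hy)
    have := card_dvd_of_le h9
    rw [sylow3_card hG P, cent_involution hG hjo] at this
    norm_num at this
  rw [sylow3_card hG P]
  have key : ∀ c ∈ Nat.divisors 144, ¬ 2 ∣ c → c ≤ 9 := by decide +kernel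
  exact key _ (Nat.mem_divisors.2 ⟨h144, by norm_num⟩) hodd

theorem not_dvd_norm3 (hG : IsM11 G) (P : Sylow 3 G) {p : ℕ} [Fact p.Prime] (hp : p = 5 ∨ p = 11) :
    ¬ p ∣ Nat.card (normalizer ((P : Subgroup G) : Set G)) := by
  intro h
  obtain ⟨b, hb, hbo⟩ := CfsgLib.Order7920.exists_order Fact.out h
  have hmod := CfsgLib.Order7920.card_fixed_modEq (R := (P : Subgroup G))
    (IsPGroup.of_card (n := 1) (by rw [Nat.card_zpowers, hbo, pow_one]) : IsPGroup p (zpowers b))
    (zpowers_le.mpr hb)
  have hd : Nat.card ((P : Subgroup G) ⊓ centralizer (zpowers b : Set G) : Subgroup G) ∣ 9 :=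
    sylow3_card hG P ▸ card_dvd_of_le inf_le_left
  rw [sylow3_card hG P] at hmod
  have h9 : Nat.card ((P : Subgroup G) ⊓ centralizer (zpowers b : Set G) : Subgroup G) = 9 := by
    have hlt := Nat.lt_succ_of_le (Nat.le_of_dvd (by norm_num) hd)
    rcases hp with rfl | rfl
    · have key : ∀ F < 10, F ∣ 9 → 9 % 5 = F % 5 → F = 9 := by decide
      exact key _ hlt hd hmod
    · have key : ∀ F < 10, F ∣ 9 → 9 % 11 = F % 11 → F = 9 := by decide
      exact key _ hlt hd hmod
  have hle : (P : Subgroup G) ≤ centralizer (zpowers b : Set G) := by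
    rw [← eq_of_le_of_card_ge (inf_le_left : (P : Subgroup G) ⊓ centralizer (zpowers b : Set G) ≤ P)
      (by rw [h9, sylow3_card hG P])]
    exact inf_le_right
  have hbP : b ∈ centralizer ((P : Subgroup G) : Set G) := by
    refine mem_centralizer_iff.mpr fun y hy => ?_
    exact (mem_centralizer_iff.mp (hle hy) b (mem_zpowers b)).symm
  rw [cent_sylow3 hG P] at hbP
  have := orderOf_dvd_natCard _ hbP
  rw [hbo, sylow3_card hG P] at this
  rcases hp with rfl | rfl <;> norm_num at this

theorem norm3_cases (hG : IsM11 G) (P : Sylow 3 G) :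
    Nat.card (normalizer ((P : Subgroup G) : Set G)) ∈ ([9, 36, 144] : List ℕ) := by
  haveI : Fact (Nat.Prime 3) := ⟨Nat.prime_three⟩
  haveI : Fact (Nat.Prime 5) := ⟨by norm_num⟩
  haveI : Fact (Nat.Prime 11) := ⟨by norm_num⟩
  have hm := card_sylow_modEq_one 3 G
  rw [P.card_eq_index_normalizer] at hm
  change (normalizer ((P : Subgroup G) : Set G)).index ≡ 1 [MOD 3] at hm
  have hi := (normalizer ((P : Subgroup G) : Set G)).card_mul_index
  rw [card_eq hG] at hi
  have h9 := card_dvd_of_le (le_normalizer (H := (P : Subgroup G)))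
  rw [sylow3_card hG P] at h9
  have h720 := CfsgLib.Order7920.dvd_720 (card_eq hG ▸ card_subgroup_dvd_card _) (not_dvd_norm3 hG P (Or.inr rfl))
  have h144 : Nat.card (normalizer ((P : Subgroup G) : Set G)) ∣ 144 :=
    Nat.Coprime.dvd_of_dvd_mul_right
      (((Nat.Prime.coprime_iff_not_dvd (show Nat.Prime 5 by norm_num)).mpr (not_dvd_norm3 hG P (Or.inl rfl))).symm)
      (show _ ∣ 144 * 5 from h720)
  have hidx : (normalizer ((P : Subgroup G) : Set G)).index =
      7920 / Nat.card (normalizer ((P : Subgroup G) : Set G)) := by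
    rw [← hi, Nat.mul_div_cancel_left _ Nat.card_pos]
  rw [hidx] at hm
  revert hm h144 h9
  generalize Nat.card (normalizer ((P : Subgroup G) : Set G)) = N
  intro hm h9 h144
  have key : ∀ N ∈ Nat.divisors 144, 9 ∣ N → 7920 / N % 3 = 1 → N ∈ ([9, 36, 144] : List ℕ) := by decide +kernel
  exact key N (Nat.mem_divisors.2 ⟨h144, by norm_num⟩) h9 hm

theorem sylow3_exp (hG : IsM11 G) (P : Sylow 3 G) {y : G} (hy : y ∈ (P : Subgroup G)) (h1 : y ≠ 1) :
    orderOf y = 3 := by
  classical
  haveI : Fact (Nat.Prime 3) := ⟨Nat.prime_three⟩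
  have hd := orderOf_dvd_natCard _ hy
  rw [sylow3_card hG P] at hd
  have key : ∀ m ∈ Nat.divisors 9, m ≠ 1 → m = 3 ∨ m = 9 := by decide
  rcases key _ (Nat.mem_divisors.2 ⟨hd, by norm_num⟩) (fun e => h1 (orderOf_eq_one_iff.mp e)) with e | e
  · exact e
  exfalso
  haveI : IsCyclic (P : Subgroup G) := isCyclic_of_orderOf_eq_card ⟨y, hy⟩ (by
    rw [← Subgroup.orderOf_coe, e, sylow3_card hG P])
  have h1 := (normalizerMonoidHom (P : Subgroup G)).ker.card_mul_index
  rw [index_ker] at h1
  have hk : Nat.card (normalizerMonoidHom (P : Subgroup G)).ker = 9 := by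
    rw [normalizerMonoidHom_ker, Nat.card_congr (subgroupOfEquivOfLe (centralizer_le_normalizer _)).toEquiv,
      cent_sylow3 hG P, sylow3_card hG P]
  have h2 : Nat.card (normalizerMonoidHom (P : Subgroup G)).range ∣ 6 := by
    refine (card_subgroup_dvd_card _).trans ?_
    rw [IsCyclic.card_mulAut, sylow3_card hG P]
    decide
  rw [hk] at h1
  have hn := norm3_cases hG P
  simp only [List.mem_cons, List.not_mem_nil, or_false] at hn
  rcases hn with hn | hn | hn
  · refine no_transfer hG P (by rw [sylow3_card hG P]; norm_num) (by rw [sylow3_card hG P]; norm_num) ?_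
    rw [← eq_of_le_of_card_ge (le_normalizer (H := (P : Subgroup G))) (by rw [sylow3_card hG P, hn])]
    exact sylow3_le_cent hG P
  all_goals
    have := Nat.le_of_dvd (by norm_num) h2
    rw [hn] at h1
    have h4 : Nat.card (normalizerMonoidHom (P : Subgroup G)).range = 4 ∨
        Nat.card (normalizerMonoidHom (P : Subgroup G)).range = 16 := by omega
    rcases h4 with h4 | h4 <;> rw [h4] at h2 <;> norm_num at h2

/-- The normaliser is transitive on the eight elements of order three. -/
theorem norm3_trans (hG : IsM11 G) (P : Sylow 3 G) {x y : G} (hx : x ∈ (P : Subgroup G)) (hy : y ∈ (P : Subgroup G))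
    (hx1 : x ≠ 1) (hy1 : y ≠ 1) :
    ∃ n ∈ normalizer ((P : Subgroup G) : Set G), n * x * n⁻¹ = y := by
  haveI : Fact (Nat.Prime 3) := ⟨Nat.prime_three⟩
  haveI := sylow3_comm hG P
  obtain ⟨g, hg⟩ := isConj_iff.mp (three_conj hG (sylow3_exp hG P hx hx1) (sylow3_exp hG P hy hy1))
  obtain ⟨n, hn, he⟩ := P.conj_eq_normalizer_conj_of_mem x g⁻¹ hx (by rw [inv_inv, hg]; exact hy)
  refine ⟨n⁻¹, inv_mem hn, ?_⟩
  rw [inv_inv] at he ⊢
  rw [← he, hg]

theorem card_norm3 (hG : IsM11 G) (P : Sylow 3 G) :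
    Nat.card (normalizer ((P : Subgroup G) : Set G)) = 144 := by
  classical
  obtain ⟨x, hx, hxo⟩ := exists_three_mem hG P
  have hx1 : x ≠ 1 := fun e => by rw [e, orderOf_one] at hxo; norm_num at hxo
  have h := fun y : {y : (P : Subgroup G) // y ≠ 1} =>
    norm3_trans hG P hx y.1.2 hx1 (fun e => y.2 (Subtype.ext e))
  choose n hn he using h
  let F : {y : (P : Subgroup G) // y ≠ 1} × (P : Subgroup G) → normalizer ((P : Subgroup G) : Set G) :=
    fun z => ⟨n z.1 * (z.2 : G), mul_mem (hn z.1) (le_normalizer z.2.2)⟩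
  have hF : Function.Injective F := by
    intro p q hpq
    have h' : n p.1 * (p.2 : G) = n q.1 * (q.2 : G) := congrArg Subtype.val hpq
    have hc : ∀ z : {y : (P : Subgroup G) // y ≠ 1} × (P : Subgroup G),
        (n z.1 * (z.2 : G)) * x * (n z.1 * (z.2 : G))⁻¹ = (z.1.1 : G) := fun z => by
      have hcomm : (z.2 : G) * x = x * (z.2 : G) :=
        congrArg Subtype.val ((sylow3_comm hG P).is_comm.comm z.2 ⟨x, hx⟩)
      calc (n z.1 * (z.2 : G)) * x * (n z.1 * (z.2 : G))⁻¹
          = n z.1 * ((z.2 : G) * x * (z.2 : G)⁻¹) * (n z.1)⁻¹ := by group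
        _ = n z.1 * x * (n z.1)⁻¹ := by rw [hcomm, mul_inv_cancel_right]
        _ = _ := he z.1
    have h1 : p.1 = q.1 := Subtype.ext (Subtype.ext (by rw [← hc p, ← hc q, h']))
    rw [h1] at h'
    exact Prod.ext h1 (Subtype.ext (mul_left_cancel h'))
  have hle := Nat.card_le_card_of_injective F hF
  rw [Nat.card_prod, sylow3_card hG P, Nat.card_eq_fintype_card (α := {y : (P : Subgroup G) // y ≠ 1}),
    Fintype.card_subtype_compl, Fintype.card_subtype_eq, ← Nat.card_eq_fintype_card, sylow3_card hG P] at hle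
  have hc := norm3_cases hG P
  simp only [List.mem_cons, List.not_mem_nil, or_false] at hc
  omega

end CfsgSimpleM11
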