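/-
The Sylow subgroups of order nine meet trivially.
-/
import Cfsg.Agent.Lib.SimpleM11.ThreeNorm

set_option autoImplicit false
set_option linter.style.haveILetI false
set_option linter.unusedSectionVars false

namespace CfsgSimpleM11

open Cfsg CfsgLib.CharTheory

universe u
variable {G : Type u} [Group G] [Fintype G]

theorem col_check : ∀ v ∈ ([-8, -5, -2, 1, 4, 7] : List ℤ), ∀ p ∈ ([-8, -5, -2, 1, 4, 7] : List ℤ),
    ∀ q ∈ ([-8, -5, -2, 1, 4, 7] : List ℤ), ∀ w ∈ ([-6, -3, 0, 3, 6] : List ℤ),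
    let V := p + q
    let y := 1 + w - v - V
    let A := (2 * v + 3 * V - 2 * w - 4) / 2
    let B := 1 + 2 * y + A
    let C := 1 - 3 * w + 2 * v - 2 * V + 3 * A + 4 * B
    (2 * v + 3 * V - 2 * w - 4) % 2 = 0 →
    1 + v ^ 2 + p ^ 2 + q ^ 2 + w ^ 2 + 2 * y ^ 2 + A ^ 2 + B ^ 2 + C ^ 2 = 72 →
    y % 2 = 1 ∧ w % 2 = 1 := by decide +kernel

theorem three_pow_cases {x : G} (hx : orderOf x = 3) {m : ℕ} (hm : ¬ 3 ∣ m) : x ^ m = x ∨ x ^ m = x⁻¹ := by
  have hx3 : x ^ 3 = 1 := hx ▸ pow_orderOf_eq_one x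
  rcases (show m % 3 = 1 ∨ m % 3 = 2 by omega) with h | h
  · refine Or.inl ?_
    conv_rhs => rw [← pow_one x]
    exact pow_red hx h
  · refine Or.inr ?_
    rw [pow_red hx (show m % 3 = 2 % 3 from h)]
    exact eq_inv_of_mul_eq_one_left (by rw [← pow_succ]; exact hx3)

theorem three_real (hG : IsM11 G) {x : G} (hx : orderOf x = 3) (χ : IrrCharacter G) :
    ∃ z : ℤ, (χ : G → ℂ) x = z := by
  refine rational_int_of_invariant (isCharacter_of_irr χ.2) x fun m hm => ?_
  rw [card_eq hG] at hm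
  have h3 : ¬ 3 ∣ m := fun h => by
    have := Nat.dvd_gcd h (show 3 ∣ 7920 by norm_num)
    rw [hm.gcd_eq_one] at this
    norm_num at this
  rcases three_pow_cases hx h3 with h | h <;> rw [h]
  exact irr_of_isConj χ (three_conj hG (by rw [orderOf_inv, hx]) hx)

theorem cent3_ne_seventy_two (hG : IsM11 G) {x : G} (hx : orderOf x = 3) :
    Nat.card (Subgroup.centralizer ({x} : Set G)) ≠ 72 := by
  classical
  intro hc
  haveI : Fact (Nat.Prime 11) := ⟨by norm_num⟩
  haveI : Fact (Nat.Prime 3) := ⟨Nat.prime_three⟩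
  haveI : Fact (Nat.Prime 2) := ⟨Nat.prime_two⟩
  obtain ⟨a, ha⟩ := exists_prime_orderOf_dvd_card' (G := G) 11 (by rw [card_eq hG]; norm_num)
  obtain ⟨T⟩ := exists_table hG ha
  obtain ⟨k, pp, qq, v, w, y, A, B, C, V, -, hset, hkp, hkq, hpq, hv, hw, hy, hy6, hA, hB, hC, hV,
    mv, mw, my, mA, mB, mC, E1, E2, E3, E4⟩ := T.three_values hG ha hx
  obtain ⟨p, hp⟩ := three_real hG hx (T.e pp)
  obtain ⟨q, hq⟩ := three_real hG hx (T.e qq)
  have hk10 : degTen pp = 10 ∧ degTen qq = 10 := by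
    have hd : ∀ j ∈ ({2, 3, 4} : Finset (Fin 10)), degTen j = 10 := by decide
    rw [← hset] at hd
    exact ⟨hd pp (by simp), hd qq (by simp)⟩
  have hmod : ∀ j z, (T.e j : G → ℂ) x = ((z : ℤ) : ℂ) → z % 3 = (degTen j : ℤ) % 3 := by
    intro j z hz
    have h := genChar_modEq_mul (isGenChar_of_char (isCharacter_of_irr (T.e j).2)) (p := 3) (y := x) (z := 1) (k := 1)
      (by rw [pow_one, ← hx, pow_orderOf_eq_one]) (Commute.one_right x) (a := z) (b := (degTen j : ℤ))
      (c := (degTen j : ℤ)) (by rw [mul_one, hz]) (by rw [T.one_apply, Int.cast_natCast])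
      (by rw [one_pow, T.one_apply, Int.cast_natCast])
    exact h
  have mp' := hmod pp p hp
  have mq' := hmod qq q hq
  rw [hk10.1] at mp'
  rw [hk10.2] at mq'
  have hpqV : p + q = V := by rw [hp, hq] at hV; exact_mod_cast hV
  have h := T.norm_split (x := x) hset hkp hkq hpq
  rw [hc, T.first, triv_apply, hv, hp, hq, hw, hy, hy6, hA, hB, hC] at h
  simp only [Complex.normSq_one, Complex.normSq_intCast] at h
  have hn : 1 + v ^ 2 + p ^ 2 + q ^ 2 + w ^ 2 + 2 * y ^ 2 + A ^ 2 + B ^ 2 + C ^ 2 = 72 := by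
    have : ((1 + v ^ 2 + p ^ 2 + q ^ 2 + w ^ 2 + 2 * y ^ 2 + A ^ 2 + B ^ 2 + C ^ 2 : ℤ) : ℝ) = ((72 : ℤ) : ℝ) := by
      push_cast
      norm_num at h
      linarith
    exact_mod_cast this
  have bd : ∀ z : ℤ, z ^ 2 ≤ 72 → -8 ≤ z ∧ z ≤ 8 := fun z hz => ⟨by nlinarith only [hz], by nlinarith only [hz]⟩
  obtain ⟨v1, v2⟩ := bd v (by linarith [sq_nonneg p, sq_nonneg q, sq_nonneg w, sq_nonneg y, sq_nonneg A, sq_nonneg B, sq_nonneg C])
  obtain ⟨p1, p2⟩ := bd p (by linarith [sq_nonneg v, sq_nonneg q, sq_nonneg w, sq_nonneg y, sq_nonneg A, sq_nonneg B, sq_nonneg C])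
  obtain ⟨q1, q2⟩ := bd q (by linarith [sq_nonneg v, sq_nonneg p, sq_nonneg w, sq_nonneg y, sq_nonneg A, sq_nonneg B, sq_nonneg C])
  obtain ⟨w1, w2⟩ := bd w (by linarith [sq_nonneg v, sq_nonneg p, sq_nonneg q, sq_nonneg y, sq_nonneg A, sq_nonneg B, sq_nonneg C])
  subst hpqV
  have hy' : y = 1 + w - v - (p + q) := by omega
  have hA' : A = (2 * v + 3 * (p + q) - 2 * w - 4) / 2 := by omega
  have hpar : (2 * v + 3 * (p + q) - 2 * w - 4) % 2 = 0 := by omega
  have hB' : B = 1 + 2 * y + A := by omega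
  have hC' : C = 1 - 3 * w + 2 * v - 2 * (p + q) + 3 * A + 4 * B := by omega
  obtain ⟨oy, ow⟩ : y % 2 = 1 ∧ w % 2 = 1 := by
    have h2 := col_check v (by simp; omega) p (by simp; omega) q (by simp; omega) w (by simp; omega) hpar
    subst hC' hB' hA' hy'
    exact h2 hn
  -- an element of order six
  obtain ⟨j, hjC, hjo⟩ := CfsgLib.Order7920.exists_order Nat.prime_two
    (show 2 ∣ Nat.card (Subgroup.centralizer ({x} : Set G)) by rw [hc]; norm_num)
  have hcomm : Commute x j := (mem_cent.mp hjC).symm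
  have hx3 : x ^ 3 = 1 := hx ▸ pow_orderOf_eq_one x
  have hj2 : j ^ 2 = 1 := hjo ▸ pow_orderOf_eq_one j
  obtain ⟨s, hs, s0, s1, s5, s6, -, -, -, -, -, hsc⟩ := T.two_column hG ha hjo
  have hz720 : (x * j) ^ 720 = 1 := by
    rw [hcomm.mul_pow, show 720 = 3 * 240 from rfl, pow_mul, hx3, one_pow, one_mul, show 3 * 240 = 2 * 360 from rfl,
      pow_mul, hj2, one_pow]
  obtain ⟨e, he5, he6, -⟩ := T.Sh.exc_int hG ha hz720
  obtain ⟨f, hf, -⟩ := int_value hG ha (one_pow 2) (T.e 1) (fun ψ h1 _ _ => by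
    obtain ⟨l, rfl⟩ := T.bij.2 ψ
    rw [T.deg, T.deg] at h1
    rw [(by decide : ∀ l, degTen l = degTen 1 → l = 1) l h1]) hz720
  have g5 : (T.e 5 : G → ℂ) (x * j) = (e : ℂ) := by rw [show T.e 5 = T.Sh.f 5 from T.low 5]; exact he5
  have g6 : (T.e 6 : G → ℂ) (x * j) = (e : ℂ) := by rw [show T.e 6 = T.Sh.f 6 from T.low 6]; exact he6
  have cong : ∀ l zz xx, (T.e l : G → ℂ) (x * j) = ((zz : ℤ) : ℂ) → (T.e l : G → ℂ) x = ((xx : ℤ) : ℂ) →
      zz % 3 = s l % 3 ∧ zz % 2 = xx % 2 := by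
    intro l zz xx hzz hxx
    have hF := isGenChar_of_char (isCharacter_of_irr (T.e l).2)
    constructor
    · exact genChar_modEq_mul hF (p := 3) (y := x) (z := j) (k := 1) (by rw [pow_one]; exact hx3) hcomm
        (a := zz) (b := s l) (c := s l) hzz (hs l) (by
          rw [pow_one, pow_succ j 2, hj2, one_mul]; exact hs l)
    · exact genChar_modEq_mul hF (p := 2) (y := j) (z := x) (k := 1) (by rw [pow_one]; exact hj2) hcomm.symm
        (a := zz) (b := xx) (c := xx) (by rw [← hcomm.eq]; exact hzz) hxx (by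
          rw [pow_one, show x ^ 2 = x⁻¹ from eq_inv_of_mul_eq_one_left (by rw [← pow_succ]; exact hx3),
            irr_inv, hxx, map_intCast])
  obtain ⟨e3, e2⟩ := cong 5 e y g5 hy
  obtain ⟨f3, f2⟩ := cong 1 f w hf hw
  rw [s5] at e3
  rw [s1] at f3
  have be : 9 ≤ e ^ 2 := by
    rcases (show 3 ≤ e ∨ e ≤ -3 by omega) with h | h <;> nlinarith only [h]
  have bf : 9 ≤ f ^ 2 := by
    rcases (show 3 ≤ f ∨ f ≤ -3 by omega) with h | h <;> nlinarith only [h]
  have hcz : Nat.card (Subgroup.centralizer ({x * j} : Set G)) ≤ 24 := by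
    set D := Subgroup.centralizer ({x * j} : Set G) with hD
    have hDx : D ≤ Subgroup.centralizer ({x} : Set G) := by
      intro c hc
      refine mem_cent.mpr ?_
      have h4 := (Commute.pow_right (mem_cent.mp hc : Commute c (x * j)) 4).eq
      rwa [hcomm.mul_pow, pow_succ x 3, hx3, one_mul, show 4 = 2 * 2 from rfl, pow_mul j, hj2, one_pow, mul_one] at h4
    have hDj : D ≤ Subgroup.centralizer ({j} : Set G) := by
      intro c hc
      refine mem_cent.mpr ?_
      have h3 := (Commute.pow_right (mem_cent.mp hc : Commute c (x * j)) 3).eq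
      rwa [hcomm.mul_pow, hx3, one_mul, pow_succ j 2, hj2, one_mul] at h3
    have d1 := Subgroup.card_dvd_of_le hDx
    have d2 := Subgroup.card_dvd_of_le hDj
    rw [hc] at d1
    rw [hsc] at d2
    exact Nat.le_of_dvd (by norm_num) (show Nat.card D ∣ 24 from Nat.dvd_gcd d1 d2)
  have hle : ∑ l ∈ ({0, 1, 5, 6} : Finset (Fin 10)), Complex.normSq ((T.e l : G → ℂ) (x * j)) ≤
      (Nat.card (Subgroup.centralizer ({x * j} : Set G)) : ℝ) := by
    have h := sum_irr_mul_conj (x * j) (x * j)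
    rw [if_pos (IsConj.refl _)] at h
    simp only [Complex.mul_conj, ← Complex.ofReal_sum] at h
    have h' : (∑ χ : IrrCharacter G, Complex.normSq ((χ : G → ℂ) (x * j))) =
        (Nat.card (Subgroup.centralizer ({x * j} : Set G)) : ℝ) := by exact_mod_cast h
    rw [← h', T.sum_all]
    exact Finset.sum_le_sum_of_subset_of_nonneg (Finset.subset_univ _) fun _ _ _ => Complex.normSq_nonneg _
  rw [Finset.sum_insert (by decide), Finset.sum_insert (by decide), Finset.sum_pair (by decide), T.first,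
    triv_apply, hf, g5, g6, Complex.normSq_one, Complex.normSq_intCast, Complex.normSq_intCast] at hle
  have : ((1 + f * f + (e * e + e * e) : ℤ) : ℝ) ≤ ((24 : ℤ) : ℝ) := by
    push_cast
    have : (Nat.card (Subgroup.centralizer ({x * j} : Set G)) : ℝ) ≤ 24 := by exact_mod_cast hcz
    linarith
  have := Int.cast_le.mp this
  nlinarith only [this, be, bf]

open Subgroup in
/-- The centraliser of an element of order three has order eighteen. -/
theorem cent3 (hG : IsM11 G) {x : G} (hx : orderOf x = 3) :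
    Nat.card (centralizer ({x} : Set G)) = 18 := by
  classical
  haveI : Fact (Nat.Prime 3) := ⟨Nat.prime_three⟩
  obtain ⟨P, hxP, -, hPC⟩ := exists_nine hG hx
  set N := normalizer ((P : Subgroup G) : Set G) with hN
  have hx1 : x ≠ 1 := fun e => by rw [e, orderOf_one] at hx; norm_num at hx
  have hex := fun y : {y : (P : Subgroup G) // y ≠ 1} =>
    norm3_trans hG P hxP y.1.2 hx1 (fun e => y.2 (Subtype.ext e))
  choose n hn he using hex
  let F : {y : (P : Subgroup G) // y ≠ 1} × ↥(N ⊓ centralizer ({x} : Set G)) → N :=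
    fun z => ⟨n z.1 * (z.2 : G), mul_mem (hn z.1) z.2.2.1⟩
  have hact : ∀ z : {y : (P : Subgroup G) // y ≠ 1} × ↥(N ⊓ centralizer ({x} : Set G)),
      (n z.1 * (z.2 : G)) * x * (n z.1 * (z.2 : G))⁻¹ = (z.1.1 : G) := fun z => by
    calc (n z.1 * (z.2 : G)) * x * (n z.1 * (z.2 : G))⁻¹
        = n z.1 * ((z.2 : G) * x * (z.2 : G)⁻¹) * (n z.1)⁻¹ := by group
      _ = n z.1 * x * (n z.1)⁻¹ := by rw [mem_cent.mp z.2.2.2, mul_inv_cancel_right]
      _ = _ := he z.1
  have hF : Function.Bijective F := by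
    constructor
    · intro p q hpq
      have h' : n p.1 * (p.2 : G) = n q.1 * (q.2 : G) := congrArg Subtype.val hpq
      have h1 : p.1 = q.1 := Subtype.ext (Subtype.ext (by rw [← hact p, ← hact q, h']))
      rw [h1] at h'
      exact Prod.ext h1 (Subtype.ext (mul_left_cancel h'))
    · intro g
      have hy : (g : G) * x * (g : G)⁻¹ ∈ (P : Subgroup G) := (mem_normalizer_iff.1 g.2 x).1 hxP
      have hy1 : (⟨_, hy⟩ : (P : Subgroup G)) ≠ 1 := fun e => hx1 (conj_eq_one_iff.1 (congrArg Subtype.val e))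
      set y : {y : (P : Subgroup G) // y ≠ 1} := ⟨⟨_, hy⟩, hy1⟩ with hydef
      refine ⟨(y, ⟨(n y)⁻¹ * (g : G), mem_inf.mpr ⟨mul_mem (inv_mem (hn y)) g.2, mem_cent.mpr ?_⟩⟩),
        Subtype.ext (mul_inv_cancel_left _ _)⟩
      have h2 : n y * x * (n y)⁻¹ = (g : G) * x * (g : G)⁻¹ := he y
      calc (n y)⁻¹ * (g : G) * x = (n y)⁻¹ * ((g : G) * x * (g : G)⁻¹) * g := by group
        _ = (n y)⁻¹ * (n y * x * (n y)⁻¹) * g := by rw [h2]
        _ = x * ((n y)⁻¹ * g) := by group
  have hcard := Nat.card_eq_of_bijective F hF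
  rw [Nat.card_prod, hN, card_norm3 hG P, Nat.card_eq_fintype_card (α := {y : (P : Subgroup G) // y ≠ 1}),
    Fintype.card_subtype_compl, Fintype.card_subtype_eq, ← Nat.card_eq_fintype_card, sylow3_card hG P] at hcard
  have h18 : Nat.card ↥(N ⊓ centralizer ({x} : Set G)) = 18 := by rw [hN]; omega
  set C := centralizer ({x} : Set G) with hC
  let P' := P.subtype hPC
  have hNP : Nat.card (normalizer ((P' : Subgroup C) : Set C)) = 18 := by
    rw [show (P' : Subgroup C) = (P : Subgroup G).subgroupOf C from rfl, ← subgroupOf_normalizer_eq hPC,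
      ← inf_subgroupOf_right, Nat.card_congr (subgroupOfEquivOfLe inf_le_right).toEquiv, h18]
  have hm := card_sylow_modEq_one 3 C
  rw [P'.card_eq_index_normalizer] at hm
  change (normalizer ((P' : Subgroup C) : Set C)).index ≡ 1 [MOD 3] at hm
  have hi := (normalizer ((P' : Subgroup C) : Set C)).card_mul_index
  rw [hNP] at hi
  have hcases := cent3_cases hG hx
  have h72 := cent3_ne_seventy_two hG hx
  rw [← hC] at hcases h72
  simp only [List.mem_cons, List.not_mem_nil, or_false] at hcases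
  unfold Nat.ModEq at hm
  omega

open Subgroup in
/-- Two Sylow subgroups of order nine with a common element are equal. -/
theorem sylow3_ti (hG : IsM11 G) {P Q : Sylow 3 G} {x : G} (hP : x ∈ (P : Subgroup G))
    (hQ : x ∈ (Q : Subgroup G)) (h1 : x ≠ 1) : P = Q := by
  classical
  haveI : Fact (Nat.Prime 3) := ⟨Nat.prime_three⟩
  set C := centralizer ({x} : Set G) with hC
  have hle : ∀ R : Sylow 3 G, x ∈ (R : Subgroup G) → (R : Subgroup G) ≤ C := fun R hR y hy =>
    mem_cent.mpr (mem_centralizer_iff.mp (sylow3_le_cent hG R hy) x hR).symm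
  have hm := card_sylow_modEq_one 3 C
  let P' := P.subtype (hle P hP)
  have hi : (P' : Subgroup C).index = 2 := by
    have h := (P' : Subgroup C).card_mul_index
    have hCc : Nat.card C = 18 := cent3 hG (sylow3_exp hG P hP h1)
    have hPc : Nat.card (P' : Subgroup C) = 9 :=
      (Nat.card_congr (subgroupOfEquivOfLe (hle P hP)).toEquiv).trans (sylow3_card hG P)
    rw [hPc, hCc] at h
    omega
  haveI : (P' : Subgroup C).Normal := normal_of_index_eq_two hi
  letI := Sylow.unique_of_normal P' inferInstance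
  exact Sylow.subtype_injective (Subsingleton.elim (P.subtype (hle P hP)) (Q.subtype (hle Q hQ)))

end CfsgSimpleM11
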