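/-
The group acts with rank three on its Sylow subgroups of order nine.
-/
import Cfsg.Agent.Lib.SimpleM11.ThreeTI

set_option autoImplicit false
set_option linter.style.haveILetI false
set_option linter.unusedSectionVars false

namespace CfsgSimpleM11

open Cfsg CfsgLib.CharTheory
open scoped ComplexConjugate

universe u
variable {G : Type u} [Group G] [Fintype G]

/-- The stabiliser of a point. -/
noncomputable abbrev stab3 (P : Sylow 3 G) : Subgroup G := MulAction.stabilizer G P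

theorem stab3_eq (P : Sylow 3 G) : stab3 P = Subgroup.normalizer ((P : Subgroup G) : Set G) :=
  haveI : Fact (Nat.Prime 3) := ⟨Nat.prime_three⟩
  P.stabilizer_eq_normalizer

theorem card_stab3 (hG : IsM11 G) (P : Sylow 3 G) : Nat.card (stab3 P) = 144 := by
  rw [stab3_eq, card_norm3 hG P]

theorem card_points (hG : IsM11 G) : Nat.card (Sylow 3 G) = 55 := by
  haveI : Fact (Nat.Prime 3) := ⟨Nat.prime_three⟩
  obtain ⟨P⟩ : Nonempty (Sylow 3 G) := inferInstance
  have h := (Subgroup.normalizer ((P : Subgroup G) : Set G)).card_mul_index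
  rw [card_norm3 hG P, card_eq hG] at h
  rw [P.card_eq_index_normalizer]
  change (Subgroup.normalizer ((P : Subgroup G) : Set G)).index = 55
  omega

theorem card_conj_fibre (g y : G) [Decidable (IsConj y g)] :
    Nat.card {h : G // h⁻¹ * g * h = y} =
      if IsConj y g then Nat.card (Subgroup.centralizer ({y} : Set G)) else 0 := by
  split_ifs with hc
  · obtain ⟨h0, hh0⟩ := isConj_iff.mp hc
    have hy : h0⁻¹ * g * h0 = y := by rw [← hh0]; group
    refine Nat.card_congr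
      { toFun := fun h => ⟨h0⁻¹ * h.1, mem_cent.mpr ?_⟩
        invFun := fun c => ⟨h0 * c.1, ?_⟩
        left_inv := fun h => Subtype.ext (mul_inv_cancel_left _ _)
        right_inv := fun c => Subtype.ext (inv_mul_cancel_left _ _) }
    · calc h0⁻¹ * h.1 * y = h0⁻¹ * h.1 * (h.1⁻¹ * g * h.1) := by rw [h.2]
        _ = (h0⁻¹ * g * h0) * (h0⁻¹ * h.1) := by group
        _ = y * (h0⁻¹ * h.1) := by rw [hy]
    · rw [← hh0]
      have hcy := mem_cent.mp c.2
      calc (h0 * c.1)⁻¹ * (h0 * y * h0⁻¹) * (h0 * c.1) = c.1⁻¹ * (y * c.1) := by group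
        _ = y := by rw [← hcy, inv_mul_cancel_left]
  · rw [Nat.card_eq_zero]
    refine Or.inl ⟨fun h => hc (isConj_iff.mpr ⟨h.1, ?_⟩)⟩
    calc h.1 * y * h.1⁻¹ = h.1 * (h.1⁻¹ * g * h.1) * h.1⁻¹ := by rw [h.2]
      _ = g := by group

/-- The multiplicity of the trivial character on a subgroup. -/
theorem exists_fix_mult (H : Subgroup G) [Fintype H] (χ : IrrCharacter G) :
    ∃ m : ℕ, ∑ y : H, (χ : G → ℂ) y = (Nat.card H : ℂ) * m := by
  obtain ⟨d, ρ, -, hρ⟩ := χ.2
  let σ : Representation ℂ H (Fin d → ℂ) := ρ.comp H.subtype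
  haveI : Invertible (Nat.card H : ℂ) := invertibleOfNonzero (Nat.cast_ne_zero.2 Nat.card_pos.ne')
  have h := σ.card_inv_mul_sum_char_eq_finrank
  refine ⟨Module.finrank ℂ σ.invariants, ?_⟩
  rw [inv_mul_eq_iff_eq_mul₀ (Nat.cast_ne_zero.2 Nat.card_pos.ne')] at h
  rw [← h, ← hρ]
  rfl

/-- Second orthogonality summed over a subgroup. -/
theorem mult_column (H : Subgroup G) [Fintype H] (n : IrrCharacter G → ℕ)
    (hn : ∀ χ : IrrCharacter G, ∑ y : H, (χ : G → ℂ) y = (Nat.card H : ℂ) * n χ) (g : G) :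
    (Nat.card H : ℂ) * ∑ χ : IrrCharacter G, (n χ : ℂ) * conj ((χ : G → ℂ) g) =
      (Nat.card {h : G // h⁻¹ * g * h ∈ H} : ℂ) := by
  classical
  have hfib : Nat.card {h : G // h⁻¹ * g * h ∈ H} = ∑ y : H, Nat.card {h : G // h⁻¹ * g * h = (y : G)} := by
    rw [← Nat.card_sigma]
    refine Nat.card_congr
      { toFun := fun h => ⟨⟨_, h.2⟩, ⟨h.1, rfl⟩⟩
        invFun := fun p => ⟨p.2.1, by rw [p.2.2]; exact p.1.2⟩
        left_inv := fun h => rfl
        right_inv := fun p => ?_ }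
    obtain ⟨⟨y, hy⟩, ⟨h, hh⟩⟩ := p
    simp only at hh
    subst hh
    rfl
  rw [hfib, Nat.cast_sum, Finset.mul_sum]
  simp only [← mul_assoc, ← hn, Finset.sum_mul]
  rw [Finset.sum_comm]
  refine Finset.sum_congr rfl fun y _ => ?_
  rw [sum_irr_mul_conj, card_conj_fibre]
  split_ifs <;> simp

/-- The degree of the permutation character's constituents. -/
theorem orbit_count (hG : IsM11 G) (P : Sylow 3 G) :
    Nat.card (MulAction.orbitRel.Quotient (stab3 P) (Sylow 3 G)) = 3 := by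
  classical
  haveI : Fact (Nat.Prime 11) := ⟨by norm_num⟩
  haveI : Fact (Nat.Prime 5) := ⟨by norm_num⟩
  obtain ⟨a, ha⟩ := exists_prime_orderOf_dvd_card' (G := G) 11 (by rw [card_eq hG]; norm_num)
  obtain ⟨u, hu⟩ := exists_prime_orderOf_dvd_card' (G := G) 5 (by rw [card_eq hG]; norm_num)
  obtain ⟨T⟩ := exists_table hG ha
  set H := stab3 P with hH
  haveI := Fintype.ofFinite H
  choose n hn using exists_fix_mult H
  have hH0 : (Nat.card H : ℂ) ≠ 0 := Nat.cast_ne_zero.2 Nat.card_pos.ne'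
  have hcard := card_stab3 hG P
  rw [← hH] at hcard
  have hzero : ∀ g : G, ¬ orderOf g ∣ 144 → ∑ χ : IrrCharacter G, (n χ : ℂ) * conj ((χ : G → ℂ) g) = 0 := by
    intro g hg
    have h := mult_column H n hn g
    rw [show Nat.card {h : G // h⁻¹ * g * h ∈ H} = 0 from by
      rw [Nat.card_eq_zero]
      refine Or.inl ⟨fun x => hg ?_⟩
      have := Subgroup.orderOf_dvd_natCard H x.2
      rwa [hcard, orderOf_of_isConj (g := g) (isConj_iff.mpr ⟨x.1⁻¹, by rw [inv_inv]⟩)] at this, Nat.cast_zero] at h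
    exact (mul_eq_zero.mp h).resolve_left hH0
  have hone : ∑ χ : IrrCharacter G, (n χ : ℂ) * (dg χ : ℂ) = 55 := by
    have h := mult_column H n hn 1
    rw [Nat.card_congr (Equiv.subtypeUnivEquiv (p := fun h : G => h⁻¹ * 1 * h ∈ H) (fun h : G => by
      rw [mul_one, inv_mul_cancel]; exact one_mem H)), card_eq hG, hcard] at h
    simp only [irr_degree, map_natCast] at h
    push_cast at h
    linear_combination h / 144
  have htriv : n (triv G) = 1 := by
    have h := hn (triv G)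
    simp only [triv_apply] at h
    rw [Finset.sum_const, Finset.card_univ, ← Nat.card_eq_fintype_card, nsmul_eq_mul] at h
    exact_mod_cast (mul_left_cancel₀ hH0 h).symm
  have h56 : n (T.e 6) = n (T.e 5) := by
    have h5 := hn (T.e 5)
    have h6 := hn (T.e 6)
    rw [show T.e 6 = T.Sh.f 6 from T.low 6] at h6 ⊢
    rw [show T.e 5 = T.Sh.f 5 from T.low 5] at h5 ⊢
    simp only [T.Sh.pair] at h6
    rw [Fintype.sum_equiv (Equiv.inv H) (fun y : H => (T.Sh.f 5 : G → ℂ) (y : G)⁻¹)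
      (fun y : H => (T.Sh.f 5 : G → ℂ) (y : G)) (fun y => rfl), h5] at h6
    exact_mod_cast (mul_left_cancel₀ hH0 h6).symm
  have ha' := hzero a (by rw [ha]; norm_num)
  have hu' := hzero u (by rw [hu]; norm_num)
  rw [T.sum_all, sum_ten] at ha' hu' hone
  simp only [T.five_values hG hu, map_intCast, h56, Matrix.cons_val_zero, Matrix.cons_val_one,
    Matrix.cons_val] at hu'
  simp only [T.deg, degTen, h56, Matrix.cons_val_zero, Matrix.cons_val_one, Matrix.cons_val, Nat.cast_ofNat,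
    Nat.cast_one] at hone
  rw [T.first, htriv] at hu' hone ha'
  have r : ∀ j : Fin 5, conj ((T.Sh.f (j.castLE (by norm_num)) : G → ℂ) a) = (valTwo j : ℂ) := fun j => by
    rw [(T.Sh.real j).1, map_intCast]
  have l : ∀ j : Fin 7, T.e (j.castLE (by norm_num)) = T.Sh.f j := T.low
  have r1 : conj ((T.e 1 : G → ℂ) a) = ((1 : ℤ) : ℂ) := by rw [show T.e 1 = T.Sh.f 1 from l 1]; exact r 1
  have r2 : conj ((T.e 2 : G → ℂ) a) = ((-1 : ℤ) : ℂ) := by rw [show T.e 2 = T.Sh.f 2 from l 2]; exact r 2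
  have r3 : conj ((T.e 3 : G → ℂ) a) = ((-1 : ℤ) : ℂ) := by rw [show T.e 3 = T.Sh.f 3 from l 3]; exact r 3
  have r4 : conj ((T.e 4 : G → ℂ) a) = ((-1 : ℤ) : ℂ) := by rw [show T.e 4 = T.Sh.f 4 from l 4]; exact r 4
  have r56 : conj ((T.e 5 : G → ℂ) a) + conj ((T.e 6 : G → ℂ) a) = ((-1 : ℤ) : ℂ) := by
    rw [show T.e 5 = T.Sh.f 5 from l 5, show T.e 6 = T.Sh.f 6 from l 6, T.Sh.pair, ← map_add, T.Sh.pair_sum]
    simp
  have rest : ∀ j : Fin 10, 7 ≤ j.val → conj ((T.e j : G → ℂ) a) = 0 := by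
    intro j hj
    rw [(T.Sh.rest (T.e j) (fun ⟨l', hl'⟩ => ?_)).1, map_zero]
    rw [← l l'] at hl'
    have h1 := congrArg Fin.val (T.bij.1 hl')
    simp only [Fin.val_castLE] at h1
    omega
  rw [h56, triv_apply, map_one, r1, r2, r3, r4, rest 7 (by decide), rest 8 (by decide), rest 9 (by decide)] at ha'
  set m1 := n (T.e 1); set m2 := n (T.e 2); set m3 := n (T.e 3); set m4 := n (T.e 4); set m5 := n (T.e 5)
  set m7 := n (T.e 7); set m8 := n (T.e 8); set m9 := n (T.e 9)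
  have e1 : 1 + (m1 : ℤ) - m2 - m3 - m4 - m5 = 0 := by
    have : ((1 + (m1 : ℤ) - m2 - m3 - m4 - m5 : ℤ) : ℂ) = ((0 : ℤ) : ℂ) := by
      push_cast at ha' r56 ⊢
      linear_combination ha' - (m5 : ℂ) * r56
    exact_mod_cast this
  have e2 : 1 + 2 * (m5 : ℤ) + m7 - m8 = 0 := by
    have : ((1 + 2 * (m5 : ℤ) + m7 - m8 : ℤ) : ℂ) = ((0 : ℤ) : ℂ) := by
      push_cast at hu' ⊢
      linear_combination hu'
    exact_mod_cast this
  have e3 : 1 + 45 * m1 + 10 * m2 + 10 * m3 + 10 * m4 + 32 * m5 + 11 * m7 + 44 * m8 + 55 * m9 = 55 := by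
    have : ((1 + 45 * m1 + 10 * m2 + 10 * m3 + 10 * m4 + 32 * m5 + 11 * m7 + 44 * m8 + 55 * m9 : ℕ) : ℂ) =
        ((55 : ℕ) : ℂ) := by
      push_cast
      push_cast at hone
      linear_combination hone
    exact_mod_cast this
  have hsq : ∑ χ : IrrCharacter G, n χ ^ 2 = 3 := by
    rw [T.sum_all]
    simp only [Fin.sum_univ_succ, Fin.sum_univ_zero, add_zero]
    change n (T.e 0) ^ 2 + (m1 ^ 2 + (m2 ^ 2 + (m3 ^ 2 + (m4 ^ 2 + (m5 ^ 2 + (n (T.e 6) ^ 2 + (m7 ^ 2 +
      (m8 ^ 2 + m9 ^ 2)))))))) = 3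
    rw [T.first, htriv, h56]
    obtain ⟨q1, q5, q7, q8, q9⟩ : m1 = 0 ∧ m5 = 0 ∧ m7 = 0 ∧ m8 = 1 ∧ m9 = 0 := by omega
    rw [q1, q5, q7, q8, q9]
    rcases (show (m2 = 1 ∧ m3 = 0 ∧ m4 = 0) ∨ (m2 = 0 ∧ m3 = 1 ∧ m4 = 0) ∨ (m2 = 0 ∧ m3 = 0 ∧ m4 = 1) by omega)
      with ⟨p2, p3, p4⟩ | ⟨p2, p3, p4⟩ | ⟨p2, p3, p4⟩ <;> rw [p2, p3, p4] <;> norm_num
  -- Burnside's count
  haveI := Fintype.ofFinite (Sylow 3 G)
  haveI := Fintype.ofFinite (MulAction.orbitRel.Quotient H (Sylow 3 G))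
  have hB := MulAction.sum_card_fixedBy_eq_card_orbits_mul_card_group H (Sylow 3 G)
  have hfix : ∀ y : H, ((Nat.card H * Fintype.card (MulAction.fixedBy (Sylow 3 G) y) : ℕ) : ℂ) =
      (Nat.card H : ℂ) * ∑ χ : IrrCharacter G, (n χ : ℂ) * conj ((χ : G → ℂ) (y : G)) := by
    intro y
    rw [mult_column H n hn, Nat.cast_inj, ← Nat.card_eq_fintype_card]
    haveI : Fact (Nat.Prime 3) := ⟨Nat.prime_three⟩
    have hiff : ∀ h : G, h⁻¹ * (y : G) * h ∈ H ↔ y • (h • P) = h • P := fun h => by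
      show h⁻¹ * (y : G) * h ∈ MulAction.stabilizer G P ↔ _
      rw [MulAction.mem_stabilizer_iff, mul_smul, mul_smul, inv_smul_eq_iff]
      rfl
    choose t ht using fun Q : Sylow 3 G => MulAction.exists_smul_eq G P Q
    rw [mul_comm, ← Nat.card_prod]
    symm
    refine Nat.card_congr
      { toFun := fun h => (⟨h.1 • P, (hiff h.1).1 h.2⟩, ⟨(t (h.1 • P))⁻¹ * h.1, by
          show _ ∈ MulAction.stabilizer G P
          rw [MulAction.mem_stabilizer_iff, mul_smul, inv_smul_eq_iff, ht]⟩)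
        invFun := fun p => ⟨t p.1.1 * (p.2 : G), (hiff _).2 (by
          rw [mul_smul, MulAction.mem_stabilizer_iff.1 p.2.2, ht]; exact p.1.2)⟩
        left_inv := fun h => Subtype.ext (mul_inv_cancel_left _ _)
        right_inv := fun p => ?_ }
    have hs : (t p.1.1 * (p.2 : G)) • P = p.1.1 := by rw [mul_smul, MulAction.mem_stabilizer_iff.1 p.2.2, ht]
    refine Prod.ext (Subtype.ext hs) (Subtype.ext ?_)
    show (t ((t p.1.1 * (p.2 : G)) • P))⁻¹ * (t p.1.1 * (p.2 : G)) = (p.2 : G)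
    rw [hs, inv_mul_cancel_left]
  have key : ((∑ y : H, Fintype.card (MulAction.fixedBy (Sylow 3 G) y) : ℕ) : ℂ) = (Nat.card H : ℂ) * 3 := by
    apply mul_left_cancel₀ hH0
    rw [Nat.cast_sum, Finset.mul_sum]
    simp only [← Nat.cast_mul, hfix]
    rw [← Finset.mul_sum, Finset.sum_comm]
    congr 1
    have : ((∑ χ : IrrCharacter G, n χ ^ 2 : ℕ) : ℂ) = ((3 : ℕ) : ℂ) := by rw [hsq]
    push_cast at this
    rw [← this, Finset.mul_sum]
    refine Finset.sum_congr rfl fun χ _ => ?_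
    rw [← Finset.mul_sum, ← map_sum, hn χ, map_mul, map_natCast, map_natCast]
    ring
  rw [hB, Nat.cast_mul, Nat.card_eq_fintype_card (α := H), mul_comm] at key
  have := mul_left_cancel₀ (by rw [← Nat.card_eq_fintype_card]; exact hH0) key
  rw [Nat.card_eq_fintype_card]
  exact_mod_cast this

theorem orbit_size (hG : IsM11 G) {P Q : Sylow 3 G} (hne : Q ≠ P) :
    Nat.card (MulAction.orbit (stab3 P) Q) * Nat.card ↥(stab3 P ⊓ stab3 Q) = 144 ∧
      9 ∣ Nat.card (MulAction.orbit (stab3 P) Q) := by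
  classical
  haveI : Fact (Nat.Prime 3) := ⟨Nat.prime_three⟩
  have h := (MulAction.stabilizer (stab3 P) Q).card_mul_index
  rw [MulAction.index_stabilizer, card_stab3 hG P, ← Nat.card_coe_set_eq] at h
  have e : Nat.card (MulAction.stabilizer (stab3 P) Q) = Nat.card ↥(stab3 P ⊓ stab3 Q) := by
    rw [show MulAction.stabilizer (stab3 P) Q = (stab3 Q).subgroupOf (stab3 P) from rfl,
      ← Subgroup.inf_subgroupOf_left, Nat.card_congr (Subgroup.subgroupOfEquivOfLe inf_le_left).toEquiv]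
  rw [e, mul_comm] at h
  refine ⟨h, ?_⟩
  have h3 : ¬ 3 ∣ Nat.card ↥(stab3 P ⊓ stab3 Q) := by
    intro hd
    obtain ⟨y, hy, hyo⟩ := CfsgLib.Order7920.exists_order Nat.prime_three hd
    have hp : IsPGroup 3 (Subgroup.zpowers y) := IsPGroup.of_card (n := 1) (by rw [Nat.card_zpowers, hyo, pow_one])
    have hin : ∀ R : Sylow 3 G, y ∈ stab3 R → y ∈ (R : Subgroup G) := by
      intro R hR
      rw [stab3_eq] at hR
      have h : Subgroup.zpowers y ⊓ Subgroup.normalizer ((R : Subgroup G) : Set G) = Subgroup.zpowers y ⊓ R :=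
        hp.inf_normalizer_sylow R
      rw [inf_eq_left.mpr (Subgroup.zpowers_le.mpr hR)] at h
      exact (h.le.trans inf_le_right) (Subgroup.mem_zpowers y)
    exact hne (sylow3_ti hG (hin P hy.1) (hin Q hy.2) (fun e => by rw [e, orderOf_one] at hyo; norm_num at hyo)).symm
  have hc : (Nat.card ↥(stab3 P ⊓ stab3 Q)).Coprime 9 :=
    (((Nat.Prime.coprime_iff_not_dvd Nat.prime_three).mpr h3).pow_left 2).symm
  exact hc.symm.dvd_of_dvd_mul_right (by rw [h]; norm_num)

/-- The two nontrivial suborbits. -/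
theorem rank_three (hG : IsM11 G) (P : Sylow 3 G) :
    ∃ A B : Finset (Sylow 3 G), A.card = 18 ∧ B.card = 36 ∧ P ∉ A ∧ P ∉ B ∧ Disjoint A B ∧
      (∀ Q, Q ≠ P → Q ∈ A ∨ Q ∈ B) ∧
      (∀ Q ∈ A, ∀ R, R ∈ A ↔ R ∈ MulAction.orbit (stab3 P) Q) ∧
      (∀ Q ∈ B, ∀ R, R ∈ B ↔ R ∈ MulAction.orbit (stab3 P) Q) := by
  classical
  haveI := Fintype.ofFinite (Sylow 3 G)
  set H := stab3 P with hH
  haveI := Fintype.ofFinite (MulAction.orbitRel.Quotient H (Sylow 3 G))
  have hq : (Finset.univ : Finset (MulAction.orbitRel.Quotient H (Sylow 3 G))).card = 3 := by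
    rw [Finset.card_univ, ← Nat.card_eq_fintype_card]; exact orbit_count hG P
  let π : Sylow 3 G → MulAction.orbitRel.Quotient H (Sylow 3 G) := fun R => Quotient.mk _ R
  have hπ : ∀ Q R, π R = π Q ↔ R ∈ MulAction.orbit H Q := fun Q R =>
    ⟨fun h => MulAction.orbitRel_apply.mp (Quotient.exact h), fun h => Quotient.sound (MulAction.orbitRel_apply.mpr h)⟩
  have hP : ∀ R, π R = π P → R = P := by
    intro R h
    obtain ⟨g, rfl⟩ := (hπ P R).1 h
    exact MulAction.mem_stabilizer_iff.1 g.2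
  obtain ⟨q1, q2, hq12, hpair⟩ := Finset.card_eq_two.mp (show (Finset.univ.erase (π P)).card = 2 by
    rw [Finset.card_erase_of_mem (Finset.mem_univ _), hq])
  set F : MulAction.orbitRel.Quotient H (Sylow 3 G) → Finset (Sylow 3 G) :=
    fun q => Finset.univ.filter (fun R => π R = q) with hF
  have hsize : ∀ q ∈ Finset.univ.erase (π P), (F q).card ∣ 144 ∧ 9 ∣ (F q).card ∧ P ∉ F q := by
    intro q hq'
    obtain ⟨Q, rfl⟩ := Quotient.exists_rep q
    have hne : Q ≠ P := fun e => (Finset.mem_erase.1 hq').1 (by rw [e])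
    have hc : (F (π Q)).card = Nat.card (MulAction.orbit H Q) := by
      rw [Nat.card_eq_fintype_card, ← Set.toFinset_card]
      refine congrArg Finset.card ?_
      ext R
      simp [hF, hπ]
    obtain ⟨h1, h2⟩ := orbit_size hG hne
    refine ⟨?_, ?_, ?_⟩
    · show (F (π Q)).card ∣ 144
      rw [hc, hH]; exact Dvd.intro _ h1
    · show 9 ∣ (F (π Q)).card
      rw [hc, hH]; exact h2
    · intro h
      exact (Finset.mem_erase.1 hq').1 (Finset.mem_filter.1 h).2.symm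
  obtain ⟨a1, b1, c1⟩ := hsize q1 (by rw [hpair]; simp)
  obtain ⟨a2, b2, c2⟩ := hsize q2 (by rw [hpair]; simp)
  have hcover : ∀ R, R ≠ P → R ∈ F q1 ∨ R ∈ F q2 := by
    intro R hR
    have : π R ∈ Finset.univ.erase (π P) := Finset.mem_erase.2 ⟨fun h => hR (hP R h), Finset.mem_univ _⟩
    rw [hpair, Finset.mem_insert, Finset.mem_singleton] at this
    rcases this with h | h
    · exact Or.inl (Finset.mem_filter.2 ⟨Finset.mem_univ _, h⟩)
    · exact Or.inr (Finset.mem_filter.2 ⟨Finset.mem_univ _, h⟩)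
  have hdisj : Disjoint (F q1) (F q2) := Finset.disjoint_left.2 fun R h1 h2 =>
    hq12 ((Finset.mem_filter.1 h1).2.symm.trans (Finset.mem_filter.1 h2).2)
  have hsum : (F q1).card + (F q2).card = 54 := by
    have h1 : insert P (F q1 ∪ F q2) = Finset.univ := Finset.eq_univ_of_forall fun R => by
      by_cases hR : R = P
      · simp [hR]
      · rcases hcover R hR with h | h <;> simp [h]
    have h2 := congrArg Finset.card h1
    rw [Finset.card_insert_of_notMem (by simp [c1, c2]), Finset.card_union_of_disjoint hdisj, Finset.card_univ,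
      ← Nat.card_eq_fintype_card, card_points hG] at h2
    omega
  have hmem : ∀ q : MulAction.orbitRel.Quotient H (Sylow 3 G), ∀ Q ∈ F q, ∀ R, R ∈ F q ↔ R ∈ MulAction.orbit H Q := by
    intro q Q hQ R
    rw [Finset.mem_filter, ← (Finset.mem_filter.1 hQ).2, ← hπ]
    simp
  have key : ∀ x ∈ Nat.divisors 144, ∀ y ∈ Nat.divisors 144, 9 ∣ x → 9 ∣ y → x + y = 54 →
      (x = 18 ∧ y = 36) ∨ (x = 36 ∧ y = 18) := by decide +kernel
  rcases key _ (Nat.mem_divisors.2 ⟨a1, by norm_num⟩) _ (Nat.mem_divisors.2 ⟨a2, by norm_num⟩) b1 b2 hsum with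
    ⟨h1, h2⟩ | ⟨h1, h2⟩
  · exact ⟨F q1, F q2, h1, h2, c1, c2, hdisj, hcover, hmem q1, hmem q2⟩
  · exact ⟨F q2, F q1, h2, h1, c2, c1, hdisj.symm, fun Q hQ => (hcover Q hQ).symm, hmem q2, hmem q1⟩

end CfsgSimpleM11
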