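/-
The strongly regular graph on fifty-five points.
-/
import Cfsg.Agent.Lib.SimpleM11.RankThree
import Mathlib.Combinatorics.SimpleGraph.StronglyRegular

set_option autoImplicit false
set_option linter.style.haveILetI false
set_option linter.unusedSectionVars false

namespace CfsgSimpleM11

open Cfsg

universe u
variable {G : Type u} [Group G] [Fintype G]

theorem inter_conj (g : G) (P Q : Sylow 3 G) :
    Nat.card ↥(stab3 (g • P) ⊓ stab3 (g • Q)) = Nat.card ↥(stab3 P ⊓ stab3 Q) := by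
  symm
  refine Nat.card_congr ((MulAut.conj g).toEquiv.subtypeEquiv fun y => ?_)
  simp only [Subgroup.mem_inf, MulAction.mem_stabilizer_iff]
  show _ ↔ (g * y * g⁻¹) • g • P = g • P ∧ (g * y * g⁻¹) • g • Q = g • Q
  simp only [mul_smul, inv_smul_smul, smul_left_cancel_iff]

/-- Adjacency: the suborbit of length eighteen. -/
def Adj3 (P Q : Sylow 3 G) : Prop := Q ≠ P ∧ Nat.card ↥(stab3 P ⊓ stab3 Q) = 8

/-- The graph. -/
def graph3 (G : Type u) [Group G] [Fintype G] : SimpleGraph (Sylow 3 G) where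
  Adj := Adj3
  symm := ⟨fun P Q h => ⟨h.1.symm, by rw [inf_comm]; exact h.2⟩⟩
  loopless := ⟨fun P h => h.1 rfl⟩

theorem graph3_smul (g : G) (P Q : Sylow 3 G) : (graph3 G).Adj (g • P) (g • Q) ↔ (graph3 G).Adj P Q := by
  show (_ ∧ _) ↔ (_ ∧ _)
  rw [inter_conj, ne_eq, smul_left_cancel_iff]

theorem graph3_eighteen (hG : IsM11 G) {P : Sylow 3 G} :
    ∃ A B : Finset (Sylow 3 G), A.card = 18 ∧ (∀ Q, (graph3 G).Adj P Q ↔ Q ∈ A) ∧
      (∀ Q, (Q ≠ P ∧ ¬ (graph3 G).Adj P Q) ↔ Q ∈ B) ∧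
      (∀ Q ∈ A, ∀ R ∈ A, R ∈ MulAction.orbit (stab3 P) Q) ∧
      (∀ Q ∈ B, ∀ R ∈ B, R ∈ MulAction.orbit (stab3 P) Q) := by
  classical
  obtain ⟨A, B, hA, hB, hPA, hPB, hdis, hcov, hmA, hmB⟩ := rank_three hG P
  haveI := Fintype.ofFinite (Sylow 3 G)
  have hsz : ∀ (S : Finset (Sylow 3 G)), (∀ Q ∈ S, ∀ R, R ∈ S ↔ R ∈ MulAction.orbit (stab3 P) Q) →
      ∀ Q ∈ S, Nat.card (MulAction.orbit (stab3 P) Q) = S.card := by
    intro S hS Q hQ
    rw [Nat.card_eq_fintype_card, ← Set.toFinset_card]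
    exact congrArg Finset.card (Finset.ext fun R => by rw [Set.mem_toFinset, hS Q hQ R])
  have hiff : ∀ Q, (graph3 G).Adj P Q ↔ Q ∈ A := by
    intro Q
    constructor
    · rintro ⟨hne, h8⟩
      rcases hcov Q hne with h | h
      · exact h
      · have h1 := (orbit_size hG hne).1
        rw [hsz B hmB Q h, hB, h8] at h1
        norm_num at h1
    · intro h
      have hne : Q ≠ P := fun e => hPA (e ▸ h)
      refine ⟨hne, ?_⟩
      have h1 := (orbit_size hG hne).1
      rw [hsz A hmA Q h, hA] at h1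
      omega
  refine ⟨A, B, hA, hiff, fun Q => ?_, fun Q hQ R hR => (hmA Q hQ R).1 hR, fun Q hQ R hR => (hmB Q hQ R).1 hR⟩
  rw [hiff]
  exact ⟨fun h => (hcov Q h.1).resolve_left h.2,
    fun h => ⟨fun e => hPB (e ▸ h), Finset.disjoint_right.1 hdis h⟩⟩

theorem arc_transitive (hG : IsM11 G) {P Q P' Q' : Sylow 3 G} (hne : Q ≠ P) (hne' : Q' ≠ P')
    (h : (graph3 G).Adj P Q ↔ (graph3 G).Adj P' Q') : ∃ g : G, g • P = P' ∧ g • Q = Q' := by
  haveI : Fact (Nat.Prime 3) := ⟨Nat.prime_three⟩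
  obtain ⟨g, hg⟩ := MulAction.exists_smul_eq G P P'
  obtain ⟨A, B, -, hA, hB, htA, htB⟩ := graph3_eighteen hG (P := P')
  have h1 : (graph3 G).Adj P' (g • Q) ↔ (graph3 G).Adj P' Q' := by
    rw [← h, ← hg, graph3_smul]
  have hne1 : g • Q ≠ P' := by rw [← hg]; exact fun e => hne (smul_left_cancel g e)
  by_cases ha : (graph3 G).Adj P' Q'
  · obtain ⟨k, hk⟩ := htA _ ((hA _).1 (h1.2 ha)) _ ((hA _).1 ha)
    exact ⟨(k : G) * g, by rw [mul_smul, hg]; exact MulAction.mem_stabilizer_iff.1 k.2, by rw [mul_smul]; exact hk⟩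
  · obtain ⟨k, hk⟩ := htB _ ((hB _).1 ⟨hne1, fun e => ha (h1.1 e)⟩) _ ((hB _).1 ⟨hne', ha⟩)
    exact ⟨(k : G) * g, by rw [mul_smul, hg]; exact MulAction.mem_stabilizer_iff.1 k.2, by rw [mul_smul]; exact hk⟩

theorem common_card_eq (hG : IsM11 G) {P Q P' Q' : Sylow 3 G} (hne : Q ≠ P) (hne' : Q' ≠ P')
    (h : (graph3 G).Adj P Q ↔ (graph3 G).Adj P' Q') :
    Nat.card ((graph3 G).commonNeighbors P Q) = Nat.card ((graph3 G).commonNeighbors P' Q') := by
  obtain ⟨g, rfl, rfl⟩ := arc_transitive hG hne hne' h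
  refine Nat.card_congr ((MulAction.toPerm g).subtypeEquiv fun R => ?_)
  show R ∈ (graph3 G).commonNeighbors P Q ↔ g • R ∈ (graph3 G).commonNeighbors (g • P) (g • Q)
  simp only [SimpleGraph.mem_commonNeighbors, graph3_smul]

section Matrix

variable {V : Type*} [Fintype V] [DecidableEq V] (Γ : SimpleGraph V) [DecidableRel Γ.Adj]

theorem param_check : ∀ m < (9 : ℕ), ∀ f < (56 : ℕ),
    ((f : ℤ) - 27) ^ 2 * ((17 - 3 * (m : ℤ)) ^ 2 + 4 * (18 - (m : ℤ))) = (18 + 27 * (17 - 3 * (m : ℤ))) ^ 2 →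
    m = 4 := by decide +kernel

/-- The only strongly regular parameters on fifty-five points of valency eighteen. -/
theorem srg_params {ℓ μ : ℕ} (h : Γ.IsSRGWith 55 18 ℓ μ) (hℓ : ℓ ≤ 17) : ℓ = 9 ∧ μ = 4 := by
  classical
  have hp := h.param_eq Γ (by norm_num)
  norm_num at hp
  have hμ : μ ≤ 8 := by omega
  have hℓμ : ℓ + 2 * μ = 17 := by omega
  suffices hμ4 : μ = 4 by omega
  set D : ℂ := ((ℓ : ℂ) - μ) ^ 2 + 4 * (18 - μ) with hD
  obtain ⟨δ, hδ⟩ := IsAlgClosed.exists_eq_mul_self D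
  have hD0 : D ≠ 0 := by
    have : ((((ℓ : ℤ) - μ) ^ 2 + 4 * (18 - (μ : ℤ)) : ℤ) : ℂ) ≠ 0 := by
      apply Int.cast_ne_zero.2
      have : 0 < ((ℓ : ℤ) - μ) ^ 2 + 4 * (18 - (μ : ℤ)) := by
        have := sq_nonneg ((ℓ : ℤ) - μ)
        omega
      omega
    push_cast at this
    exact this
  have hδ0 : δ ≠ 0 := fun e => hD0 (by rw [hδ, e, mul_zero])
  set s : ℂ := ((ℓ : ℂ) - μ - δ) / 2 with hs
  set r : ℂ := ((ℓ : ℂ) - μ + δ) / 2 with hr
  have hrs : r * s = -(18 - (μ : ℂ)) := by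
    rw [hr, hs]; linear_combination (1 / 4 : ℂ) * hδ
  have hℓc : (ℓ : ℂ) + 2 * μ = 17 := by exact_mod_cast hℓμ
  let J : Matrix V V ℂ := Matrix.of fun _ _ => 1
  set A := Γ.adjMatrix ℂ with hA
  have hcard : (Fintype.card V : ℂ) = 55 := by rw [h.card]; norm_num
  have hJJ : J * J = (55 : ℂ) • J := by
    ext i j
    simp [J, Matrix.mul_apply, hcard]
  have hAJ : A * J = (18 : ℂ) • J := by
    ext i j
    rw [hA, SimpleGraph.adjMatrix_mul_apply]
    simp only [J, Matrix.of_apply, Finset.sum_const, nsmul_eq_mul, mul_one, Matrix.smul_apply, smul_eq_mul,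
      SimpleGraph.card_neighborFinset_eq_degree, h.regular i, Nat.cast_ofNat]
  have hJA : J * A = (18 : ℂ) • J := by
    have hs' : A.transpose = A := by rw [hA, SimpleGraph.transpose_adjMatrix]
    have := congrArg Matrix.transpose hAJ
    rwa [Matrix.transpose_mul, hs', Matrix.transpose_smul, show J.transpose = J from rfl] at this
  have hC : Γᶜ.adjMatrix ℂ = J - 1 - A := by
    ext i j
    by_cases hij : i = j
    · subst hij; simp [J, hA]
    · by_cases ha : Γ.Adj i j <;> simp [J, hA, Matrix.one_apply_ne hij, ha, hij]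
  have hA2 : A * A = (18 - (μ : ℂ)) • (1 : Matrix V V ℂ) + ((ℓ : ℂ) - μ) • A + (μ : ℂ) • J := by
    have := h.matrix_eq (α := ℂ)
    rw [← hA, pow_two, hC] at this
    rw [this]
    simp only [← Nat.cast_smul_eq_nsmul ℂ]
    push_cast
    module
  set c : ℂ := (18 - s) / 55 with hc
  set M : Matrix V V ℂ := A - s • (1 : Matrix V V ℂ) - c • J with hM
  have hM2 : M * M = δ • M := by
    have : M * M = A * A - (2 * s) • A + (s * s) • (1 : Matrix V V ℂ) - (c * (2 * (18 - s)) - c * c * 55) • J := by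
      rw [hM]
      simp only [sub_mul, mul_sub, Matrix.smul_mul, Matrix.mul_smul, Matrix.one_mul, Matrix.mul_one, hAJ, hJA, hJJ,
        smul_sub, smul_smul]
      module
    rw [this, hA2, hM]
    have e1 : (ℓ : ℂ) - μ - 2 * s = δ := by rw [hs]; ring
    have e2 : 18 - (μ : ℂ) + s * s = -(δ * s) := by
      have hrd : r = s + δ := by rw [hr, hs]; ring
      rw [hrd] at hrs
      linear_combination hrs
    have e3 : (μ : ℂ) - (c * (2 * (18 - s)) - c * c * 55) = -(δ * c) := by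
      have hrd : r = s + δ := by rw [hr, hs]; ring
      have hsum : r + s = (ℓ : ℂ) - μ := by rw [hr, hs]; ring
      have hb : (18 - s) * (18 - r) = 55 * (μ : ℂ) := by
        linear_combination hrs - 18 * hsum - 18 * hℓc
      rw [hrd] at hb
      rw [hc]
      linear_combination (-1 / 55 : ℂ) * hb
    rw [smul_sub, smul_sub, smul_smul, smul_smul]
    calc (18 - (μ : ℂ)) • (1 : Matrix V V ℂ) + ((ℓ : ℂ) - μ) • A + (μ : ℂ) • J - (2 * s) • A +
          (s * s) • (1 : Matrix V V ℂ) - (c * (2 * (18 - s)) - c * c * 55) • J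
        = (18 - (μ : ℂ) + s * s) • (1 : Matrix V V ℂ) + ((ℓ : ℂ) - μ - 2 * s) • A +
          ((μ : ℂ) - (c * (2 * (18 - s)) - c * c * 55)) • J := by module
      _ = _ := by rw [e1, e2, e3]; module
  set E : Matrix V V ℂ := δ⁻¹ • M with hE
  have hE2 : E * E = E := by
    rw [hE, Matrix.smul_mul, Matrix.mul_smul, hM2, smul_smul, smul_smul]
    congr 1
    field_simp
  have hid : IsIdempotentElem (Matrix.toLin' E) := by
    show Matrix.toLin' E ∘ₗ Matrix.toLin' E = _
    rw [← Matrix.toLin'_mul, hE2]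
  set f := Module.finrank ℂ (LinearMap.range (Matrix.toLin' E)) with hf
  have hftr : E.trace = (f : ℂ) := by
    rw [← ((LinearMap.isProj_range_iff_isIdempotentElem _).2 hid).trace, LinearMap.trace_eq_matrix_trace ℂ (Pi.basisFun ℂ V)]
    congr 1
    rw [LinearMap.toMatrix_eq_toMatrix', LinearMap.toMatrix'_toLin']
  have hf55 : f < 56 := by
    have := Submodule.finrank_le (LinearMap.range (Matrix.toLin' E))
    rw [Module.finrank_fintype_fun_eq_card, h.card] at this
    omega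
  have htr : E.trace = δ⁻¹ * (-54 * s - 18) := by
    rw [hE, Matrix.trace_smul, smul_eq_mul]
    congr 1
    rw [hM, Matrix.trace_sub, Matrix.trace_sub, Matrix.trace_smul, Matrix.trace_smul, Matrix.trace_one, hA,
      SimpleGraph.trace_adjMatrix, hcard, show J.trace = (55 : ℂ) by simp [J, Matrix.trace, hcard], hc]
    simp only [smul_eq_mul]
    ring
  rw [hftr] at htr
  have h1 : ((f : ℂ) - 27) * δ = -(18 + 27 * ((ℓ : ℂ) - μ)) := by
    rw [htr, hs]
    field_simp
    ring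
  have h2 : ((((f : ℤ) - 27) ^ 2 * ((17 - 3 * (μ : ℤ)) ^ 2 + 4 * (18 - (μ : ℤ))) : ℤ) : ℂ) =
      (((18 + 27 * (17 - 3 * (μ : ℤ))) ^ 2 : ℤ) : ℂ) := by
    push_cast
    have hl : (ℓ : ℂ) = 17 - 2 * μ := by linear_combination hℓc
    rw [hl] at h1 hD
    calc ((f : ℂ) - 27) ^ 2 * ((17 - 3 * (μ : ℂ)) ^ 2 + 4 * (18 - (μ : ℂ)))
        = (((f : ℂ) - 27) * δ) ^ 2 := by rw [mul_pow, pow_two δ, ← hδ, hD]; ring
      _ = _ := by rw [h1]; ring
  exact param_check μ (by omega) f hf55 (by exact_mod_cast h2)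

end Matrix

theorem graph3_srg (hG : IsM11 G) [Fintype (Sylow 3 G)] [DecidableEq (Sylow 3 G)] [DecidableRel (graph3 G).Adj] :
    (graph3 G).IsSRGWith 55 18 9 4 := by
  classical
  haveI : Fact (Nat.Prime 3) := ⟨Nat.prime_three⟩
  obtain ⟨P⟩ : Nonempty (Sylow 3 G) := inferInstance
  obtain ⟨A, B, hAc, hA, hB, -, -⟩ := graph3_eighteen hG (P := P)
  have hreg : (graph3 G).IsRegularOfDegree 18 := by
    intro Q
    obtain ⟨A', -, hA'c, hA', -⟩ := graph3_eighteen hG (P := Q)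
    rw [← SimpleGraph.card_neighborFinset_eq_degree, ← hA'c]
    exact congrArg Finset.card (Finset.ext fun R => by rw [SimpleGraph.mem_neighborFinset, hA'])
  obtain ⟨Q, hQ⟩ : A.Nonempty := Finset.card_pos.1 (by omega)
  have hPQ := (hA Q).2 hQ
  obtain ⟨R, hR⟩ : B.Nonempty := by
    by_contra hne
    have hall : ∀ Q, Q ≠ P → Q ∈ A := fun Q hQ => by
      by_contra hQA
      exact hne ⟨Q, (hB Q).1 ⟨hQ, fun e => hQA ((hA Q).1 e)⟩⟩
    have h1 : insert P A = Finset.univ := Finset.eq_univ_of_forall fun Q => by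
      by_cases e : Q = P
      · simp [e]
      · simp [hall Q e]
    have h2 := congrArg Finset.card h1
    have h3 := Finset.card_insert_le P A
    rw [Finset.card_univ, ← Nat.card_eq_fintype_card, card_points hG] at h2
    omega
  obtain ⟨hRP, hPR⟩ := (hB R).2 hR
  have h : (graph3 G).IsSRGWith 55 18 (Nat.card ((graph3 G).commonNeighbors P Q))
      (Nat.card ((graph3 G).commonNeighbors P R)) :=
    { card := by rw [← Nat.card_eq_fintype_card, card_points hG]
      regular := hreg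
      of_adj := fun v w hvw => by
        rw [← Nat.card_eq_fintype_card]
        exact common_card_eq hG hvw.ne' hPQ.ne' (iff_of_true hvw hPQ)
      of_not_adj := fun v w hne hvw => by
        rw [← Nat.card_eq_fintype_card]
        exact common_card_eq hG hne.symm hRP (iff_of_false hvw hPR) }
  have hℓ : Nat.card ((graph3 G).commonNeighbors P Q) ≤ 17 := by
    rw [Nat.card_eq_fintype_card, ← Set.toFinset_card]
    have hsub : ((graph3 G).commonNeighbors P Q).toFinset ⊆ A.erase Q := fun S hS => by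
      rw [Set.mem_toFinset, SimpleGraph.mem_commonNeighbors] at hS
      exact Finset.mem_erase.2 ⟨hS.2.ne', (hA S).1 hS.1⟩
    refine (Finset.card_le_card hsub).trans ?_
    rw [Finset.card_erase_of_mem hQ, hAc]
  obtain ⟨e1, e2⟩ := srg_params (graph3 G) h hℓ
  rwa [e1, e2] at h

end CfsgSimpleM11
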