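/-
A simple group of order 7920 acts faithfully on eleven points.
-/
import Cfsg.Agent.Lib.SimpleM11.Graph
import Cfsg.Agent.Lib.SimpleM11.Bipartite

set_option autoImplicit false
set_option linter.style.haveILetI false
set_option linter.unusedSectionVars false

namespace CfsgSimpleM11

open Cfsg

universe u
variable {G : Type u} [Group G] [Fintype G]

theorem exists_embedding (hG : IsM11 G) : ∃ f : G →* Equiv.Perm (Fin 11), Function.Injective f := by
  classical
  haveI : Fact (Nat.Prime 3) := ⟨Nat.prime_three⟩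
  haveI := Fintype.ofFinite (Sylow 3 G)
  have hsrg := graph3_srg hG
  set Γ := graph3 G with hΓ
  set 𝒦 := tenCliques Γ with h𝒦
  have hmem : ∀ (g : G) (K : Finset (Sylow 3 G)), K ∈ 𝒦 → K.image (g • ·) ∈ 𝒦 := by
    intro g K hK
    rw [h𝒦, SimpleGraph.mem_cliqueFinset_iff, SimpleGraph.isNClique_iff, SimpleGraph.isClique_iff] at hK ⊢
    refine ⟨?_, by rw [Finset.card_image_of_injective _ (MulAction.injective g), hK.2]⟩
    intro v hv w hw hvw
    obtain ⟨v', hv', rfl⟩ := Finset.mem_image.1 hv
    obtain ⟨w', hw', rfl⟩ := Finset.mem_image.1 hw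
    rw [hΓ, graph3_smul]
    exact hK.1 hv' hw' (fun e => hvw (by rw [e]))
  letI act : MulAction G {K // K ∈ 𝒦} :=
    { smul := fun g K => ⟨K.1.image (g • ·), hmem g K.1 K.2⟩
      one_smul := fun K => Subtype.ext (by show K.1.image ((1 : G) • ·) = K.1; simp)
      mul_smul := fun g h K => Subtype.ext (by
        show K.1.image ((g * h) • ·) = (K.1.image (h • ·)).image (g • ·)
        rw [Finset.image_image]; exact Finset.image_congr fun x _ => mul_smul g h x) }
  have hcard : Fintype.card {K // K ∈ 𝒦} = 11 := by rw [Fintype.card_coe]; exact eleven_cliques Γ hsrg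
  let e : {K // K ∈ 𝒦} ≃ Fin 11 := Fintype.equivFinOfCardEq hcard
  let f : G →* Equiv.Perm (Fin 11) := (e.permCongrHom.toMonoidHom).comp (MulAction.toPermHom G {K // K ∈ 𝒦})
  refine ⟨f, ?_⟩
  have hinj : Function.Injective (MulAction.toPermHom G {K // K ∈ 𝒦}) := by
    rw [← MonoidHom.ker_eq_bot_iff]
    refine (normal_cases hG (MonoidHom.normal_ker _)).resolve_right fun htop => ?_
    obtain ⟨K, hK⟩ : 𝒦.Nonempty := Finset.card_pos.1 (by rw [h𝒦, eleven_cliques Γ hsrg]; norm_num)
    have hK10 : K.card = 10 := ((SimpleGraph.mem_cliqueFinset_iff).1 (h𝒦 ▸ hK)).card_eq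
    obtain ⟨x, hx⟩ := Finset.card_pos.1 (show 0 < K.card by omega)
    have hall : ∀ y, y ∈ K := fun y => by
      obtain ⟨g, hg⟩ := MulAction.exists_smul_eq G x y
      have hg' : g ∈ (MulAction.toPermHom G {K // K ∈ 𝒦}).ker := htop ▸ Subgroup.mem_top g
      have h1 : g • (⟨K, hK⟩ : {K // K ∈ 𝒦}) = ⟨K, hK⟩ := Equiv.ext_iff.mp (MonoidHom.mem_ker.mp hg') _
      have h2 : K.image (g • ·) = K := congrArg Subtype.val h1
      rw [← h2, ← hg]
      exact Finset.mem_image_of_mem _ hx
    have := congrArg Finset.card (Finset.eq_univ_of_forall hall)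
    rw [hK10, Finset.card_univ, ← Nat.card_eq_fintype_card, card_points hG] at this
    norm_num at this
  exact e.permCongrHom.injective.comp hinj

end CfsgSimpleM11
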