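/-
A simple group of order 7920 is the automorphism group of a Steiner system on eleven points.
-/
import Cfsg.Agent.Lib.SimpleM11.Embed
import Cfsg.Agent.Lib.SimpleM11.Candidates
import Cfsg.Agent.Lib.SteinerTwelve.Groups

set_option autoImplicit false
set_option linter.style.haveILetI false
set_option linter.unusedSectionVars false

namespace CfsgSimpleM11

open Cfsg
open scoped Pointwise

universe u
variable {G : Type u} [Group G] [Fintype G]

theorem seven_dvd_of_iterate {α : Type*} (σ : Equiv.Perm α) (g : α → α) (hg : ⇑σ = g) {o : ℕ} (ho : o = 14 ∨ o = 21 ∨ o = 28)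
    (h1 : ∀ x, g^[o] x = x) (h2 : ∃ x, g^[o / 7] x ≠ x) : 7 ∣ orderOf σ := by
  have hp : ∀ k : ℕ, ⇑(σ ^ k) = g^[k] := fun k => by rw [Equiv.Perm.coe_pow, hg]
  have e1 : σ ^ o = 1 := Equiv.ext fun x => by rw [hp, h1]; rfl
  obtain ⟨x, hx⟩ := h2
  have e2 : σ ^ (o / 7) ≠ 1 := fun e => hx (by rw [← hp, e]; rfl)
  have hd := orderOf_dvd_of_pow_eq_one e1
  by_contra h7
  refine e2 (orderOf_dvd_iff_pow_eq_one.mp ?_)
  have ho7 : o = o / 7 * 7 := by omega
  exact (Nat.Coprime.dvd_of_dvd_mul_right (((Nat.Prime.coprime_iff_not_dvd (by norm_num)).mpr h7).symm) (ho7 ▸ hd))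

theorem eight_of_iterate {α : Type*} (σ : Equiv.Perm α) (g : α → α) (hg : ⇑σ = g)
    (h1 : ∀ x, g^[8] x = x) (h2 : ∃ x, g^[4] x ≠ x) : orderOf σ = 2 ^ 3 := by
  haveI : Fact (Nat.Prime 2) := ⟨Nat.prime_two⟩
  have hp : ∀ k : ℕ, ⇑(σ ^ k) = g^[k] := fun k => by rw [Equiv.Perm.coe_pow, hg]
  obtain ⟨x, hx⟩ := h2
  refine orderOf_eq_prime_pow (fun e => hx ?_) (Equiv.ext fun x => ?_)
  · rw [← hp]
    show (σ ^ 4) x = x
    rw [show (4 : ℕ) = 2 ^ 2 from rfl, e]; rfl
  · rw [hp]; exact h1 x

theorem nine_ne_zero : (9 : ZMod 11) ≠ 0 := by decide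

theorem mul_ne_zero_eleven (n : ℕ) {v : ZMod 11} (hv : v ≠ 0) : 9 ^ n * v ≠ 0 := by
  haveI : Fact (Nat.Prime 11) := ⟨by norm_num⟩
  exact mul_ne_zero (pow_ne_zero _ nine_ne_zero) hv

theorem exists_shift (hG : IsM11 G) :
    ∃ (f : G →* Equiv.Perm (ZMod 11)) (a : G), Function.Injective f ∧ orderOf a = 11 ∧ ⇑(f a) = shiftFun := by
  classical
  haveI : Fact (Nat.Prime 11) := ⟨by norm_num⟩
  obtain ⟨f0, hf0⟩ := exists_embedding hG
  obtain ⟨a, ha⟩ := exists_prime_orderOf_dvd_card' (G := G) 11 (by rw [card_eq hG]; norm_num)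
  set s := f0 a with hs
  have hso : orderOf s = 11 := by rw [hs, orderOf_injective f0 hf0, ha]
  obtain ⟨x0, hx0⟩ : ∃ x0, s x0 ≠ x0 := by
    by_contra h
    push Not at h
    rw [show s = 1 from Equiv.ext h, orderOf_one] at hso
    norm_num at hso
  let e : ZMod 11 → Fin 11 := fun k => (s ^ k.val) x0
  have he : Function.Injective e := by
    intro j k hjk
    have key : ∀ d : ℕ, (s ^ d) x0 = x0 → 11 ∣ d := by
      intro d hd
      by_contra hd'
      obtain ⟨m, hm⟩ := exists_pow_eq_self_of_coprime (x := s) (n := d)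
        (by rw [hso]; exact ((Nat.Prime.coprime_iff_not_dvd (by norm_num)).2 hd').symm)
      apply hx0
      conv_lhs => rw [← hm]
      have : ∀ m : ℕ, ((s ^ d) ^ m) x0 = x0 := by
        intro m
        induction m with
        | zero => rfl
        | succ m ih => rw [pow_succ, Equiv.Perm.mul_apply, hd, ih]
      exact this m
    rcases le_total j.val k.val with h | h
    · have h1 : (s ^ (k.val - j.val)) x0 = x0 := by
        apply (s ^ j.val).injective
        rw [← Equiv.Perm.mul_apply, ← pow_add, Nat.add_sub_cancel' h]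
        exact hjk.symm
      have := key _ h1
      have := k.val_lt
      exact ZMod.val_injective 11 (by omega)
    · have h1 : (s ^ (j.val - k.val)) x0 = x0 := by
        apply (s ^ k.val).injective
        rw [← Equiv.Perm.mul_apply, ← pow_add, Nat.add_sub_cancel' h]
        exact hjk
      have := key _ h1
      have := j.val_lt
      exact ZMod.val_injective 11 (by omega)
  let E := Equiv.ofBijective e ((Fintype.bijective_iff_injective_and_card e).2 ⟨he, by simp⟩)
  refine ⟨E.symm.permCongrHom.toMonoidHom.comp f0, a, E.symm.permCongrHom.injective.comp hf0, ha, funext fun k => ?_⟩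
  show E.symm (s (E k)) = k + 1
  rw [Equiv.symm_apply_eq]
  show s ((s ^ k.val) x0) = (s ^ (k + 1).val) x0
  rw [← Equiv.Perm.mul_apply, ← pow_succ']
  refine congrArg (fun p : Equiv.Perm (Fin 11) => p x0) ?_
  rw [pow_eq_pow_iff_modEq, hso, ZMod.val_add]
  exact (Nat.mod_modEq _ _).symm

/-- The three generators in normal form. -/
theorem exists_gens (hG : IsM11 G) :
    ∃ (f : G →* Equiv.Perm (ZMod 11)) (a b c : G) (i : Fin 10), Function.Injective f ∧ orderOf a = 11 ∧
      orderOf b = 5 ∧ b ∈ Subgroup.normalizer ((Subgroup.zpowers a : Subgroup G) : Set G) ∧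
      ⇑(f a) = shiftFun ∧ ⇑(f b) = tripleFun ∧ ⇑(f c) = candFun i := by
  classical
  haveI : Fact (Nat.Prime 5) := ⟨by norm_num⟩
  obtain ⟨f, a, hf, ha, hfa⟩ := exists_shift hG
  obtain ⟨g, hg⟩ := isConj_iff.mp (exists_conj_three hG ha)
  have hfg : ∀ x, f g (x + 1) = f g x + 3 := by
    intro x
    have h1 : f g * f a = f a ^ 3 * f g := by rw [← map_pow, ← map_mul, ← map_mul, ← hg, inv_mul_cancel_right]
    have h2 := congrArg (fun p : Equiv.Perm (ZMod 11) => p x) h1
    simp only [Equiv.Perm.mul_apply, pow_succ, pow_zero, one_mul, hfa, shiftFun] at h2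
    rw [h2]
    ring
  have hlin : ∀ n : ℕ, f g (n : ZMod 11) = 3 * (n : ZMod 11) + f g 0 := by
    intro n
    induction n with
    | zero => simp
    | succ n ih => push_cast; rw [hfg, ih]; ring
  set m := (-(f g 0)).val with hm
  set b := a ^ m * g with hb
  have hsh : ∀ (k : ℕ) (x : ZMod 11), (f a ^ k) x = x + k := by
    intro k x
    induction k with
    | zero => simp
    | succ k ih => rw [pow_succ', Equiv.Perm.mul_apply, ih, hfa]; simp only [shiftFun]; push_cast; ring
  have hfb : ⇑(f b) = tripleFun := by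
    funext x
    rw [hb, map_mul, map_pow, Equiv.Perm.mul_apply, hsh]
    conv_lhs => rw [← ZMod.natCast_zmod_val x, hlin, ZMod.natCast_zmod_val, hm, ZMod.natCast_zmod_val]
    simp [tripleFun]
  have hbo : orderOf b = 5 := by
    refine orderOf_eq_prime (hf ?_) ?_
    · rw [map_one, map_pow]
      refine Equiv.ext fun x => ?_
      rw [Equiv.Perm.coe_pow, hfb, Equiv.Perm.one_apply]
      exact (by decide : ∀ x : ZMod 11, tripleFun^[5] x = x) x
    · intro e
      have := congrArg (fun p : Equiv.Perm (ZMod 11) => p 1) (congrArg f e)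
      simp only [map_one, hfb, Equiv.Perm.one_apply] at this
      exact (by decide : tripleFun 1 ≠ 1) this
  have hbN : b ∈ Subgroup.normalizer ((Subgroup.zpowers a : Subgroup G) : Set G) :=
    mul_mem (Subgroup.pow_mem _ (Subgroup.le_normalizer (Subgroup.mem_zpowers a)) _) (mem_norm_of_conj_pow hg)
  obtain ⟨c0, hc0⟩ := isConj_iff.mp (five_conj_two hG hbo)
  have hphi : ∀ x, f c0 (3 * x) = 9 * f c0 x := by
    intro x
    have h1 : f c0 * f b = f b ^ 2 * f c0 := by rw [← map_pow, ← map_mul, ← map_mul, ← hc0, inv_mul_cancel_right]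
    have h2 := congrArg (fun p : Equiv.Perm (ZMod 11) => p x) h1
    simp only [Equiv.Perm.mul_apply, pow_two, hfb, tripleFun] at h2
    rw [h2]
    ring
  have hphik : ∀ (k : ℕ) (x : ZMod 11), f c0 (3 ^ k * x) = 9 ^ k * f c0 x := by
    intro k x
    induction k with
    | zero => simp
    | succ k ih => rw [pow_succ', mul_assoc, hphi, ih, pow_succ']; ring
  have h0 : f c0 0 = 0 := by
    have := hphi 0
    rw [mul_zero] at this
    exact (by decide : ∀ v : ZMod 11, v = 9 * v → v = 0) _ this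
  have hne : ∀ x, x ≠ 0 → f c0 x ≠ 0 := fun x hx h => hx ((f c0).injective (h.trans h0.symm))
  obtain ⟨⟨n, hn5⟩, hn⟩ := (by decide :
      ∀ v : ZMod 11, v ≠ 0 → ∃ n : Fin 5, 9 ^ n.val * v ∈ ([1, 2] : List (ZMod 11))) _ (hne 1 (by decide))
  have hfc : ∀ x, f (c0 * b ^ n) x = f c0 (3 ^ n * x) := by
    intro x
    rw [map_mul, map_pow, Equiv.Perm.mul_apply]
    congr 1
    have : ∀ n : ℕ, (f b ^ n) x = 3 ^ n * x := by
      intro n
      induction n with
      | zero => simp
      | succ n ih => rw [pow_succ', Equiv.Perm.mul_apply, ih, hfb]; simp only [tripleFun]; ring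
    exact this n
  set c := c0 * b ^ n with hc
  have hck : ∀ (k : ℕ) (x : ZMod 11), f c (3 ^ k * x) = 9 ^ k * f c x := by
    intro k x
    rw [hfc, hfc, mul_left_comm, hphik]
  have hc1 : f c 1 ∈ ([1, 2] : List (ZMod 11)) := by rw [hfc, hphik]; exact hn
  have hz : ∀ k < 5, f c 2 ≠ 9 ^ k * f c 1 := by
    intro k hk h
    have e := (f c).injective (h.trans (hck k 1).symm)
    rw [mul_one] at e
    exact (by decide : ∀ k < 5, (2 : ZMod 11) ≠ 3 ^ k) k hk e
  have hc20 : f c 2 ≠ 0 := by
    rw [hfc, hphik]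
    exact fun h => (mul_ne_zero_eleven n (hne 2 (by decide))) h
  obtain ⟨i, hi0, hi⟩ := cand_complete _ hc1 _ hc20 hz
  refine ⟨f, a, b, c, i, hf, ha, hbo, hbN, hfa, hfb, funext fun x => ?_⟩
  rcases point_cases x with rfl | ⟨k, hk, rfl⟩ | ⟨k, hk, rfl⟩
  · rw [hi0, hfc, mul_zero, h0]
  · rw [(hi k hk).1]
    conv_lhs => rw [← mul_one ((3 : ZMod 11) ^ k)]
    exact hck k 1
  · rw [(hi k hk).2]
    exact hck k 2

/-- A simple group of order 7920 is the automorphism group of a Steiner system. -/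
theorem exists_steiner (hG : IsM11 G) :
    ∃ B : Set (Finset (ZMod 11)), IsSteinerSystem 4 5 B ∧ Nonempty (G ≃* setSystemAut B) := by
  classical
  haveI : Fact (Nat.Prime 11) := ⟨by norm_num⟩
  obtain ⟨f, a, b, c, i, hf, ha, hbo, hbN, hfa, hfb, hfc⟩ := exists_gens hG
  have hbad : ∀ w : G, ∀ g, ⇑(f w) = g → ∀ o, (o = 14 ∨ o = 21 ∨ o = 28) → (∀ x, g^[o] x = x) →
      (∃ x, g^[o / 7] x ≠ x) → False := by
    intro w g hg o ho h1 h2
    have h7 := seven_dvd_of_iterate (f w) g hg ho h1 h2
    rw [orderOf_injective f hf] at h7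
    have := h7.trans (orderOf_dvd_natCard w)
    rw [card_eq hG] at this
    norm_num at this
  have key : ∀ (L : List ℕ) (w : G) (g : ZMod 11 → ZMod 11), IsSteinerSystem 4 5 (blockSet L) →
      (∀ h ∈ ([shiftFun, tripleFun, candFun i] : List (ZMod 11 → ZMod 11)),
        L.all (fun m => L.contains (imgMask (fun x => (h (x : ZMod 11)).val) m 11)) = true) →
      w ∈ Subgroup.closure {a, b, c} → ⇑(f w) = g → (∀ x, g^[8] x = x) → (∃ x, g^[4] x ≠ x) →
      ∃ B : Set (Finset (ZMod 11)), IsSteinerSystem 4 5 B ∧ Nonempty (G ≃* setSystemAut B) := by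
    intro L w g hS hinv hw hg h1 h2
    set H := Subgroup.closure ({a, b, c} : Set G) with hH
    have haH : a ∈ H := Subgroup.subset_closure (by simp)
    have hbH : b ∈ H := Subgroup.subset_closure (by simp)
    have htop : H = ⊤ := by
      have d11 : 11 ∣ Nat.card H := ha ▸ Subgroup.orderOf_dvd_natCard H haH
      have d5 : 5 ∣ Nat.card H := hbo ▸ Subgroup.orderOf_dvd_natCard H hbH
      have d8 : 8 ∣ Nat.card H := by
        have h8 := eight_of_iterate (f w) g hg h1 h2
        rw [orderOf_injective f hf] at h8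
        have := Subgroup.orderOf_dvd_natCard H hw
        rwa [h8] at this
      have hN : Subgroup.normalizer ((Subgroup.zpowers a : Subgroup G) : Set G) ≤ H := by
        have hle : Subgroup.zpowers a ⊔ Subgroup.zpowers b ≤
            Subgroup.normalizer ((Subgroup.zpowers a : Subgroup G) : Set G) :=
          sup_le Subgroup.le_normalizer (Subgroup.zpowers_le.mpr hbN)
        have h55 : 55 ∣ Nat.card ↥(Subgroup.zpowers a ⊔ Subgroup.zpowers b) := by
          have e1 := Subgroup.card_dvd_of_le (le_sup_left : Subgroup.zpowers a ≤ Subgroup.zpowers a ⊔ Subgroup.zpowers b)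
          have e2 := Subgroup.card_dvd_of_le (le_sup_right : Subgroup.zpowers b ≤ Subgroup.zpowers a ⊔ Subgroup.zpowers b)
          rw [Nat.card_zpowers, ha] at e1
          rw [Nat.card_zpowers, hbo] at e2
          exact Nat.Coprime.mul_dvd_of_dvd_of_dvd (show Nat.Coprime 11 5 by norm_num) e1 e2
        rw [← Subgroup.eq_of_le_of_card_ge hle (by rw [norm11 hG ha]; exact Nat.le_of_dvd Nat.card_pos h55)]
        exact sup_le (Subgroup.zpowers_le.mpr haH) (Subgroup.zpowers_le.mpr hbH)
      obtain ⟨P, hP⟩ := exists_sylow_of_zpowers hG ha (by norm_num)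
      have hPH : (P : Subgroup G) ≤ H := hP ▸ Subgroup.zpowers_le.mpr haH
      let P' := P.subtype hPH
      have hm := card_sylow_modEq_one 11 H
      rw [P'.card_eq_index_normalizer] at hm
      change (Subgroup.normalizer ((P' : Subgroup H) : Set H)).index ≡ 1 [MOD 11] at hm
      have hi := (Subgroup.normalizer ((P' : Subgroup H) : Set H)).card_mul_index
      have hc55 : Nat.card (Subgroup.normalizer ((P' : Subgroup H) : Set H)) = 55 := by
        rw [show (P' : Subgroup H) = (P : Subgroup G).subgroupOf H from rfl, ← Subgroup.subgroupOf_normalizer_eq hPH, hP,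
          Nat.card_congr (Subgroup.subgroupOfEquivOfLe hN).toEquiv, norm11 hG ha]
      rw [hc55] at hi
      have hd : Nat.card H ∣ 7920 := card_eq hG ▸ Subgroup.card_subgroup_dvd_card H
      have hd' : Nat.card H ∈ Nat.divisors 7920 := Nat.mem_divisors.2 ⟨hd, by norm_num⟩
      have kk : ∀ h ∈ Nat.divisors 7920, 55 ∣ h → 8 ∣ h → h / 55 % 11 = 1 → h = 7920 := by decide +kernel
      refine Subgroup.eq_top_of_card_eq H ?_
      rw [card_eq hG, kk _ hd' (Nat.Coprime.mul_dvd_of_dvd_of_dvd (show Nat.Coprime 5 11 by norm_num) d5 d11) d8]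
      rw [← hi, Nat.mul_div_cancel_left _ (by norm_num)]
      exact hm
    have hrange : f.range ≤ setSystemAut (blockSet L) := by
      rw [MonoidHom.range_eq_map, ← htop, hH, MonoidHom.map_closure, Subgroup.closure_le]
      rintro _ ⟨z, hz, rfl⟩
      simp only [Set.mem_insert_iff, Set.mem_singleton_iff] at hz
      rcases hz with rfl | rfl | rfl
      · exact preserves_of_list _ shiftFun hfa (hinv _ (by simp))
      · exact preserves_of_list _ tripleFun hfb (hinv _ (by simp))
      · exact preserves_of_list _ (candFun i) hfc (hinv _ (by simp))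
    obtain ⟨⟨-, hcard⟩, -⟩ := CfsgTwelve.aut11 (ZMod.card 11) hS
    have heq : f.range = setSystemAut (blockSet L) := Subgroup.eq_of_le_of_card_ge hrange (by
      rw [hcard, ← Nat.card_congr (MonoidHom.ofInjective hf).toEquiv, card_eq hG])
    exact ⟨_, hS, ⟨(MonoidHom.ofInjective hf).trans (MulEquiv.subgroupCongr heq)⟩⟩
  have ha' : a ∈ Subgroup.closure ({a, b, c} : Set G) := Subgroup.subset_closure (by simp)
  have hb' : b ∈ Subgroup.closure ({a, b, c} : Set G) := Subgroup.subset_closure (by simp)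
  have hc' : c ∈ Subgroup.closure ({a, b, c} : Set G) := Subgroup.subset_closure (by simp)
  have cm : ∀ x y : G, ⇑(f (x * y)) = ⇑(f x) ∘ ⇑(f y) := fun x y => by rw [map_mul]; rfl
  fin_cases i
  · exact absurd bad_word0 (fun h => hbad (a * c * b) _ (by simp only [cm, hfa, hfb, hfc]; rfl) 21 (by norm_num) h.1 h.2)
  · exact key blocks1 (a * a * c) _ blocks1_steiner blocks1_inv (mul_mem (mul_mem ha' ha') hc')
      (by simp only [cm, hfa, hfc]; rfl) eight_word1.1 eight_word1.2
  · exact absurd bad_word2 (fun h => hbad (a * a * c) _ (by simp only [cm, hfa, hfc]; rfl) 21 (by norm_num) h.1 h.2)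
  · exact key blocks3 (a * b * c) _ blocks3_steiner blocks3_inv (mul_mem (mul_mem ha' hb') hc')
      (by simp only [cm, hfa, hfb, hfc]; rfl) eight_word3.1 eight_word3.2
  · exact absurd bad_word4 (fun h => hbad (a * a * c) _ (by simp only [cm, hfa, hfc]; rfl) 21 (by norm_num) h.1 h.2)
  · exact absurd bad_word5 (fun h => hbad (a * c) _ (by simp only [cm, hfa, hfc]; rfl) 14 (by norm_num) h.1 h.2)
  · exact absurd bad_word6 (fun h => hbad (a * b * c * a * c) _ (by simp only [cm, hfa, hfb, hfc]; rfl) 21 (by norm_num) h.1 h.2)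
  · exact absurd bad_word7 (fun h => hbad (a * a * c * b) _ (by simp only [cm, hfa, hfb, hfc]; rfl) 14 (by norm_num) h.1 h.2)
  · exact absurd bad_word8 (fun h => hbad (a * b * c) _ (by simp only [cm, hfa, hfb, hfc]; rfl) 28 (by norm_num) h.1 h.2)
  · exact absurd bad_word9 (fun h => hbad (a * a * b * c) _ (by simp only [cm, hfa, hfb, hfc]; rfl) 28 (by norm_num) h.1 h.2)

/-- Any two simple groups of order 7920 are isomorphic. -/
theorem unique7920 {H : Type*} [Group H] [Finite H] (hG : IsM11 G) (hH : IsM11 H) : Nonempty (G ≃* H) := by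
  haveI := Fintype.ofFinite H
  obtain ⟨B, hB, ⟨eG⟩⟩ := exists_steiner hG
  obtain ⟨B', hB', ⟨eH⟩⟩ := exists_steiner hH
  let x : Fin 4 ↪ ZMod 11 := ⟨fun k => (k.val : ZMod 11), fun j k h => Fin.ext (by
    have := congrArg ZMod.val h
    rwa [ZMod.val_natCast_of_lt (by omega), ZMod.val_natCast_of_lt (by omega)] at this)⟩
  obtain ⟨ι, ⟨hι, -⟩, -⟩ := CfsgTwelve.extend_unique11 (ZMod.card 11) (ZMod.card 11) hB hB' x x
  have hs : B' = ι • B := by rw [← hι]; rfl
  exact ⟨(eG.trans (MulAction.stabilizerEquivStabilizer hs)).trans eH.symm⟩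

end CfsgSimpleM11
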